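import Groth.Agent.H9PiOne.HenselNoeth
import Groth.Agent.Graft.GenLift
import Groth.Agent.S0600
import Groth.Agent.PopescuLib.HenzColim

/-!
# Finite étale covers of a proper scheme over an arbitrary henselian pair
-/

set_option autoImplicit false
set_option linter.style.haveILetI false
set_option linter.unusedSectionVars false
set_option linter.unusedVariables false
set_option backward.isDefEq.respectTransparency false
set_option backward.isDefEq.respectTransparency.types false

universe u

open CategoryTheory CategoryTheory.Limits AlgebraicGeometry Opposite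

noncomputable section

namespace Groth.Agent.H9PiOne

open Groth.Agent Groth.Agent.MorLib

attribute [-instance] CategoryTheory.catToReflQuiver

namespace QuotLim

variable {A : Type u} [CommRing A] (I : Ideal A)

/-- The trace of the ideal on a finitely generated subring. -/
abbrev tr (s : Finset A) : Ideal (Algebra.adjoin ℤ (s : Set A)) :=
  I.comap (Algebra.adjoin ℤ (s : Set A)).val.toRingHom

/-- The inclusion of finitely generated subrings. -/
abbrev incl {s t : Finset A} (h : s ⟶ t) : Algebra.adjoin ℤ (s : Set A) →+* Algebra.adjoin ℤ (t : Set A) :=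
  (Subalgebra.inclusion (Algebra.adjoin_mono (Finset.coe_subset.2 (leOfHom h)))).toRingHom

/-- The quotients of the finitely generated subrings. -/
def rings : Finset A ⥤ CommRingCat.{u} where
  obj s := CommRingCat.of (Algebra.adjoin ℤ (s : Set A) ⧸ tr I s)
  map {s t} h := CommRingCat.ofHom (Ideal.quotientMap (tr I t) (incl h) fun _ hx => hx)
  map_id s := CommRingCat.hom_ext (Ideal.Quotient.ringHom_ext (RingHom.ext fun _ => rfl))
  map_comp h k := CommRingCat.hom_ext (Ideal.Quotient.ringHom_ext (RingHom.ext fun _ => rfl))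

/-- The maps to the quotient. -/
abbrev toQuot (s : Finset A) : (Algebra.adjoin ℤ (s : Set A) ⧸ tr I s) →+* A ⧸ I :=
  Ideal.quotientMap I (Algebra.adjoin ℤ (s : Set A)).val.toRingHom fun _ hx => hx

/-- The cocone. -/
def cocone : Cocone (rings I) where
  pt := CommRingCat.of (A ⧸ I)
  ι := { app := fun s => CommRingCat.ofHom (toQuot I s)
         naturality := fun _ _ _ => CommRingCat.hom_ext (Ideal.Quotient.ringHom_ext (RingHom.ext fun _ => rfl)) }

/-- The quotient is the colimit of the quotients of its finitely generated subrings. -/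
def isColimit : IsColimit (cocone I) := by
  classical
  haveI : ReflectsColimit (rings I) (forget CommRingCat.{u}) := reflectsColimit_of_reflectsIsomorphisms _ _
  refine isColimitOfReflects (forget CommRingCat.{u}) ?_
  refine Types.FilteredColimit.isColimitOf' _ _ (fun z => ?_) fun s x y h => ?_
  · obtain ⟨a, rfl⟩ := Ideal.Quotient.mk_surjective (z : A ⧸ I)
    exact ⟨{a}, Ideal.Quotient.mk _ ⟨a, Algebra.subset_adjoin (Finset.mem_singleton_self a)⟩, rfl⟩
  · exact ⟨s, 𝟙 s, congrArg _ (Ideal.quotientMap_injective (f := (Algebra.adjoin ℤ (s : Set A)).val.toRingHom) h)⟩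

/-- The spectra. -/
def diagram : (Finset A)ᵒᵖ ⥤ Scheme.{u} := (rings I).op ⋙ Scheme.Spec

/-- The cone. -/
def cone : Cone (diagram I) := Scheme.Spec.mapCone (cocone I).op

/-- It is a limit. -/
def isLimit : IsLimit (cone I) := isLimitOfPreserves Scheme.Spec (isColimit I).op

instance isAffine_obj (i : (Finset A)ᵒᵖ) : IsAffine ((diagram I).obj i) :=
  isAffine_Spec (CommRingCat.of (Algebra.adjoin ℤ ((i.unop : Finset A) : Set A) ⧸ tr I i.unop))

instance isAffineHom_map {i j : (Finset A)ᵒᵖ} (φ : i ⟶ j) : IsAffineHom ((diagram I).map φ) :=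
  isAffineHom_of_isAffine _

/-- The closed immersions of the quotients. -/
def τ (i : (Finset A)ᵒᵖ) : (diagram I).obj i ⟶ (ConsPropLib.NoethApprox.diagram (CommRingCat.of A)).obj i :=
  Spec.map (CommRingCat.ofHom (Ideal.Quotient.mk (tr I i.unop)))

theorem τ_naturality {i j : (Finset A)ᵒᵖ} (φ : i ⟶ j) :
    (diagram I).map φ ≫ τ I j = τ I i ≫ (ConsPropLib.NoethApprox.diagram (CommRingCat.of A)).map φ := by
  show Spec.map ((rings I).map φ.unop) ≫ Spec.map _ = Spec.map _ ≫ Spec.map ((ConsPropLib.NoethApprox.rings (CommRingCat.of A)).map φ.unop)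
  rw [← Spec.map_comp, ← Spec.map_comp]
  rfl

theorem cone_τ (i : (Finset A)ᵒᵖ) :
    (cone I).π.app i ≫ τ I i =
      Spec.map (CommRingCat.ofHom (Ideal.Quotient.mk I)) ≫ (ConsPropLib.NoethApprox.cone (CommRingCat.of A)).π.app i := by
  show Spec.map ((cocone I).ι.app i.unop) ≫ Spec.map _ =
    Spec.map _ ≫ Spec.map ((ConsPropLib.NoethApprox.cocone (CommRingCat.of A)).ι.app i.unop)
  rw [← Spec.map_comp, ← Spec.map_comp]
  rfl

end QuotLim

variable {A : Type u} [CommRing A] (I : Ideal A) [HenselianRing A I]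

/-- Covers lift, finite presentation case. -/
theorem liftsFEt_of_fp {X : Scheme.{u}} (f : X ⟶ Spec (CommRingCat.of A)) [IsProper f]
    [LocallyOfFinitePresentation f] : LiftsFEt (inc I f) := by
  classical
  intro V
  let AC := CommRingCat.of A
  let D := ConsPropLib.NoethApprox.diagram AC
  let c := ConsPropLib.NoethApprox.cone AC
  have hc : IsLimit c := ConsPropLib.NoethApprox.isLimit AC
  haveI : ∀ i, IsAffine (D.obj i) := fun i => ConsPropLib.NoethApprox.isAffine_obj AC i
  haveI : ∀ {i j} (φ : i ⟶ j), IsAffineHom (D.map φ) := fun φ => isAffineHom_of_isAffine _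
  haveI : ∀ (i j : (Finset AC)ᵒᵖ) (φ : i ⟶ j), IsAffineHom (D.map φ) := fun i j φ => isAffineHom_of_isAffine _
  let f' : X ⟶ c.pt := f
  haveI : IsProper f' := ‹IsProper f›
  haveI : LocallyOfFinitePresentation f' := ‹LocallyOfFinitePresentation f›
  obtain ⟨i, X₁, u₁, g₁, hX₁⟩ := ConsPropLib.hasModel hc f'
  haveI := hX₁.lfp; haveI := hX₁.qc; haveI := hX₁.qs
  haveI := hX₁.compactSpace; haveI := hX₁.quasiSeparatedSpace
  obtain ⟨l, φ, hl⟩ := ConsPropLib.core_isProper _ D c hc (fun a b k => inferInstance) i
    inferInstance u₁ inferInstance inferInstance ‹_›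
    (Desc.of_two @IsProper hX₁.sq (IsPullback.of_hasPullback _ _) inferInstance)
  haveI := hl
  let Xl := pullback u₁ (D.map φ)
  let xi : Xl ⟶ D.obj l := pullback.snd u₁ (D.map φ)
  let qX : X ⟶ Xl := hX₁.push φ
  have sq : IsPullback qX f' xi (c.π.app l) := (hX₁.pushed φ).sq
  -- the closed part as a limit
  let mk := Spec.map (CommRingCat.ofHom (Ideal.Quotient.mk I))
  let xi' : pullback xi (QuotLim.τ I l) ⟶ (QuotLim.diagram I).obj l := pullback.snd xi (QuotLim.τ I l)
  let qI : pullback f mk ⟶ pullback xi (QuotLim.τ I l) :=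
    pullback.lift (pullback.fst f mk ≫ qX) (pullback.snd f mk ≫ (QuotLim.cone I).π.app l) (by
      rw [Category.assoc, Category.assoc]
      erw [sq.w, QuotLim.cone_τ I l]
      exact pullback.condition_assoc _)
  have hI : IsPullback qI (pullback.snd f mk) xi' ((QuotLim.cone I).π.app l) := by
    refine IsPullback.of_right ?_ (pullback.lift_snd _ _ _) (IsPullback.of_hasPullback xi (QuotLim.τ I l))
    rw [pullback.lift_fst]
    erw [QuotLim.cone_τ I l]
    exact (IsPullback.of_hasPullback f mk).paste_horiz sq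
  haveI : CompactSpace Xl := QuasiCompact.compactSpace_of_compactSpace xi
  haveI : QuasiSeparatedSpace Xl := quasiSeparatedSpace_of_quasiSeparated xi
  haveI : IsProper xi' := MorphismProperty.pullback_snd (P := @IsProper) _ _ ‹_›
  haveI : CompactSpace ↥(pullback xi (QuotLim.τ I l)) := QuasiCompact.compactSpace_of_compactSpace xi'
  haveI : QuasiSeparatedSpace ↥(pullback xi (QuotLim.τ I l)) := quasiSeparatedSpace_of_quasiSeparated xi'
  haveI : ∀ n : Over l, CompactSpace ((BC.diag (QuotLim.diagram I) xi').obj n) :=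
    fun n => BC.compactSpace_obj _ xi' n
  haveI : ∀ n : Over l, QuasiSeparatedSpace ((BC.diag (QuotLim.diagram I) xi').obj n) :=
    fun n => BC.quasiSeparatedSpace_obj _ xi' n
  obtain ⟨n, Wn, ⟨en⟩⟩ := exists_fet_stage (BC.isLimitCone (QuotLim.diagram I) xi' hI (QuotLim.isLimit I)) V
  -- the henselization of the stage
  let R := Algebra.adjoin ℤ ((n.left.unop : Finset AC) : Set AC)
  let ρ : R →+* A := R.val.toRingHom
  let J : Ideal R := QuotLim.tr I n.left.unop
  haveI : Algebra.FiniteType ℤ R := Algebra.FiniteType.adjoin_of_finite (Finset.finite_toSet _)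
  haveI : IsNoetherianRing R := Algebra.FiniteType.isNoetherianRing ℤ _
  have hR : CAlg.IsGRing R := by
    letI : Algebra (ULift.{u} ℤ) R := ((Int.castRingHom R).comp ULift.ringEquiv.toRingHom).toAlgebra
    haveI : Algebra.FiniteType (ULift.{u} ℤ) R := RingHom.finiteType_algebraMap.1 (by
      show ((Int.castRingHom R).comp ULift.ringEquiv.toRingHom).FiniteType
      have h : (Int.castRingHom R).FiniteType := by
        rw [RingHom.ext_int (Int.castRingHom R) (algebraMap ℤ R)]
        exact RingHom.finiteType_algebraMap.2 inferInstance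
      exact h.comp (RingHom.FiniteType.of_surjective _ ULift.ringEquiv.surjective))
    exact CplFib6.isGRing_of_finiteType PopescuLib.isGRing_uliftInt R
  have hJI : J.map ρ ≤ I := Ideal.map_le_iff_le_comap.2 le_rfl
  obtain ⟨B, _, _, hB⟩ := Hensel.exists_isPairHenselization R J
  let JB : Ideal B := J.map (algebraMap R B)
  haveI : HenselianRing B JB := hB.1
  haveI : IsNoetherianRing B := Hensel.isNoetherianRing_of_isPairHenselization J hB
  obtain ⟨g, hg, -⟩ := hB.2 A I ρ inferInstance hJI
  let Xn := pullback xi (D.map n.hom)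
  let hn : Xn ⟶ Spec (CommRingCat.of R) := pullback.snd xi (D.map n.hom)
  haveI : IsProper hn := MorphismProperty.pullback_snd (P := @IsProper) _ _ inferInstance
  let mB : Spec (CommRingCat.of B) ⟶ Spec (CommRingCat.of R) :=
    Spec.map (CommRingCat.ofHom (algebraMap R B))
  let hY : pullback hn mB ⟶ Spec (CommRingCat.of B) := pullback.snd hn mB
  haveI : IsProper hY := MorphismProperty.pullback_snd (P := @IsProper) _ _ inferInstance
  have hlift : LiftsFEt (inc JB hY) := liftsFEt_of_regular_completion JB
    (Groth.Agent.S0600.result B (PopescuLib.isGRing_of_isPairHenselization hR J hB) JB) hY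
  -- the maps between the closed parts
  let mg := Spec.map (CommRingCat.ofHom g)
  have hgρ : mg ≫ mB = c.π.app n.left := by
    show _ = Spec.map (CommRingCat.ofHom ρ)
    rw [← Spec.map_comp, ← CommRingCat.ofHom_comp, hg]
  let m : X ⟶ pullback hn mB := pullback.lift (pullback.lift qX (f' ≫ c.π.app n.left)
      (by rw [Category.assoc, c.w, sq.w])) (f ≫ mg) (by
    rw [pullback.lift_snd, Category.assoc, hgρ])
  have hgI : JB ≤ I.comap g := Ideal.map_le_iff_le_comap.1 (by
    show (J.map (algebraMap R B)).map g ≤ I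
    rw [Ideal.map_map, hg]; exact hJI)
  let gI : Spec (CommRingCat.of (A ⧸ I)) ⟶ Spec (CommRingCat.of (B ⧸ JB)) :=
    Spec.map (CommRingCat.ofHom (Ideal.quotientMap I g hgI))
  have hgImk : gI ≫ Spec.map (CommRingCat.ofHom (Ideal.Quotient.mk JB)) = mk ≫ mg := by
    rw [← Spec.map_comp, ← Spec.map_comp]
    exact congrArg Spec.map (CommRingCat.hom_ext (RingHom.ext fun _ => rfl))
  let a : pullback f mk ⟶ pullback hY (Spec.map (CommRingCat.ofHom (Ideal.Quotient.mk JB))) :=
    pullback.lift (inc I f ≫ m) (pullback.snd f mk ≫ gI) (by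
      rw [Category.assoc, pullback.lift_snd, Category.assoc, hgImk]
      exact pullback.condition_assoc _)
  let jB : Spec (CommRingCat.of (B ⧸ JB)) ⟶ (QuotLim.diagram I).obj n.left :=
    Spec.map (CommRingCat.ofHom (Ideal.quotientMap JB (algebraMap R B) Ideal.le_comap_map))
  have hjB : jB ≫ QuotLim.τ I n.left = Spec.map (CommRingCat.ofHom (Ideal.Quotient.mk JB)) ≫ mB := by
    show Spec.map _ ≫ Spec.map _ = _
    rw [← Spec.map_comp, ← Spec.map_comp]
    rfl
  have hjI : gI ≫ jB = (QuotLim.cone I).π.app n.left := by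
    show Spec.map _ ≫ Spec.map _ = Spec.map (CommRingCat.ofHom (QuotLim.toQuot I n.left.unop))
    rw [← Spec.map_comp]
    refine congrArg Spec.map (CommRingCat.hom_ext (Ideal.Quotient.ringHom_ext (RingHom.ext fun r => ?_)))
    show Ideal.Quotient.mk I (g (algebraMap R B r)) = Ideal.Quotient.mk I (ρ r)
    rw [← RingHom.comp_apply g, hg]
  let PY := pullback hY (Spec.map (CommRingCat.ofHom (Ideal.Quotient.mk JB)))
  let qY : PY ⟶ Spec (CommRingCat.of (B ⧸ JB)) := pullback.snd _ _
  let b : PY ⟶ (BC.diag (QuotLim.diagram I) xi').obj n :=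
    pullback.lift (pullback.lift (inc JB hY ≫ pullback.fst hn mB ≫ pullback.fst xi (D.map n.hom))
        (qY ≫ jB ≫ (QuotLim.diagram I).map n.hom) (by
          simp only [Category.assoc]
          erw [QuotLim.τ_naturality I n.hom, reassoc_of% hjB]
          calc inc JB hY ≫ pullback.fst hn mB ≫ pullback.fst xi (D.map n.hom) ≫ xi
              = inc JB hY ≫ pullback.fst hn mB ≫ hn ≫ D.map n.hom := by rw [pullback.condition]
            _ = inc JB hY ≫ hY ≫ mB ≫ D.map n.hom := by rw [pullback.condition_assoc]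
            _ = _ := pullback.condition_assoc _))
      (qY ≫ jB) (by simp [xi'])
  have hab : a ≫ b = BC.proj (QuotLim.diagram I) xi' (c := QuotLim.cone I) hI n := by
    apply pullback.hom_ext
    · simp only [Category.assoc, b, pullback.lift_fst, BC.proj_fst]
      apply pullback.hom_ext
      · simp only [Category.assoc, a, qI, m, pullback.lift_fst, pullback.lift_fst_assoc]
        rfl
      · simp only [Category.assoc, a, qI, qY, pullback.lift_snd, pullback.lift_snd_assoc]
        rw [reassoc_of% hjI]
        congr 1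
        exact (QuotLim.cone I).w n.hom
    · simp only [Category.assoc, b, pullback.lift_snd, BC.proj_snd, a, qY, pullback.lift_snd_assoc]
      rw [hjI]
  obtain ⟨W, ⟨eW⟩⟩ := exists_lift_of_square a m (p := inc I f) (p' := inc JB hY)
    (pullback.lift_fst _ _ _).symm hlift ((FEt.restrict b).obj Wn)
    ((Pi1Ext.Spread.restrictComp a b _ hab.symm Wn).symm ≪≫ en)
  exact ⟨W, ⟨eW⟩⟩

/-- Covers of the closed part of a proper scheme over a henselian pair lift. -/
theorem liftsFEt_inc {X : Scheme.{u}} (f : X ⟶ Spec (CommRingCat.of A)) [IsProper f] :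
    LiftsFEt (inc I f) := by
  intro V
  obtain ⟨K, _, _, D, c, hc, e, hcl, hD⟩ := Groth.Agent.S2079.result f
  let D' := D ⋙ Over.forget _
  let c' := (Over.forget _).mapCone c
  have hc' : IsLimit c' := isLimitOfPreserves (Over.forget _) hc
  haveI : ∀ {i j : K} (k : i ⟶ j), IsAffineHom (D'.map k) := fun {i j} k => by
    haveI : IsClosedImmersion (D'.map k) := hcl i j k
    infer_instance
  haveI : ∀ i, IsProper (D.obj i).hom := fun i => (hD i).2.1
  haveI : ∀ i, CompactSpace (D'.obj i) := fun i =>
    QuasiCompact.compactSpace_of_compactSpace (show D'.obj i ⟶ _ from (D.obj i).hom)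
  haveI : ∀ i, QuasiSeparatedSpace (D'.obj i) := fun i =>
    quasiSeparatedSpace_of_quasiSeparated (show D'.obj i ⟶ _ from (D.obj i).hom)
  obtain ⟨i₀⟩ := IsCofiltered.nonempty (C := K)
  let ε : c'.pt ⟶ X := e.hom.left
  let ε' : X ⟶ c'.pt := e.inv.left
  have hε : ε ≫ ε' = 𝟙 _ := by
    show e.hom.left ≫ e.inv.left = _
    rw [← Over.comp_left, e.hom_inv_id]; rfl
  have hε' : ε' ≫ ε = 𝟙 _ := by
    show e.inv.left ≫ e.hom.left = _
    rw [← Over.comp_left, e.inv_hom_id]; rfl
  have hεf : ∀ i, c'.π.app i ≫ (D.obj i).hom = ε ≫ f := fun i =>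
    (Over.w (c.π.app i)).trans (Over.w e.hom).symm
  have hπf : ∀ i, ε' ≫ c'.π.app i ≫ (D.obj i).hom = f := fun i => by
    rw [hεf i, ← Category.assoc, hε', Category.id_comp]
  let mk := Spec.map (CommRingCat.ofHom (Ideal.Quotient.mk I))
  haveI : IsClosedImmersion mk := IsClosedImmersion.spec_of_surjective _ Ideal.Quotient.mk_surjective
  let xi : pullback (D.obj i₀).hom mk ⟶ D'.obj i₀ := pullback.fst _ _
  let qX : pullback f mk ⟶ pullback (D.obj i₀).hom mk :=
    pullback.lift (pullback.fst f mk ≫ ε' ≫ c'.π.app i₀) (pullback.snd f mk) (by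
      rw [Category.assoc, Category.assoc]
      erw [hπf i₀]
      exact pullback.condition)
  let pX : pullback f mk ⟶ c'.pt := pullback.fst f mk ≫ ε'
  have hX : IsPullback qX pX xi (c'.π.app i₀) := by
    refine (IsPullback.of_right ?_ ?_ (IsPullback.of_hasPullback (D.obj i₀).hom mk).flip).flip.flip
    · rw [pullback.lift_snd]
      have h1 : c'.π.app i₀ ≫ (D.obj i₀).hom = ε ≫ f := (Over.w (c.π.app i₀)).trans (Over.w e.hom).symm
      rw [h1]
      exact (IsPullback.of_hasPullback f mk).flip.of_iso (Iso.refl _) (Iso.refl _) ⟨ε', ε, hε', hε⟩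
        (Iso.refl _) (by simp) (by simp [pX]) (by simp) (by simp [reassoc_of% hε'])
    · rw [pullback.lift_fst, Category.assoc]
  haveI : CompactSpace ↥(pullback (D.obj i₀).hom mk) := QuasiCompact.compactSpace_of_compactSpace xi
  haveI : QuasiSeparatedSpace ↥(pullback (D.obj i₀).hom mk) := quasiSeparatedSpace_of_quasiSeparated xi
  haveI : ∀ n : Over i₀, CompactSpace ((BC.diag D' xi).obj n) := fun n => BC.compactSpace_obj _ xi n
  haveI : ∀ n : Over i₀, QuasiSeparatedSpace ((BC.diag D' xi).obj n) :=
    fun n => BC.quasiSeparatedSpace_obj _ xi n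
  obtain ⟨n, Wn, ⟨en⟩⟩ := exists_fet_stage (BC.isLimitCone D' xi hX hc') V
  haveI : LocallyOfFinitePresentation (D.obj n.left).hom := (hD n.left).2.2
  have hP : IsPullback (pullback.snd xi (D'.map n.hom)) (pullback.fst xi (D'.map n.hom) ≫ pullback.snd _ _)
      (D.obj n.left).hom mk := by
    have := ((IsPullback.of_hasPullback xi (D'.map n.hom)).flip.paste_vert
      (IsPullback.of_hasPullback (D.obj i₀).hom mk).flip.flip)
    exact this.of_iso (Iso.refl _) (Iso.refl _) (Iso.refl _) (Iso.refl _) (by simp) (by simp)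
      (by simp only [Iso.refl_hom, Category.comp_id, Category.id_comp]; exact Over.w (D.map n.hom)) (by simp)
  have hlift : LiftsFEt (pullback.snd xi (D'.map n.hom)) :=
    (liftsFEt_of_fp I (D.obj n.left).hom).of_iso hP.isoPullback hP.isoPullback_hom_fst
  exact exists_lift_of_square (BC.proj D' xi hX n) (ε' ≫ c'.π.app n.left)
    (by rw [BC.proj_snd]; exact (Category.assoc _ _ _).symm) hlift Wn en

/-- Restriction to the closed part of a proper scheme over a henselian pair is an equivalence on covers. -/
theorem restrict_inc_isEquivalence {X : Scheme.{u}} (f : X ⟶ Spec (CommRingCat.of A)) [IsProper f] :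
    (FEt.restrict (inc I f)).IsEquivalence := by
  haveI := (liftsFEt_inc I f).essSurj
  haveI := (restrict_inc_full_faithful I f).1
  haveI := (restrict_inc_full_faithful I f).2
  exact { }

end Groth.Agent.H9PiOne

end
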