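import Groth.Agent.H9PiOne.RegExtend
import Groth.Agent.Pi1X.FEtBasic
import Mathlib.AlgebraicGeometry.RelativeGluing

/-!
# Extension of covers across a regular complement, unramified in codimension one
-/

set_option autoImplicit false
set_option linter.style.haveILetI false
set_option backward.isDefEq.respectTransparency false
set_option backward.isDefEq.respectTransparency.types false

universe u

open CategoryTheory CategoryTheory.Limits AlgebraicGeometry TopologicalSpace

noncomputable section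

namespace Groth.Agent.H9PiOne.RegGlue

variable {X : Scheme.{u}} (U : X.Opens) {Z : Scheme.{u}} (g : Z ⟶ X)

/-- An extension over `W` of the scheme `g : Z ⟶ X` lying over `U`. -/
structure Ext (W : X.Opens) where
  /-- the cover of `W` -/
  Y : FEt.Cat (W : Scheme.{u})
  /-- the embedding -/
  k : pullback g W.ι ⟶ Y.left
  w : k ≫ Y.hom = pullback.snd g W.ι
  [isOpen : IsOpenImmersion k]
  range_k : Set.range k.base = Y.hom.base ⁻¹' ((W.ι ⁻¹ᵁ U : (W : Scheme.{u}).Opens) : Set (W : Scheme.{u}))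

attribute [instance] Ext.isOpen

variable {U g}

/-- the inclusion between the parts over two opens -/
def incl (g : Z ⟶ X) {W' W : X.Opens} (h : W' ≤ W) : pullback g W'.ι ⟶ pullback g W.ι :=
  pullback.map g W'.ι g W.ι (𝟙 _) (X.homOfLE h) (𝟙 _) (by simp) (by simp)

theorem incl_fst (g : Z ⟶ X) {W' W : X.Opens} (h : W' ≤ W) :
    incl g h ≫ pullback.fst g W.ι = pullback.fst g W'.ι :=
  (pullback.lift_fst _ _ _).trans (Category.comp_id _)

theorem incl_snd (g : Z ⟶ X) {W' W : X.Opens} (h : W' ≤ W) :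
    incl g h ≫ pullback.snd g W.ι = pullback.snd g W'.ι ≫ X.homOfLE h :=
  pullback.lift_snd _ _ _

instance incl_isOpenImmersion (g : Z ⟶ X) {W' W : X.Opens} (h : W' ≤ W) : IsOpenImmersion (incl g h) := by
  haveI : IsOpenImmersion (incl g h ≫ pullback.fst g W.ι) := by rw [incl_fst]; infer_instance
  exact IsOpenImmersion.of_comp (incl g h) (pullback.fst g W.ι)

theorem incl_trans (g : Z ⟶ X) {W'' W' W : X.Opens} (h' : W'' ≤ W') (h : W' ≤ W) :
    incl g h' ≫ incl g h = incl g (h'.trans h) := by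
  rw [← cancel_mono (pullback.fst g W.ι), Category.assoc, incl_fst, incl_fst, incl_fst]

theorem incl_rfl (g : Z ⟶ X) {W : X.Opens} : incl g (le_refl W) = 𝟙 _ := by
  rw [← cancel_mono (pullback.fst g W.ι), incl_fst, Category.id_comp]

/-- the piece over an open, restricted to a smaller one -/
def Ext.res {W' W : X.Opens} (E : Ext U g W) (h : W' ≤ W) : Ext U g W' := by
  let kP : pullback g W'.ι ⟶ pullback E.Y.hom (X.homOfLE h) :=
    pullback.lift (incl g h ≫ E.k) (pullback.snd g W'.ι) (by rw [Category.assoc, E.w, incl_snd])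
  have hkP : kP ≫ pullback.fst E.Y.hom (X.homOfLE h) = incl g h ≫ E.k := pullback.lift_fst _ _ _
  haveI : IsOpenImmersion (kP ≫ pullback.fst E.Y.hom (X.homOfLE h)) := by rw [hkP]; infer_instance
  haveI : IsOpenImmersion kP := IsOpenImmersion.of_comp kP (pullback.fst E.Y.hom (X.homOfLE h))
  have hw : kP ≫ pullback.snd E.Y.hom (X.homOfLE h) = pullback.snd g W'.ι := pullback.lift_snd _ _ _
  refine { Y := (FEt.restrict (X.homOfLE h)).obj E.Y, k := kP, w := hw, range_k := ?_ }
  have hι : ∀ v : (W' : Scheme.{u}), W.ι.base ((X.homOfLE h).base v) = W'.ι.base v := fun v => by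
    rw [← Scheme.Hom.comp_apply, X.homOfLE_ι]
  have hgU : ∀ p : ↥(pullback g W.ι), g.base ((pullback.fst g W.ι).base p) = W.ι.base ((pullback.snd g W.ι).base p) :=
    fun p => by rw [← Scheme.Hom.comp_apply, pullback.condition, Scheme.Hom.comp_apply]
  refine Set.Subset.antisymm ?_ fun (z : ↥(pullback E.Y.hom (X.homOfLE h))) hz => ?_
  · rintro _ ⟨p, rfl⟩
    have e : kP ≫ pullback.snd E.Y.hom (X.homOfLE h) ≫ W'.ι = incl g h ≫ E.k ≫ E.Y.hom ≫ W.ι := by
      rw [reassoc_of% hw, reassoc_of% E.w, reassoc_of% (incl_snd g h), X.homOfLE_ι]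
    have h1 : W'.ι.base ((pullback.snd E.Y.hom (X.homOfLE h)).base (kP.base p)) =
        W.ι.base (E.Y.hom.base (E.k.base ((incl g h).base p))) :=
      congrArg (fun f : pullback g W'.ι ⟶ X => f.base p) e
    show W'.ι.base ((pullback.snd E.Y.hom (X.homOfLE h)).base (kP.base p)) ∈ U
    rw [h1]
    exact E.range_k.le ⟨_, rfl⟩
  · have e : pullback.fst E.Y.hom (X.homOfLE h) ≫ E.Y.hom ≫ W.ι = pullback.snd E.Y.hom (X.homOfLE h) ≫ W'.ι := by
      rw [pullback.condition_assoc, X.homOfLE_ι]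
    have ez : W.ι.base (E.Y.hom.base ((pullback.fst E.Y.hom (X.homOfLE h)).base z)) =
        W'.ι.base ((pullback.snd E.Y.hom (X.homOfLE h)).base z) :=
      congrArg (fun f : pullback E.Y.hom (X.homOfLE h) ⟶ X => f.base z) e
    obtain ⟨p, hp⟩ := E.range_k.ge
      (show W.ι.base (E.Y.hom.base ((pullback.fst E.Y.hom (X.homOfLE h)).base z)) ∈ U from ez.symm ▸ hz)
    have hEw : E.Y.hom.base (E.k.base p) = (pullback.snd g W.ι).base p :=
      congrArg (fun f : pullback g W.ι ⟶ (W : Scheme.{u}) => f.base p) E.w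
    have hcond : g.base ((pullback.fst g W.ι).base p) =
        W'.ι.base ((pullback.snd E.Y.hom (X.homOfLE h)).base z) := by
      rw [hgU, ← hEw, hp, ez]
    obtain ⟨p', hp'1, -⟩ := Scheme.Pullback.exists_preimage_pullback _ _ hcond
    refine ⟨p', (pullback.fst E.Y.hom (X.homOfLE h)).isOpenEmbedding.injective ?_⟩
    have hp' : (incl g h).base p' = p := (pullback.fst g W.ι).isOpenEmbedding.injective (by
      rw [← Scheme.Hom.comp_apply, incl_fst]; exact hp'1)
    have hk' : (pullback.fst E.Y.hom (X.homOfLE h)).base (kP.base p') = E.k.base ((incl g h).base p') :=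
      congrArg (fun f : pullback g W'.ι ⟶ E.Y.left => f.base p') hkP
    exact hk'.trans ((congrArg E.k.base hp').trans hp)

theorem Ext.res_k {W' W : X.Opens} (E : Ext U g W) (h : W' ≤ W) :
    (E.res h).k ≫ pullback.fst E.Y.hom (X.homOfLE h) = incl g h ≫ E.k :=
  pullback.lift_fst _ _ _

theorem dense_preimage (hU : Dense (U : Set X)) (W : X.Opens) :
    Dense ((W.ι ⁻¹ᵁ U : (W : Scheme.{u}).Opens) : Set (W : Scheme.{u})) :=
  hU.preimage W.ι.isOpenEmbedding.isOpenMap

/-- Two extensions are isomorphic, compatibly with the embeddings. -/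
theorem exists_iso [IsLocallyNoetherian X] (hU : Dense (U : Set X))
    (hreg : ∀ x : X, x ∉ U → IsRegularLocalRing (X.presheaf.stalk x))
    {W : X.Opens} (E₁ E₂ : Ext U g W) :
    ∃ φ : E₁.Y ≅ E₂.Y, E₁.k ≫ φ.hom.left = E₂.k := by
  have hreg' : ∀ x : (W : Scheme.{u}), x ∉ W.ι ⁻¹ᵁ U → IsRegularLocalRing ((W : Scheme.{u}).presheaf.stalk x) :=
    fun x hx => by
      haveI := hreg (W.ι.base x) hx
      exact IsRegularLocalRing.of_ringEquiv (asIso (W.ι.stalkMap x)).commRingCatIsoToRingEquiv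
  haveI : IsLocallyNoetherian (W : Scheme.{u}) := LocallyOfFiniteType.isLocallyNoetherian W.ι
  obtain ⟨_, _⟩ := RegFull.full_faithful (W.ι ⁻¹ᵁ U) (dense_preimage hU W) hreg'
  let j := (W.ι ⁻¹ᵁ U).ι
  have hr : ∀ E : Ext U g W, Set.range (pullback.fst E.Y.hom j).base = Set.range E.k.base := fun E => by
    rw [E.range_k, Scheme.Pullback.range_fst, Scheme.Opens.range_ι]
  let a : ∀ E : Ext U g W, pullback E.Y.hom j ≅ pullback g W.ι := fun E =>
    IsOpenImmersion.isoOfRangeEq _ _ (hr E)
  have ha : ∀ E : Ext U g W, (a E).hom ≫ E.k = pullback.fst E.Y.hom j := fun E =>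
    IsOpenImmersion.isoOfRangeEq_hom_fac _ _ _
  have hsnd : ∀ E : Ext U g W, pullback.snd E.Y.hom j ≫ j = (a E).hom ≫ pullback.snd g W.ι := fun E => by
    rw [← pullback.condition, ← ha E, Category.assoc, E.w]
  let ψ : (FEt.restrict j).obj E₁.Y ≅ (FEt.restrict j).obj E₂.Y :=
    MorphismProperty.Over.isoMk (a E₁ ≪≫ (a E₂).symm) (by
      show ((a E₁).hom ≫ (a E₂).inv) ≫ pullback.snd E₂.Y.hom j = pullback.snd E₁.Y.hom j
      rw [← cancel_mono j, Category.assoc, Category.assoc, hsnd, hsnd, Iso.inv_hom_id_assoc])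
  refine ⟨(FEt.restrict j).preimageIso ψ, ?_⟩
  have h1 : ((FEt.restrict j).map ((FEt.restrict j).preimageIso ψ).hom).left = (a E₁ ≪≫ (a E₂).symm).hom := by
    show ((FEt.restrict j).map ((FEt.restrict j).preimage ψ.hom)).left = _
    rw [Functor.map_preimage]; rfl
  have h3 : ∀ χ : E₁.Y ⟶ E₂.Y, ((FEt.restrict j).map χ).left ≫ pullback.fst E₂.Y.hom j =
      pullback.fst E₁.Y.hom j ≫ χ.left := fun χ => by
    simp [FEt.restrict]
  have h2 := h3 ((FEt.restrict j).preimageIso ψ).hom
  rw [h1, ← ha E₁, ← ha E₂] at h2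
  simp only [Iso.trans_hom, Iso.symm_hom, Category.assoc, Iso.inv_hom_id_assoc] at h2
  exact ((cancel_epi (a E₁).hom).1 h2).symm

/-- maps out of an extension are determined on the embedded part -/
theorem hom_ext (hU : Dense (U : Set X)) {W W' : X.Opens} (E' : Ext U g W') (E : Ext U g W)
    (t t' : E'.Y.left ⟶ E.Y.left) (h : t ≫ E.Y.hom = t' ≫ E.Y.hom) (hk : E'.k ≫ t = E'.k ≫ t') : t = t' := by
  haveI : IsFinite E.Y.hom := E.Y.prop.1
  haveI : Etale E.Y.hom := E.Y.prop.2
  haveI : Etale E'.Y.hom := E'.Y.prop.2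
  obtain ⟨S, hS, heq, hz⟩ := Pi1X.exists_isClopen_eqLocus E.Y.hom t t' h
  refine heq (Set.eq_univ_of_univ_subset ?_)
  have hd : Dense (Set.range E'.k.base) := by
    rw [E'.range_k]
    exact (dense_preimage hU W').preimage E'.Y.hom.isOpenMap
  rw [← hd.closure_eq]
  exact closure_minimal (hz E'.k hk) hS.1

/-- the transition map -/
theorem exists_trans [IsLocallyNoetherian X] (hU : Dense (U : Set X))
    (hreg : ∀ x : X, x ∉ U → IsRegularLocalRing (X.presheaf.stalk x))
    {W' W : X.Opens} (h : W' ≤ W) (E' : Ext U g W') (E : Ext U g W) :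
    ∃ t : E'.Y.left ⟶ E.Y.left, E'.k ≫ t = incl g h ≫ E.k ∧
      IsPullback t E'.Y.hom E.Y.hom (X.homOfLE h) := by
  obtain ⟨φ, hφ⟩ := exists_iso hU hreg E' (E.res h)
  refine ⟨φ.hom.left ≫ pullback.fst E.Y.hom (X.homOfLE h),
    ((Category.assoc _ _ _).symm.trans (congrArg (· ≫ pullback.fst E.Y.hom (X.homOfLE h)) hφ)).trans (E.res_k h), ?_⟩
  refine IsPullback.of_iso (IsPullback.of_hasPullback E.Y.hom (X.homOfLE h))
    ((MorphismProperty.Over.forget FEt.prop ⊤ (W' : Scheme.{u}) ⋙ CategoryTheory.Over.forget _).mapIso φ).symm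
    (Iso.refl _) (Iso.refl _) (Iso.refl _) ?_ ?_ (by simp) (by simp)
  · show pullback.fst E.Y.hom (X.homOfLE h) ≫ 𝟙 _ = φ.inv.left ≫ φ.hom.left ≫ pullback.fst E.Y.hom (X.homOfLE h)
    rw [Category.comp_id, ← Category.assoc,
      show φ.inv.left ≫ φ.hom.left = 𝟙 _ from congrArg (fun a => a.left) φ.inv_hom_id, Category.id_comp]
  · show pullback.snd E.Y.hom (X.homOfLE h) ≫ 𝟙 _ = φ.inv.left ≫ E'.Y.hom
    rw [Category.comp_id]
    exact (MorphismProperty.Over.w φ.inv).symm

/-- an extension from a cover of the open -/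
theorem exists_ext_of_iso (V : FEt.Cat (U : Scheme.{u})) (W : X.Opens) (Y : FEt.Cat (W : Scheme.{u}))
    (e : (FEt.restrict (W.ι ⁻¹ᵁ U).ι).obj Y ≅ (FEt.restrict (W.ι ∣_ U)).obj V) :
    Nonempty (Ext U (V.hom ≫ U.ι) W) := by
  let g₀ := V.hom ≫ U.ι
  let j := (W.ι ⁻¹ᵁ U).ι
  have hl : Set.range (pullback.snd g₀ W.ι).base ⊆ Set.range j.base := by
    rw [Scheme.Opens.range_ι]
    rintro _ ⟨p, rfl⟩
    show W.ι.base ((pullback.snd g₀ W.ι).base p) ∈ U
    rw [← Scheme.Hom.comp_apply, ← pullback.condition, Scheme.Hom.comp_apply, Scheme.Hom.comp_apply]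
    exact (V.hom.base ((pullback.fst g₀ W.ι).base p)).2
  let l := IsOpenImmersion.lift j (pullback.snd g₀ W.ι) hl
  have hlj : l ≫ j = pullback.snd g₀ W.ι := IsOpenImmersion.lift_fac _ _ _
  let m : pullback g₀ W.ι ≅ pullback V.hom (W.ι ∣_ U) :=
    { hom := pullback.lift (pullback.fst g₀ W.ι) l (by
        rw [← cancel_mono U.ι, Category.assoc, Category.assoc, morphismRestrict_ι, reassoc_of% hlj]
        exact pullback.condition)
      inv := pullback.lift (pullback.fst V.hom (W.ι ∣_ U)) (pullback.snd V.hom (W.ι ∣_ U) ≫ j) (by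
        rw [Category.assoc, ← morphismRestrict_ι, pullback.condition_assoc])
      hom_inv_id := pullback.hom_ext (by simp) (by simp [hlj])
      inv_hom_id := pullback.hom_ext (by simp) (by
        rw [Category.assoc, pullback.lift_snd, Category.id_comp, ← cancel_mono j, Category.assoc, hlj,
          pullback.lift_snd]) }
  let el : pullback V.hom (W.ι ∣_ U) ≅ pullback Y.hom j :=
    (Pi1Ext.Spread.leftIso e).symm
  let k : pullback g₀ W.ι ⟶ Y.left := (m ≪≫ el).hom ≫ pullback.fst Y.hom j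
  haveI : IsOpenImmersion k := inferInstanceAs (IsOpenImmersion ((m ≪≫ el).hom ≫ pullback.fst Y.hom j))
  refine ⟨{ Y := Y, k := k, w := ?_, range_k := ?_ }⟩
  · show ((m.hom ≫ el.hom) ≫ pullback.fst Y.hom j) ≫ Y.hom = _
    rw [Category.assoc, pullback.condition, Category.assoc,
      show el.hom ≫ pullback.snd Y.hom j ≫ j = pullback.snd V.hom (W.ι ∣_ U) ≫ j from
        (Category.assoc _ _ _).symm.trans (congrArg (· ≫ j) (MorphismProperty.Over.w e.inv)),
      ← Category.assoc, pullback.lift_snd, hlj]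
  · show Set.range ((m ≪≫ el).hom ≫ pullback.fst Y.hom j).base = _
    rw [Scheme.Hom.comp_base, TopCat.coe_comp, Set.range_comp,
      Set.range_eq_univ.2 (m ≪≫ el).hom.surjective, Set.image_univ]
    exact (Scheme.Pullback.range_fst Y.hom j).trans (by rw [Scheme.Opens.range_ι])

/-- the gluing data of a compatible family of extensions -/
def gluingData {X : Scheme.{u}} {U : X.Opens} (hU : Dense (U : Set X)) {Z : Scheme.{u}} {g : Z ⟶ X}
    (E : ∀ W : X.affineOpens, Ext U g W.1)
    (t : ∀ (W' W : X.affineOpens), W'.1 ≤ W.1 → ((E W').Y.left ⟶ (E W).Y.left))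
    (htk : ∀ (W' W : X.affineOpens) (h : W'.1 ≤ W.1), (E W').k ≫ t W' W h = incl g h ≫ (E W).k)
    (htp : ∀ (W' W : X.affineOpens) (h : W'.1 ≤ W.1),
      IsPullback (t W' W h) (E W').Y.hom (E W).Y.hom (X.homOfLE h)) :
    Scheme.Cover.RelativeGluingData X.directedAffineCover where
  functor :=
    { obj := fun W => (E W).Y.left
      map := fun {W' W} h => t W' W (leOfHom h)
      map_id := fun W => hom_ext hU (E W) (E W) _ _
        ((htp W W le_rfl).w.trans ((congrArg ((E W).Y.hom ≫ ·) (X.homOfLE_rfl W.1)).trans ((Category.comp_id _).trans (Category.id_comp _).symm)))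
        (by rw [htk, incl_rfl, Category.id_comp, Category.comp_id])
      map_comp := fun {W'' W' W} h' h => hom_ext hU (E W'') (E W) _ _
        (by rw [(htp W'' W _).w, Category.assoc, (htp W' W _).w,
              (htp W'' W' _).w_assoc, X.homOfLE_homOfLE])
        (by rw [htk, ← Category.assoc, htk, Category.assoc, htk, ← Category.assoc, incl_trans]) }
  natTrans :=
    { app := fun W => (E W).Y.hom
      naturality := fun W' W h => (htp W' W (leOfHom h)).w }
  equifibered := fun {W' W} h => htp W' W (leOfHom h)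

instance isThin (X : Scheme.{u}) : Quiver.IsThin X.directedAffineCover.I₀ :=
  inferInstanceAs (Quiver.IsThin X.affineOpens)

instance small (X : Scheme.{u}) : Small.{u} X.directedAffineCover.I₀ :=
  inferInstanceAs (Small.{u} X.affineOpens)

set_option maxHeartbeats 800000 in
/-- glueing the extensions over all affine opens -/
theorem exists_glue {X : Scheme.{u}} (U : X.Opens) (hU : Dense (U : Set X)) (V : FEt.Cat (U : Scheme.{u}))
    (g : V.left ⟶ X) (hg : g = V.hom ≫ U.ι) (E : ∀ W : X.affineOpens, Ext U g W.1)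
    (t : ∀ (W' W : X.affineOpens), W'.1 ≤ W.1 → ((E W').Y.left ⟶ (E W).Y.left))
    (htk : ∀ (W' W : X.affineOpens) (h : W'.1 ≤ W.1), (E W').k ≫ t W' W h = incl g h ≫ (E W).k)
    (htp : ∀ (W' W : X.affineOpens) (h : W'.1 ≤ W.1),
      IsPullback (t W' W h) (E W').Y.hom (E W).Y.hom (X.homOfLE h)) :
    ∃ Y' : FEt.Cat X, Nonempty ((FEt.restrict U.ι).obj Y' ≅ V) := by
  let d := gluingData hU E t htk htp
  haveI : (d.functor ⋙ Scheme.forget).IsLocallyDirected :=
    Scheme.Cover.RelativeGluingData.instIsLocallyDirectedI₀CompFunctorForgetOfIsThin ..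
  have hprop : FEt.prop d.toBase := by
    have key : ∀ (P : MorphismProperty Scheme.{u}) [IsZariskiLocalAtTarget P],
        (∀ W : X.affineOpens, P (E W).Y.hom) → P d.toBase := by
      intro P _ h
      refine IsZariskiLocalAtTarget.of_iSup_eq_top (P := P) (fun W : X.affineOpens => (X.directedAffineCover.f W).opensRange) ?_ fun W => ?_
      · exact eq_top_iff.2 fun x _ => Opens.mem_iSup.2 (by
          obtain ⟨W, y, hy⟩ := X.directedAffineCover.exists_eq x
          exact ⟨W, y, hy⟩)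
      · refine (P.arrow_mk_iso_iff (morphismRestrictOpensRange d.toBase (X.directedAffineCover.f W))).2 ?_
        rw [← (d.isPullback_natTrans_ι_toBase W).flip.isoPullback_inv_snd]
        exact (P.cancel_left_of_respectsIso _ _).2 (h W)
    exact ⟨key @IsFinite fun W => (E W).Y.prop.1, key @Etale fun W => (E W).Y.prop.2⟩
  let Y' : FEt.Cat X := MorphismProperty.Over.mk ⊤ d.toBase hprop
  let ι' : ∀ W : X.affineOpens, (E W).Y.left ⟶ d.glued := fun W => colimit.ι d.functor W
  have hι't : ∀ {W' W : X.affineOpens} (h : W'.1 ≤ W.1), t W' W h ≫ ι' W = ι' W' := fun {W' W} h =>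
    colimit.w d.functor (homOfLE h : (W' : X.directedAffineCover.I₀) ⟶ W)
  let 𝒱 : V.left.OpenCover := X.directedAffineCover.pullback₁ g
  let σ : V.left ⟶ d.glued := 𝒱.glueMorphismsOfLocallyDirected (fun W => (E W).k ≫ ι' W)
    fun {W' W} hh => by
      show incl g (leOfHom hh) ≫ (E W).k ≫ ι' W = (E W').k ≫ ι' W'
      rw [← Category.assoc, ← htk W' W (leOfHom hh), Category.assoc, hι't]
  have hσ : ∀ W : X.affineOpens, pullback.fst g W.1.ι ≫ σ = (E W).k ≫ ι' W := fun W =>
    Scheme.OpenCover.map_glueMorphismsOfLocallyDirected 𝒱 _ _ W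
  have hσb : σ ≫ d.toBase = g := Scheme.Cover.hom_ext 𝒱 _ _ fun W => by
    show pullback.fst g W.1.ι ≫ σ ≫ d.toBase = pullback.fst g W.1.ι ≫ g
    rw [← Category.assoc, hσ, Category.assoc]
    show (E W).k ≫ colimit.ι d.functor W ≫ d.toBase = _
    rw [d.ι_toBase]
    show (E W).k ≫ (E W).Y.hom ≫ W.1.ι = _
    rw [← Category.assoc, (E W).w, pullback.condition]
  have hgU : ∀ v : V.left, g.base v ∈ U := fun v => by subst hg; exact (V.hom.base v).2
  haveI : IsOpenImmersion σ := by
    refine IsZariskiLocalAtTarget.of_iSup_eq_top (P := @IsOpenImmersion)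
      (fun W : X.affineOpens => (colimit.ι d.functor W).opensRange) ?_ fun W => ?_
    · exact eq_top_iff.2 fun x _ => Opens.mem_iSup.2 (by
        obtain ⟨W, y, hy⟩ := d.cover.exists_eq x
        exact ⟨W, y, hy⟩)
    · refine (MorphismProperty.arrow_mk_iso_iff @IsOpenImmersion (morphismRestrictOpensRange σ (colimit.ι d.functor W))).2 ?_
      have sq : IsPullback (E W).k (pullback.fst g W.1.ι) (colimit.ι d.functor W) σ := by
        refine IsOpenImmersion.isPullback _ _ _ _ (hσ W) ?_
        rw [← d.toBase_preimage_eq_opensRange_ι, ← Scheme.Hom.comp_preimage, hσb]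
        refine Opens.ext ?_
        show g.base ⁻¹' Set.range W.1.ι.base = Set.range (pullback.fst g W.1.ι).base
        rw [Scheme.Pullback.range_fst]
      rw [← sq.flip.isoPullback_inv_snd]
      exact (MorphismProperty.cancel_left_of_respectsIso @IsOpenImmersion _ _).2 (E W).isOpen
  have hrange : Set.range σ.base = d.toBase.base ⁻¹' (U : Set X) := by
    refine Set.Subset.antisymm ?_ fun y hy => ?_
    · rintro _ ⟨v, rfl⟩
      show d.toBase.base (σ.base v) ∈ U
      rw [← Scheme.Hom.comp_apply, hσb]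
      exact hgU v
    · obtain ⟨W, z, rfl⟩ := d.cover.exists_eq y
      have hz : W.1.ι.base ((E W).Y.hom.base z) ∈ U := by
        have : d.toBase.base ((colimit.ι d.functor W).base z) ∈ U := hy
        rw [← Scheme.Hom.comp_apply, d.ι_toBase] at this
        exact this
      obtain ⟨p, hp⟩ := (E W).range_k.ge hz
      refine ⟨(pullback.fst g W.1.ι).base p, ?_⟩
      rw [← Scheme.Hom.comp_apply, hσ, Scheme.Hom.comp_apply, hp]
      rfl
  have sqU : IsPullback V.hom σ U.ι d.toBase := IsOpenImmersion.isPullback _ _ _ _ (hσb.trans hg)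
    (Opens.ext (by
      show d.toBase.base ⁻¹' Set.range U.ι.base = Set.range σ.base
      rw [Scheme.Opens.range_ι, hrange]))
  exact ⟨Y', ⟨MorphismProperty.Over.isoMk sqU.flip.isoPullback.symm sqU.flip.isoPullback_inv_snd⟩⟩

theorem main {X : Scheme.{u}} [IsLocallyNoetherian X] (U : X.Opens) (hU : Dense (U : Set X))
    (V : FEt.Cat (U : Scheme.{u}))
    (hreg : ∀ x : X, x ∉ U → IsRegularLocalRing (X.presheaf.stalk x))
    (hunr : RegExtend.Unr U V) :
    ∃ Y' : FEt.Cat X, Nonempty ((FEt.restrict U.ι).obj Y' ≅ V) := by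
  have hE : ∀ W : X.affineOpens, Nonempty (Ext U (V.hom ≫ U.ι) W.1) := fun W => by
    obtain ⟨Y, ⟨e⟩⟩ := RegExtend.exists_extend_open U hU V hreg hunr W.1 W.2
    exact exists_ext_of_iso V W.1 Y e
  let E : ∀ W : X.affineOpens, Ext U (V.hom ≫ U.ι) W.1 := fun W => (hE W).some
  have ht : ∀ (W' W : X.affineOpens) (h : W'.1 ≤ W.1), ∃ t : (E W').Y.left ⟶ (E W).Y.left,
      (E W').k ≫ t = incl (V.hom ≫ U.ι) h ≫ (E W).k ∧
        IsPullback t (E W').Y.hom (E W).Y.hom (X.homOfLE h) :=
    fun W' W h => exists_trans hU hreg h _ _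
  choose t htk htp using ht
  exact exists_glue U hU V _ rfl E t htk htp

end Groth.Agent.H9PiOne.RegGlue
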