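import Groth.Agent.H9PiOne.FormalAlg
import Groth.Agent.RelSpecX.AffHom
import Groth.Agent.RelSpecX.Gamma

/-!
# Algebraization of a finite formal scheme with proper reduction
-/

set_option autoImplicit false
set_option linter.style.haveILetI false
set_option linter.unusedSectionVars false
set_option backward.isDefEq.respectTransparency false
set_option backward.isDefEq.respectTransparency.types false

universe u

open CategoryTheory CategoryTheory.Limits AlgebraicGeometry TopologicalSpace Opposite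

attribute [local instance] HasDerivedCategory.standard

noncomputable section

namespace Groth.Agent.H9PiOne

open Groth.Agent InvX
open Groth.Agent.AmpleVan (scal)

attribute [-instance] CategoryTheory.catToReflQuiver

variable {A : Type u} [CommRing A] {I : Ideal A} {X : Scheme.{u}} [X.Over (Spec (CommRingCat.of A))]
  {S : AmpleVan.AdicSys A I} {ρ : ∀ n, S.X n ⟶ X} {ht : ∀ n, S.i n ≫ ρ (n + 1) = ρ n}

/-- A commutative algebra structure on a model, reading as the given one on the levels. -/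
structure RingData (D : AlgModel S ρ ht) where
  /-- The product. -/
  μ : CohB1.tensorMod D.M D.M ⟶ D.M
  /-- The unit. -/
  e : Coh.structureModule X ⟶ D.M
  v_mul : ∀ (n : ℕ) (U : X.Opens) (a c : Γ(D.M, U)),
    (D.v n).app U (μ.app U (tmul a c)) = gmul S ρ n ((D.v n).app U a) ((D.v n).app U c)
  v_one : ∀ (n : ℕ) (U : X.Opens), (D.v n).app U (e.app U (1 : Γ(X, U))) = gone S ρ n U
  mul_comm' : ∀ (U : X.Opens) (a c : Γ(D.M, U)), μ.app U (tmul a c) = μ.app U (tmul c a)
  mul_assoc' : ∀ (U : X.Opens) (a b c : Γ(D.M, U)),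
    μ.app U (tmul (μ.app U (tmul a b)) c) = μ.app U (tmul a (μ.app U (tmul b c)))
  mul_one' : ∀ (U : X.Opens) (a : Γ(D.M, U)), μ.app U (tmul a (e.app U (1 : Γ(X, U)))) = a

theorem res_one_app {M : X.Modules} (e : Coh.structureModule X ⟶ M) {U V : X.Opens} (h : V ≤ U) :
    AModX.res M h (e.app U (1 : Γ(X, U))) = e.app V (1 : Γ(X, V)) := by
  rw [← AModX.app_res]
  exact congrArg (fun z => e.app V z) (map_one (AModX.resR h))

variable [IsNoetherianRing A] [∀ n, IsFinite (ρ n)] [LocallyOfFiniteType (X ↘ Spec (CommRingCat.of A))]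
  [IsAdicComplete I A] [IsSeparated (X ↘ Spec (CommRingCat.of A))]
  [QuasiCompact (X ↘ Spec (CommRingCat.of A))]
  (hr : ∀ n, ρ n ≫ (X ↘ Spec (CommRingCat.of A)) = S.X n ↘ Spec (CommRingCat.of A))
  (hp : IsProper (S.p 0)) (D : AlgModel S ρ ht)

set_option maxHeartbeats 1000000 in
include hr hp in
theorem nonempty_ringData : Nonempty (RingData D) := by
  haveI : IsLocallyNoetherian X := LocallyOfFiniteType.isLocallyNoetherian (X ↘ Spec (CommRingCat.of A))
  obtain ⟨μ, hμ⟩ := exists_mul hr hp D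
  obtain ⟨e, he⟩ := exists_one hr hp D
  refine ⟨⟨μ, e, hμ, he, fun U a c => ?_, fun U a b c => ?_, fun U a => ?_⟩⟩
  · have h : (swapB D.M).hom ≫ μ = μ := by
      refine D.hom_ext hr hp (isCoh_tensor D) fun n => AmpleVan.hom_ext_tmul fun V x y => ?_
      show (D.v n).app V (μ.app V ((swapB D.M).hom.app V (tmul x y))) = (D.v n).app V (μ.app V (tmul x y))
      rw [(swapB D.M).hom_tmul, hμ]
      show (D.v n).app V (μ.app V (tmul y x)) = _
      rw [hμ]
      exact mul_comm (show Γ(S.X n, ρ n ⁻¹ᵁ V) from (D.v n).app V y) _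
    refine Eq.trans ?_ (congr(($h).app U (tmul c a)))
    show μ.app U (tmul a c) = μ.app U ((swapB D.M).hom.app U (tmul c a))
    rw [(swapB D.M).hom_tmul]
    rfl
  · let B' : Bilin D.M (CohB1.tensorMod D.M D.M) D.M :=
      { b := fun V x z => μ.app V (tmul x (μ.app V z))
        add_left := fun V x x' z => by rw [AmpleVan.tmul_add_left, map_add]
        add_right := fun V x z z' => by rw [map_add]; exact app_tmul_add_right μ x _ _
        smul_left := fun V r x z => by rw [tmul_smul_left, Scheme.Modules.Hom.app_smul]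
        smul_right := fun V r x z => by
          rw [Scheme.Modules.Hom.app_smul, tmul_smul_right, Scheme.Modules.Hom.app_smul]
        res := fun h x z => by rw [← AModX.app_res, res_tmul, ← AModX.app_res] }
    have hM3 : Coh.IsCoh (CohB1.tensorMod (CohB1.tensorMod D.M D.M) D.M) :=
      ParShLib.isCoh_tensorMod (isCoh_tensor D) D.coh
    let B1 : Bilin (CohB1.tensorMod D.M D.M) D.M D.M :=
      { b := fun V z x => μ.app V (tmul (μ.app V z) x)
        add_left := fun V z z' x => by rw [map_add, AmpleVan.tmul_add_left, map_add]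
        add_right := fun V z x x' => app_tmul_add_right μ _ x x'
        smul_left := fun V r z x => by
          rw [Scheme.Modules.Hom.app_smul, tmul_smul_left, Scheme.Modules.Hom.app_smul]
        smul_right := fun V r z x => by rw [tmul_smul_right, Scheme.Modules.Hom.app_smul]
        res := fun h z x => by rw [← AModX.app_res, res_tmul, ← AModX.app_res] }
    let T1 := B1.hom
    let T2 := assocHom D.M D.M D.M ≫ B'.hom
    have h1 : ∀ (V : X.Opens) (x y z : Γ(D.M, V)),
        T1.app V (tmul (tmul x y) z) = μ.app V (tmul (μ.app V (tmul x y)) z) := fun V x y z =>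
      B1.hom_tmul _ _
    have h2 : ∀ (V : X.Opens) (x y z : Γ(D.M, V)),
        T2.app V (tmul (tmul x y) z) = μ.app V (tmul x (μ.app V (tmul y z))) := fun V x y z =>
      (congrArg (B'.hom.app V) (assocHom_tmul x y z)).trans (B'.hom_tmul _ _)
    have h : T1 = T2 := by
      refine D.hom_ext hr hp hM3 fun n => hom_ext_tmul3 D.coh.1 D.coh.1 fun V x y z => ?_
      show (D.v n).app V (T1.app V (tmul (tmul x y) z)) = (D.v n).app V (T2.app V (tmul (tmul x y) z))
      rw [h1, h2, hμ, hμ, hμ, hμ]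
      exact mul_assoc (show Γ(S.X n, ρ n ⁻¹ᵁ V) from (D.v n).app V x) _ _
    rw [← h1, ← h2, h]
  · let σ : Γ(D.M, ⊤) := e.app ⊤ (1 : Γ(X, ⊤))
    have hσ : ∀ V : X.Opens, AModX.res D.M (le_top : V ≤ ⊤) σ = e.app V (1 : Γ(X, V)) := fun V =>
      res_one_app e le_top
    have h : AmpleVan.mulSec σ D.M ≫ μ = 𝟙 D.M := by
      refine D.hom_ext hr hp D.coh fun n => QCoh.hom_ext_app fun V x => ?_
      show (D.v n).app V (μ.app V ((AmpleVan.mulSec σ D.M).app V x)) = (D.v n).app V x
      rw [AmpleVan.mulSec_app, hμ, hσ, he]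
      exact mul_one (show Γ(S.X n, ρ n ⁻¹ᵁ V) from (D.v n).app V x)
    refine Eq.trans ?_ (congr(($h).app U a))
    show _ = μ.app U ((AmpleVan.mulSec σ D.M).app U a)
    rw [AmpleVan.mulSec_app, hσ]

variable {D} (P : RingData D)

/-- The sections of the algebra. -/
def Rg (_P : RingData D) (U : X.Opens) : Type u := Γ(D.M, U)

instance (U : X.Opens) : AddCommGroup (Rg P U) := inferInstanceAs (AddCommGroup Γ(D.M, U))

/-- A section of the module as one of the algebra. -/
def toRg {U : X.Opens} (a : Γ(D.M, U)) : Rg P U := a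

/-- A section of the algebra as one of the module. -/
def ofRg {U : X.Opens} (a : Rg P U) : Γ(D.M, U) := a

instance (U : X.Opens) : CommRing (Rg P U) where
  mul a b := toRg P (P.μ.app U (tmul (ofRg P a) (ofRg P b)))
  one := toRg P (P.e.app U (1 : Γ(X, U)))
  mul_assoc a b c := P.mul_assoc' U _ _ _
  mul_comm a b := P.mul_comm' U _ _
  mul_one a := P.mul_one' U _
  one_mul a := (P.mul_comm' U _ _).trans (P.mul_one' U _)
  left_distrib a b c := app_tmul_add_right P.μ (ofRg P a) (ofRg P b) (ofRg P c)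
  right_distrib a b c := (congrArg (P.μ.app U) (AmpleVan.tmul_add_left (ofRg P a) (ofRg P b) (ofRg P c))).trans
    (map_add _ _ _)
  zero_mul a := (congrArg (P.μ.app U) (AmpleVan.tmul_zero_left (ofRg P a))).trans (map_zero _)
  mul_zero a := (P.mul_comm' U _ _).trans ((congrArg (P.μ.app U) (AmpleVan.tmul_zero_left (ofRg P a))).trans (map_zero _))

/-- Restriction. -/
def rres {U V : X.Opens} (h : V ≤ U) : Rg P U →+* Rg P V where
  toFun a := toRg P (AModX.res D.M h (ofRg P a))
  map_one' := res_one_app P.e h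
  map_mul' a b := (AModX.app_res P.μ h _).symm.trans (congrArg (P.μ.app V) (res_tmul h _ _))
  map_zero' := map_zero (AModX.res D.M h)
  map_add' := map_add (AModX.res D.M h)

/-- The presheaf of rings. -/
def presh : TopCat.Presheaf CommRingCat.{u} X.carrier where
  obj U := CommRingCat.of (Rg P U.unop)
  map i := CommRingCat.ofHom (rres P i.unop.le)
  map_id U := CommRingCat.hom_ext (RingHom.ext fun a => ConcreteCategory.congr_hom (D.M.presheaf.map_id U) a)
  map_comp i j := CommRingCat.hom_ext (RingHom.ext fun a =>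
    ConcreteCategory.congr_hom (D.M.presheaf.map_comp i j) a)

theorem isSheaf_presh : (presh P).IsSheaf := by
  rw [TopCat.Presheaf.isSheaf_iff_isSheafUniqueGluing]
  intro ι U sf hsf
  let MS : TopCat.Sheaf Ab.{u} X := ⟨D.M.presheaf, Scheme.Modules.isSheaf D.M⟩
  obtain ⟨l, hl, hl'⟩ := MS.existsUnique_gluing U (fun i => ofRg P (sf i)) fun i j => hsf i j
  exact ⟨toRg P l, fun i => hl i, fun p hp => hl' _ fun i => hp i⟩

theorem smul_one_mul {U : X.Opens} (r : Γ(X, U)) (a : Rg P U) :
    toRg P (r • P.e.app U (1 : Γ(X, U))) * a = toRg P (r • ofRg P a) :=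
  (congrArg (P.μ.app U) (tmul_smul_left r _ (ofRg P a))).trans
    ((Scheme.Modules.Hom.app_smul _ _ _).trans (congrArg (r • ·) ((P.mul_comm' U _ _).trans (P.mul_one' U _))))

/-- A function as a section of the algebra. -/
def strFn (U : X.Opens) : Γ(X, U) →+* Rg P U where
  toFun r := toRg P (r • P.e.app U (1 : Γ(X, U)))
  map_one' := congrArg (toRg P) (one_smul Γ(X, U) (P.e.app U (1 : Γ(X, U))))
  map_zero' := congrArg (toRg P) (zero_smul Γ(X, U) (P.e.app U (1 : Γ(X, U))))
  map_add' r s := congrArg (toRg P) (add_smul r s (P.e.app U (1 : Γ(X, U))))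
  map_mul' r s := (congrArg (toRg P) (mul_smul r s (P.e.app U (1 : Γ(X, U))))).trans
    (smul_one_mul P r (toRg P (s • P.e.app U (1 : Γ(X, U))))).symm

theorem strFn_mul {U : X.Opens} (r : Γ(X, U)) (a : Rg P U) : strFn P U r * a = toRg P (r • ofRg P a) :=
  smul_one_mul P r a

theorem rres_strFn {U V : X.Opens} (h : V ≤ U) (r : Γ(X, U)) :
    rres P h (strFn P U r) = strFn P V (AModX.resR h r) := by
  show toRg P (AModX.res D.M h (r • P.e.app U (1 : Γ(X, U)))) = toRg P ((AModX.resR h r) • P.e.app V (1 : Γ(X, V)))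
  rw [AModX.res_smul, res_one_app]

/-- The structure map. -/
def str : X.presheaf ⟶ presh P where
  app U := CommRingCat.ofHom (strFn P U.unop)
  naturality U V i := CommRingCat.hom_ext (RingHom.ext fun r => (rres_strFn P i.unop.le r).symm)

theorem isQC_presh : RelSpec.IsQC (presh P) (str P) := by
  intro U hU r
  have hM := D.coh.1
  let V := X.basicOpen r
  let ρM : Rg P U →+* Rg P V := rres P (X.basicOpen_le r)
  let ρO := (X.presheaf.map (homOfLE (X.basicOpen_le r)).op).hom
  letI := ((presh P).map (homOfLE (X.basicOpen_le r)).op).hom.toAlgebra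
  let sr : Rg P U := strFn P U r
  have hpow : ∀ k, sr ^ k = strFn P U (r ^ k) := fun k => (map_pow (strFn P U) r k).symm
  have hρ : ∀ s : Γ(X, U), ρM (strFn P U s) = strFn P V (ρO s) := rres_strFn P (X.basicOpen_le r)
  refine (isLocalization_iff _ _).mpr ⟨fun ⟨_, k, rfl⟩ => ?_, fun z => ?_, fun {x y} hxy => ?_⟩
  · show IsUnit (ρM (sr ^ k))
    rw [hpow, hρ, map_pow ρO r k]
    exact ((RingedSpace.isUnit_res_basicOpen X.toRingedSpace r).pow k).map (strFn P V)
  · let z' : Rg P V := z
    obtain ⟨k, t, htk⟩ := QCoh.exists_pow_smul_eq_map_of_isQuasiSeparated hM hU.isCompact hU.isQuasiSeparated r (ofRg P z')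
    refine ⟨(toRg P t, ⟨sr ^ k, k, rfl⟩), ?_⟩
    show z' * ρM (sr ^ k) = ρM (toRg P t)
    rw [hpow, hρ, mul_comm]
    refine (strFn_mul P (ρO (r ^ k)) z').trans ?_
    exact (congrArg (· • ofRg P z') (map_pow ρO r k)).trans htk.symm
  · let x' : Rg P U := x
    let y' : Rg P U := y
    have hxy' : ρM x' = ρM y' := hxy
    obtain ⟨k, hk⟩ := QCoh.exists_pow_smul_eq_zero_of_isCompact hM hU.isCompact r (ofRg P x' - ofRg P y')
      (by rw [map_sub]; exact sub_eq_zero.mpr hxy')
    refine ⟨⟨sr ^ k, k, rfl⟩, ?_⟩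
    show sr ^ k * x' = sr ^ k * y'
    rw [hpow]
    exact (strFn_mul P (r ^ k) x').trans ((congrArg (toRg P)
      (sub_eq_zero.1 ((smul_sub _ _ _).symm.trans hk))).trans (strFn_mul P (r ^ k) y').symm)

/-- The algebra. -/
def alg : RelSpec.QCAlg X where
  presheaf := presh P
  isSheaf := isSheaf_presh P
  str := str P
  isQC := isQC_presh P

/-- Reading on a level, as a ring map. -/
def vFn (n : ℕ) (U : X.Opens) : Rg P U →+* Γ(S.X n, ρ n ⁻¹ᵁ U) where
  toFun a := (D.v n).app U (ofRg P a)
  map_one' := P.v_one n U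
  map_mul' a b := P.v_mul n U _ _
  map_zero' := map_zero _
  map_add' := map_add _

theorem vFn_strFn (n : ℕ) {U : X.Opens} (r : Γ(X, U)) : vFn P n U (strFn P U r) = (ρ n).app U r := by
  show (D.v n).app U (r • P.e.app U (1 : Γ(X, U))) = _
  rw [Scheme.Modules.Hom.app_smul, P.v_one]
  exact mul_one ((ρ n).app U r)

/-- Reading on a level, as a map of presheaves of rings. -/
def vHom (n : ℕ) : presh P ⟶ (ρ n).base _* (S.X n).presheaf where
  app U := CommRingCat.ofHom (vFn P n U.unop)
  naturality U V i := CommRingCat.hom_ext (RingHom.ext fun a => AModX.app_res (D.v n) i.unop.le _)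

theorem str_vHom (n : ℕ) : str P ≫ vHom P n = (ρ n).c :=
  NatTrans.ext (funext fun U => CommRingCat.hom_ext (RingHom.ext fun r => vFn_strFn P n (U := U.unop) r))

instance isIso_gamma (U : X.Opens) : IsIso ((alg P).gammaMap.app (op U)) := by
  haveI := RelSpecX.isIso_gammaMap (alg P)
  infer_instance

/-- The algebra homomorphism of a level. -/
def Ω (n : ℕ) : AffAlg.algHoms (alg P).π (ρ n) :=
  ⟨(alg P).gammaMap ≫ vHom P n, by
    rw [reassoc_of% (alg P).π_c_gammaMap]
    exact str_vHom P n⟩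

/-- The map from a level into the spectrum. -/
def lvl (n : ℕ) : S.X n ⟶ (alg P).spec := RelSpecX.ofAlgHom (alg P).π (ρ n) (Ω P n)

theorem lvl_π (n : ℕ) : lvl P n ≫ (alg P).π = ρ n := RelSpecX.ofAlgHom_comp _ _ _

theorem algHom_lvl (n : ℕ) (U : X.affineOpens) :
    (AffAlg.algHom (alg P).π (ρ n) (lvl P n) (lvl_π P n)).app (op U.1) =
      (alg P).gammaMap.app (op U.1) ≫ (vHom P n).app (op U.1) := by
  rw [RelSpecX.algHom_app]
  exact RelSpecX.appLE_ofAlgHom _ _ _ U _

theorem lvl_trans (n : ℕ) : S.i n ≫ lvl P (n + 1) = lvl P n := by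
  refine RelSpecX.algHom_injective (alg P).π (ρ n) (by rw [Category.assoc, lvl_π, ht]) (lvl_π P n) fun U => ?_
  rw [algHom_lvl P n U, RelSpecX.algHom_app]
  have e2 : (alg P).π ⁻¹ᵁ U.1 |> fun V => ρ (n + 1) ⁻¹ᵁ U.1 ≤ lvl P (n + 1) ⁻¹ᵁ V :=
    (RelSpecX.preimage_eq (alg P).π (ρ (n + 1)) (lvl P (n + 1)) (lvl_π P (n + 1)) U.1).le
  rw [← Scheme.Hom.appLE_comp_appLE (S.i n) (lvl P (n + 1)) ((alg P).π ⁻¹ᵁ U.1) (ρ (n + 1) ⁻¹ᵁ U.1) _ e2
    (preimage_eq S ρ ht n U.1).le]
  refine (congrArg (· ≫ _) (RelSpecX.appLE_ofAlgHom (alg P).π (ρ (n + 1)) (Ω P (n + 1)) U e2)).trans ?_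
  show ((alg P).gammaMap.app (op U.1) ≫ (vHom P (n + 1)).app (op U.1)) ≫ _ = _
  rw [Category.assoc]
  refine congrArg ((alg P).gammaMap.app (op U.1) ≫ ·) (CommRingCat.hom_ext (RingHom.ext fun a => ?_))
  exact congr(($(D.compat n)).app U.1 (ofRg P a))

theorem isClosedImmersion_lvl (n : ℕ) : IsClosedImmersion (lvl P n) := by
  refine RelSpecX.isClosedImmersion_of_surjective (alg P).π (ρ n) (lvl P n) (lvl_π P n) fun U => ?_
  rw [algHom_lvl P n U]
  haveI := (D.quot n).epi
  have hq : Coh.IsQCoh (Gl S ρ n) := by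
    haveI : IsLocallyNoetherian X := LocallyOfFiniteType.isLocallyNoetherian (X ↘ Spec (CommRingCat.of A))
    exact QCoh.isQCoh_pushforward (ρ n) QCoh.isQCoh_structureModule
  exact Function.Surjective.comp (g := (vFn P n U.1 : Rg P U.1 → _))
    (QCoh.app_surjective_of_epi D.coh.1 hq (D.v n) U.2)
    (ConcreteCategory.bijective_of_isIso ((alg P).gammaMap.app (op U.1))).2

/-- The generated ideal of the algebra is the smul submodule of the module. -/
theorem mem_map_strFn {U : X.Opens} (J : Ideal Γ(X, U)) (a : Rg P U) :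
    a ∈ J.map (strFn P U) ↔ ofRg P a ∈ J • (⊤ : Submodule Γ(X, U) Γ(D.M, U)) := by
  constructor
  · intro h
    induction h using Submodule.span_induction with
    | mem x hx =>
      obtain ⟨r, hr, rfl⟩ := hx
      exact Submodule.smul_mem_smul hr trivial
    | zero => exact zero_mem _
    | add x y _ _ hx hy => exact add_mem hx hy
    | smul t x _ hx =>
      show P.μ.app U (tmul (ofRg P t) (ofRg P x)) ∈ _
      refine Submodule.smul_induction_on hx (fun r hr z _ => ?_) fun x y hx hy => ?_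
      · rw [tmul_smul_right, Scheme.Modules.Hom.app_smul]
        exact Submodule.smul_mem_smul hr trivial
      · rw [app_tmul_add_right]
        exact add_mem hx hy
  · intro h
    suffices ∀ z ∈ J • (⊤ : Submodule Γ(X, U) Γ(D.M, U)), toRg P z ∈ J.map (strFn P U) from this _ h
    intro z hz
    refine Submodule.smul_induction_on hz (fun r hr y _ => ?_) fun x y hx hy => ?_
    · show toRg P (r • ofRg P (toRg P y)) ∈ _
      rw [← strFn_mul]
      exact Ideal.mul_mem_right _ _ (Ideal.mem_map_of_mem _ hr)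
    · exact add_mem hx hy

theorem π_str (U : X.affineOpens) (r : Γ(X, U.1)) :
    (alg P).gammaMap.app (op U.1) ((alg P).π.app U.1 r) = strFn P U.1 r :=
  congr(($((alg P).π_c_gammaMap)).app (op U.1) r)

theorem isFinite_π : IsFinite (alg P).π := by
  haveI : IsLocallyNoetherian X := LocallyOfFiniteType.isLocallyNoetherian (X ↘ Spec (CommRingCat.of A))
  refine ⟨fun U hU => ?_⟩
  haveI := QCoh.finite_of_isFT D.coh.1 D.coh.2 hU
  have h1 : (strFn P U).Finite := by
    letI := (strFn P U).toAlgebra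
    let L : Γ(D.M, U) →ₗ[Γ(X, U)] Rg P U :=
      { toFun := toRg P
        map_add' := fun _ _ => rfl
        map_smul' := fun r a => (strFn_mul P r (toRg P a)).symm }
    exact Module.Finite.of_surjective L fun a => ⟨ofRg P a, rfl⟩
  let g := asIso ((alg P).gammaMap.app (op U))
  have h2 : ((alg P).π.app U).hom = g.inv.hom.comp (strFn P U) := RingHom.ext fun r => by
    show (alg P).π.app U r = g.inv (strFn P U r)
    rw [← π_str P ⟨U, hU⟩ r]
    exact (g.hom_inv_id_apply _).symm
  rw [h2]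
  exact RingHom.Finite.comp (RingHom.Finite.of_surjective _ (ConcreteCategory.bijective_of_isIso g.inv).2) h1

theorem range_π_subset : Set.range (alg P).π ⊆ CohB1.support D.M := by
  rintro _ ⟨w, rfl⟩
  by_contra hw
  obtain ⟨_, ⟨U, hU, rfl⟩, hwU, hUM⟩ := X.isBasis_affineOpens.exists_subset_of_mem_open
    (show (alg P).π w ∈ (CohB1.support D.M)ᶜ from hw) (H9ProperSupp.isClosed_support D.coh).isOpen_compl
  replace hU : IsAffineOpen U := hU
  haveI : Subsingleton Γ(D.M, U) :=
    CohBasic.subsingleton_sections_of_stalks _ fun y hy => not_not.1 fun hne => hUM hy hne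
  let g := (alg P).gammaMap.app (op U)
  have h1 : (1 : Γ((alg P).spec, (alg P).π ⁻¹ᵁ U)) = 0 :=
    (ConcreteCategory.bijective_of_isIso g).1 (Subsingleton.elim (α := Γ(D.M, U)) _ _)
  have h2 : w ∈ (alg P).spec.basicOpen (1 : Γ((alg P).spec, (alg P).π ⁻¹ᵁ U)) := by
    rw [Scheme.basicOpen_of_isUnit _ isUnit_one]; exact hwU
  rw [h1, Scheme.basicOpen_zero] at h2
  exact h2

theorem isProper_π : IsProper ((alg P).π ≫ (X ↘ Spec (CommRingCat.of A))) := by
  haveI := isFinite_π P
  let π := (alg P).π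
  have hC : IsClosed (Set.range π) := π.isClosedMap.isClosed_range
  have hr' : Set.range π.imageι = Set.range π := by
    rw [show Set.range π.imageι = (π.ker.support : Set X) from Scheme.IdealSheafData.range_subschemeι _,
      show (π.ker.support : Set X) = closure (Set.range π) from π.support_ker, hC.closure_eq]
  haveI : IsProper (π.imageι ≫ (X ↘ Spec (CommRingCat.of A))) :=
    (QCoh.isProperOver_iff π.imageι).1 (QCoh.IsProperOver.subset D.ps π.imageι.isClosedEmbedding.isClosed_range
      (hr'.le.trans (range_π_subset P)))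
  haveI : IsProper (π.toImage ≫ π.imageι) := by rw [π.toImage_imageι]; infer_instance
  haveI : IsProper π.toImage := IsProper.of_comp π.toImage π.imageι
  rw [show (alg P).π = π.toImage ≫ π.imageι from π.toImage_imageι.symm, Category.assoc]
  infer_instance

theorem isPullback_of_ker {Z Z' B W : Scheme.{u}} (w : Z ⟶ W) [IsClosedImmersion w] (p : Z ⟶ Z') (h : W ⟶ B)
    (q : Z' ⟶ B) [IsClosedImmersion q] (hw : w ≫ h = p ≫ q) (hker : w.ker = q.ker.comap h) :
    IsPullback w p h q := by
  have hs : ∀ s : PullbackCone h q, w.ker ≤ s.fst.ker := fun s => by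
    rw [hker, ← Scheme.IdealSheafData.le_map_iff_comap_le, Scheme.IdealSheafData.map_ker, s.condition]
    exact Scheme.Hom.le_ker_comp _ _
  refine ⟨⟨hw⟩, ⟨PullbackCone.IsLimit.mk _ (fun s => IsClosedImmersion.lift w s.fst (hs s))
    (fun s => IsClosedImmersion.lift_fac _ _ _) (fun s => ?_) fun s φ h₁ _ => ?_⟩⟩
  · rw [← cancel_mono q, Category.assoc, ← s.condition, ← hw, ← Category.assoc, IsClosedImmersion.lift_fac]
  · rw [← cancel_mono w, IsClosedImmersion.lift_fac, h₁]

include hr in
theorem isPullback_lvl (n : ℕ) :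
    IsPullback (lvl P n) (S.p n) ((alg P).π ≫ (X ↘ Spec (CommRingCat.of A))) (CohB1.specQuot I n) := by
  haveI := isClosedImmersion_lvl P n
  haveI : IsClosedImmersion (CohB1.specQuot I n) :=
    IsClosedImmersion.spec_of_surjective _ Ideal.Quotient.mk_surjective
  letI : (alg P).spec.Over (Spec (CommRingCat.of A)) := ⟨(alg P).π ≫ (X ↘ Spec (CommRingCat.of A))⟩
  have hw : lvl P n ≫ (alg P).π ≫ (X ↘ Spec (CommRingCat.of A)) = S.p n ≫ CohB1.specQuot I n := by
    rw [← Category.assoc, lvl_π, hr n]; rfl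
  refine isPullback_of_ker (lvl P n) (S.p n) _ _ hw ?_
  refine Scheme.IdealSheafData.ext_of_iSup_eq_top
    (fun U : X.affineOpens => ⟨(alg P).π ⁻¹ᵁ U.1, U.2.preimage (alg P).π⟩)
    (IsOpenCover.comap (iSup_affineOpens_eq_top X) (alg P).π.base.1) fun U => ?_
  let h := (alg P).spec ↘ Spec (CommRingCat.of A)
  let V : (alg P).spec.affineOpens := ⟨(alg P).π ⁻¹ᵁ U.1, U.2.preimage (alg P).π⟩
  have hc : ((CohB1.specQuot I n).ker.comap h).ideal V = (I ^ (n + 1)).map (scal A V.1) := by
    rw [← FComplLib.ker_of_isPullback (IsPullback.of_hasPullback h (CohB1.specQuot I n))]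
    exact AmpleVan.ker_ideal_of_isPullback (IsPullback.of_hasPullback _ _) V
  show _ = ((CohB1.specQuot I n).ker.comap h).ideal V
  rw [hc, FComplLib.ideal_ker]
  let γ := (alg P).gammaMap.app (op U.1)
  have hscal : γ.hom.comp (scal A V.1) = (strFn P U.1).comp (scal A U.1) := by
    ext c
    refine Eq.trans ?_ (π_str P U (scal A U.1 c))
    show γ _ = γ _
    congr 1
    show _ = (alg P).π.app U.1 (Coh.resTop X (op U.1) _)
    rw [AmpleVan.resTop_app]
    rfl
  have hsurj : Function.Surjective γ.hom := (ConcreteCategory.bijective_of_isIso γ).2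
  ext b
  have hb : (lvl P n).app V.1 b = 0 ↔ vFn P n U.1 (γ b) = 0 := by
    rw [← appLE_eq_zero_iff_of_eq (lvl P n)
      (RelSpecX.preimage_eq (alg P).π (ρ n) (lvl P n) (lvl_π P n) U.1).le
      (RelSpecX.preimage_eq (alg P).π (ρ n) (lvl P n) (lvl_π P n) U.1) b]
    exact iff_of_eq (congrArg (· = 0) congr($(RelSpecX.appLE_ofAlgHom (alg P).π (ρ n) (Ω P n) U
      (RelSpecX.preimage_eq (alg P).π (ρ n) (lvl P n) (lvl_π P n) U.1).le) b))
  rw [RingHom.mem_ker]
  refine hb.trans ?_
  show (D.v n).app U.1 (ofRg P (γ b)) = 0 ↔ _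
  rw [H9Existence.app_eq_zero_iff_of_isQuot (D.quot n) D.coh.1 U, ← mem_map_strFn P, Ideal.map_map, ← hscal,
    ← Ideal.map_map]
  rw [Ideal.mem_map_iff_of_surjective _ hsurj]
  exact ⟨fun ⟨c, hc, he⟩ => (ConcreteCategory.bijective_of_isIso γ).1 he ▸ hc, fun h => ⟨b, h, rfl⟩⟩

end Groth.Agent.H9PiOne

namespace Groth.Agent.H9PiOne

open Groth.Agent

variable {A : Type u} [CommRing A] [IsNoetherianRing A] {I : Ideal A} [IsAdicComplete I A] {X : Scheme.{u}}
  [X.Over (Spec (CommRingCat.of A))] [IsSeparated (X ↘ Spec (CommRingCat.of A))]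
  [LocallyOfFiniteType (X ↘ Spec (CommRingCat.of A))] [QuasiCompact (X ↘ Spec (CommRingCat.of A))]

/-- A finite formal scheme with proper reduction is the completion of a finite scheme proper over the base. -/
theorem exists_finite_of_system (S : AmpleVan.AdicSys A I) (ρ : ∀ n, S.X n ⟶ X) [∀ n, IsFinite (ρ n)]
    (hr : ∀ n, ρ n ≫ (X ↘ Spec (CommRingCat.of A)) = S.X n ↘ Spec (CommRingCat.of A))
    (ht : ∀ n, S.i n ≫ ρ (n + 1) = ρ n) (hp : IsProper (S.p 0)) :
    ∃ (W : Scheme.{u}) (i : W ⟶ X) (w : ∀ n, S.X n ⟶ W), IsFinite i ∧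
      IsProper (i ≫ (X ↘ Spec (CommRingCat.of A))) ∧ (∀ n, w n ≫ i = ρ n) ∧
      (∀ n, S.i n ≫ w (n + 1) = w n) ∧
      ∀ n, IsPullback (w n) (S.p n) (i ≫ (X ↘ Spec (CommRingCat.of A))) (CohB1.specQuot I n) := by
  obtain ⟨D⟩ := nonempty_algModel S ρ hr ht hp
  obtain ⟨P⟩ := nonempty_ringData hr hp D
  exact ⟨(alg P).spec, (alg P).π, lvl P, isFinite_π P, isProper_π P, lvl_π P, lvl_trans P,
    isPullback_lvl hr P⟩

end Groth.Agent.H9PiOne

end
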