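import Groth.Agent.AmpleVan.Mul
import Groth.Agent.QCoh.TensorSections
import Groth.Agent.CohBasic.EulerBC
import Groth.Agent.LimMod.Crit

/-!
# Bilinear families as morphisms out of a tensor product
-/

set_option autoImplicit false
set_option linter.style.haveILetI false
set_option backward.isDefEq.respectTransparency false
set_option backward.isDefEq.respectTransparency.types false

universe u

open CategoryTheory CategoryTheory.Limits AlgebraicGeometry TopologicalSpace Opposite MonoidalCategory

noncomputable section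

namespace Groth.Agent.H9PiOne

open Groth.Agent InvX

attribute [-instance] CategoryTheory.catToReflQuiver

variable {X : Scheme.{u}} {M N W : X.Modules}

/-- A bilinear family of maps on sections, compatible with restriction. -/
structure Bilin (M N W : X.Modules) where
  /-- The maps. -/
  b : ∀ U : X.Opens, Γ(M, U) → Γ(N, U) → Γ(W, U)
  add_left : ∀ U (m m' : Γ(M, U)) (n : Γ(N, U)), b U (m + m') n = b U m n + b U m' n
  add_right : ∀ U (m : Γ(M, U)) (n n' : Γ(N, U)), b U m (n + n') = b U m n + b U m n'
  smul_left : ∀ U (r : Γ(X, U)) (m : Γ(M, U)) (n : Γ(N, U)), b U (r • m) n = r • b U m n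
  smul_right : ∀ U (r : Γ(X, U)) (m : Γ(M, U)) (n : Γ(N, U)), b U m (r • n) = r • b U m n
  res : ∀ {U V : X.Opens} (h : V ≤ U) (m : Γ(M, U)) (n : Γ(N, U)),
    AModX.res W h (b U m n) = b V (AModX.res M h m) (AModX.res N h n)

namespace Bilin

variable (B : Bilin M N W)

/-- The map on the presheaf tensor product over one open. -/
def app (U : (X.Opens)ᵒᵖ) :
    ((DCoh.toP.obj M ⊗ DCoh.toP.obj N : CohB1.PMod X).obj U) →+ ((DCoh.toP.obj W).obj U) :=
  TensorProduct.liftAddHom
    (AddMonoidHom.mk' (fun m => AddMonoidHom.mk' (fun n => B.b U.unop m n) fun n n' => B.add_right U.unop m n n')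
      fun m m' => AddMonoidHom.ext fun n => B.add_left U.unop m m' n)
    fun r m n => (B.smul_left U.unop r m n).trans (B.smul_right U.unop r m n).symm

theorem app_tm (U : (X.Opens)ᵒᵖ) (m : (DCoh.toP.obj M).obj U) (n : (DCoh.toP.obj N).obj U) :
    B.app U (KFlatLib.tm m n) = B.b U.unop m n :=
  rfl

/-- The map of presheaves out of the tensor product. -/
def pre : (DCoh.toP.obj M ⊗ DCoh.toP.obj N : CohB1.PMod X) ⟶ DCoh.toP.obj W :=
  PresheafOfModules.homMk
    { app := fun U => AddCommGrpCat.ofHom (B.app U)
      naturality := fun U V i => by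
        ext z
        show B.app V (KFlatLib.res (DCoh.toP.obj M ⊗ DCoh.toP.obj N) i.unop z) =
          W.presheaf.map i (B.app U z)
        induction z using KFlatLib.tm_induction with
        | h0 => rw [map_zero, map_zero, map_zero]; exact (map_zero _).symm
        | htm m n =>
          rw [KFlatLib.res_tm, app_tm, app_tm]
          exact (B.res i.unop.le m n).symm
        | hadd a b ha hb => rw [map_add, map_add, map_add, map_add, ha, hb] }
    fun U r z => by
      show B.app U (r • z) = (show Γ(X, U.unop) from r) • (show Γ(W, U.unop) from B.app U z)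
      induction z using KFlatLib.tm_induction with
      | h0 => rw [smul_zero, map_zero]; exact (smul_zero _).symm
      | htm m n =>
        exact (congrArg (B.app U) (KFlatLib.tm_smul_left r m n).symm).trans (B.smul_left U.unop r m n)
      | hadd a b ha hb =>
        rw [smul_add, map_add, map_add, ha, hb]
        exact (smul_add _ _ _).symm

/-- The morphism out of the tensor product. -/
def hom : CohB1.tensorMod M N ⟶ W :=
  ((PresheafOfModules.sheafificationAdjunction (𝟙 X.ringCatSheaf.obj)).homEquiv _ W).symm B.pre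


theorem hom_tmul {U : X.Opens} (m : Γ(M, U)) (n : Γ(N, U)) : B.hom.app U (tmul m n) = B.b U m n := by
  have h := ((PresheafOfModules.sheafificationAdjunction (𝟙 X.ringCatSheaf.obj)).homEquiv
    (DCoh.toP.obj M ⊗ DCoh.toP.obj N : CohB1.PMod X) W).apply_symm_apply B.pre
  rw [Adjunction.homEquiv_unit] at h
  have h' : KFlatLib.unitShP (DCoh.toP.obj M ⊗ DCoh.toP.obj N) ≫ DCoh.toP.map B.hom = B.pre := h
  have h2 := congr(($h').app (op U) (KFlatLib.tm m n))
  exact h2.trans (B.app_tm (op U) m n)

end Bilin

theorem tmul_add_right {U : X.Opens} (a : Γ(M, U)) (b b' : Γ(N, U)) : tmul a (b + b') = tmul a b + tmul a b' :=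
  (congrArg _ (KFlatLib.tm_add_right a b b')).trans (map_add _ _ _)

theorem app_tmul_add_right (φ : CohB1.tensorMod M N ⟶ W) {U : X.Opens} (a : Γ(M, U)) (b b' : Γ(N, U)) :
    φ.app U (tmul a (b + b')) = φ.app U (tmul a b) + φ.app U (tmul a b') := by
  rw [tmul_add_right, map_add]

/-- The associator. -/
def assocHom (M N P : X.Modules) :
    CohB1.tensorMod (CohB1.tensorMod M N) P ⟶ CohB1.tensorMod M (CohB1.tensorMod N P) :=
  (AmpleVan.assocT M N P).hom

theorem assocHom_tmul {P : X.Modules} {U : X.Opens} (a : Γ(M, U)) (b : Γ(N, U)) (c : Γ(P, U)) :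
    (assocHom M N P).app U (tmul (tmul a b) c) = tmul a (tmul b c) :=
  AmpleVan.assoc_tmul a b c

/-- Morphisms out of a triple tensor product agree if they agree on pure tensors over affine opens. -/
theorem hom_ext_tmul3 {P : X.Modules} (hM : Coh.IsQCoh M) (hN : Coh.IsQCoh N)
    {φ ψ : CohB1.tensorMod (CohB1.tensorMod M N) P ⟶ W}
    (h : ∀ (U : X.Opens) (a : Γ(M, U)) (b : Γ(N, U)) (c : Γ(P, U)),
      φ.app U (tmul (tmul a b) c) = ψ.app U (tmul (tmul a b) c)) : φ = ψ := by
  refine AmpleVan.hom_ext_tmul (M := CohB1.tensorMod M N) (N := P) (W := W) fun U m c =>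
    AModX.eq_of_locally _ _ fun p hp => ?_
  obtain ⟨_, ⟨V, hV, rfl⟩, hpV, hVU⟩ :=
    X.isBasis_affineOpens.exists_subset_of_mem_open hp U.isOpen
  replace hV : IsAffineOpen V := hV
  have hle : V ≤ U := hVU
  refine ⟨V, hle, hpV, ?_⟩
  refine (AModX.app_res φ hle _).symm.trans (Eq.trans ?_ (AModX.app_res ψ hle _))
  erw [res_tmul hle m c]
  generalize AModX.res (CohB1.tensorMod M N) hle m = z
  generalize AModX.res P hle c = c'
  obtain ⟨w, rfl⟩ := (QCoh.bijective_tmLin hM hN hV).2 z
  induction w using TensorProduct.induction_on with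
  | zero =>
    rw [map_zero, AmpleVan.tmul_zero_left, map_zero, map_zero]
  | tmul a b =>
    rw [QCoh.tmLin_tmul]
    exact h V a b c'
  | add x y hx hy =>
    rw [map_add, AmpleVan.tmul_add_left, map_add, map_add, hx, hy]

end Groth.Agent.H9PiOne

end
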