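import Groth.Agent.H9PiOne.SplitExtend
import Groth.Agent.H0FBC.FieldBC
import Groth.Agent.GeomLoci.NearPoint
import Groth.Agent.GeomLoci.ConnCount
import Groth.Agent.S1335
import Groth.Agent.S1364

/-!
# Clopen subsets of proper flat schemes with reduced geometric fibres over a strictly henselian ring
-/

set_option autoImplicit false
set_option linter.style.haveILetI false
set_option linter.unusedSectionVars false
set_option backward.isDefEq.respectTransparency false
set_option backward.isDefEq.respectTransparency.types false

universe u

open CategoryTheory CategoryTheory.Limits AlgebraicGeometry TopologicalSpace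

noncomputable section

namespace Groth.Agent.H9PiOne

open Groth.Agent

attribute [-instance] CategoryTheory.catToReflQuiver

/-- The spectrum of a local ring is preconnected. -/
theorem preconnectedSpace_spec_local (A : Type u) [CommRing A] [IsLocalRing A] :
    PreconnectedSpace ↥(Spec (CommRingCat.of A)) := by
  refine preconnectedSpace_iff_clopen.2 fun C hC => ?_
  by_cases h : (IsLocalRing.closedPoint A : ↥(Spec (CommRingCat.of A))) ∈ C
  · exact Or.inr (Set.eq_univ_of_forall fun x => (IsLocalRing.specializes_closedPoint x).mem_open hC.isOpen h)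
  · exact Or.inl (Set.eq_empty_of_forall_notMem fun x hx =>
      (IsLocalRing.specializes_closedPoint x).mem_open hC.compl.isOpen h hx)

/-- Open subschemes of geometrically reduced morphisms are geometrically reduced. -/
theorem geometricallyReduced_ι_comp {Y S : Scheme.{u}} (f : Y ⟶ S) [GeometricallyReduced f] (U : Y.Opens) :
    GeometricallyReduced (U.ι ≫ f) := by
  refine ⟨geometrically_iff_of_isClosedUnderIsomorphisms.mpr fun K _ y => ?_⟩
  haveI : IsReduced (pullback f y) :=
    GeometricallyReduced.geometrically_isReduced _ _ _ (IsPullback.of_hasPullback f y)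
  let j : pullback (U.ι ≫ f) y ⟶ pullback f y := pullback.map (U.ι ≫ f) y f y U.ι (𝟙 _) (𝟙 _) (by simp) (by simp)
  haveI : IsOpenImmersion j := inferInstance
  show IsReduced (pullback (U.ι ≫ f) y)
  exact isReduced_of_isOpenImmersion j

variable {A : Type u} [CommRing A] [HenselianLocalRing A] [IsSepClosed (IsLocalRing.ResidueField A)]

/-- A proper flat morphism with reduced geometric fibres and connected closed fibre is geometrically connected. -/
theorem geometricallyConnected_of_closedFibre {Z : Scheme.{u}} (g : Z ⟶ Spec (CommRingCat.of A))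
    [IsProper g] [Flat g] [LocallyOfFinitePresentation g] [GeometricallyReduced g]
    [ConnectedSpace ↥(pullback g (Spec.map (CommRingCat.ofHom (IsLocalRing.residue A))))] :
    GeometricallyConnected g := by
  refine GeomLoci.geometricallyConnected_of_nGeom (f := g) fun y => ?_
  haveI : PreconnectedSpace ↥(Spec (CommRingCat.of A)) := preconnectedSpace_spec_local A
  let r := Spec.map (CommRingCat.ofHom (IsLocalRing.residue A))
  let pt : Spec (CommRingCat.of (IsLocalRing.ResidueField A)) := IsLocalRing.closedPoint (IsLocalRing.ResidueField A)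
  haveI : GeometricallyConnected (pullback.snd g r) := H0FBC.geometricallyConnected_of_connectedSpace _
  haveI : GeometricallyConnected ((pullback.snd g r).fiberToSpecResidueField pt) := by
    unfold Scheme.Hom.fiberToSpecResidueField
    exact MorphismProperty.pullback_snd _ _ inferInstance
  refine ((Groth.Agent.S1364.result g).apply_eq_of_preconnectedSpace y (r pt)).trans ?_
  show MoreMor.nGeomConnComp g (r pt) = 1
  rw [← Groth.Agent.S1335.result g (pullback.snd g r) (pullback.fst g r) r (IsPullback.of_hasPullback g r) pt]
  exact GeomLoci.nGeomConnComp_eq_one (f := pullback.snd g r) pt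

/-- The scheme splits into finitely many clopen pieces with geometrically connected fibres. -/
theorem exists_geomConnected_pieces {Y : Scheme.{u}} (f : Y ⟶ Spec (CommRingCat.of A)) [IsProper f] [Flat f]
    [LocallyOfFinitePresentation f] [GeometricallyReduced f] :
    ∃ (ι : Type u) (_ : Finite ι) (G : ι → Y.Opens), (∀ c d, c ≠ d → G c ⊓ G d = ⊥) ∧ ⨆ c, G c = ⊤ ∧
      (∀ c, IsClosed (G c : Set Y)) ∧ ∀ c, GeometricallyConnected ((G c).ι ≫ f) := by
  classical
  let r := Spec.map (CommRingCat.ofHom (IsLocalRing.residue A))
  let i : pullback f r ⟶ Y := pullback.fst f r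
  haveI : IsClosedImmersion r := IsClosedImmersion.spec_of_surjective _ IsLocalRing.residue_surjective
  have hr : Set.range i = f ⁻¹' PrimeSpectrum.zeroLocus (IsLocalRing.maximalIdeal A : Set A) :=
    HensCouple7.range_fst_mk (IsLocalRing.maximalIdeal A) f
  have hlift := (HensCouple7.lifts_range_iff i.isEmbedding).2 (by
    rw [hr]; exact Graft.lifts_proper_pair (IsLocalRing.maximalIdeal A) f)
  haveI : IsProper (pullback.snd f r) := MorphismProperty.pullback_snd (P := @IsProper) _ _ ‹_›
  haveI : IsLocallyNoetherian (pullback f r) := LocallyOfFiniteType.isLocallyNoetherian (pullback.snd f r)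
  haveI : CompactSpace ↥(pullback f r) := QuasiCompact.compactSpace_of_compactSpace (pullback.snd f r)
  haveI : IsNoetherian (pullback f r) := { }
  haveI : Finite (_root_.ConnectedComponents ↥(pullback f r)) := GeomLoci.finite_connectedComponents _
  haveI : DiscreteTopology (_root_.ConnectedComponents ↥(pullback f r)) := inferInstance
  choose G hG using fun c : _root_.ConnectedComponents ↥(pullback f r) =>
    (hlift (ConnectedComponents.mk ⁻¹' {c})
      ((isClopen_discrete {c}).preimage ConnectedComponents.continuous_coe)).exists
  refine ⟨_, inferInstance, fun c => ⟨G c, (hG c).1.2⟩, fun c d hcd => ?_, ?_, fun c => (hG c).1.1, fun c => ?_⟩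
  · refine TopologicalSpace.Opens.ext ?_
    show G c ∩ G d = ∅
    refine ExistsUnique.unique (hlift ∅ isClopen_empty) ⟨(hG c).1.inter (hG d).1, ?_⟩ ⟨isClopen_empty, Set.preimage_empty⟩
    refine Set.eq_empty_of_forall_notMem fun w ⟨h1, h2⟩ => hcd ?_
    exact ((Set.ext_iff.1 (hG c).2 w).1 h1).symm.trans ((Set.ext_iff.1 (hG d).2 w).1 h2)
  · refine eq_top_iff.2 fun z _ => TopologicalSpace.Opens.mem_iSup.2 ?_
    by_contra h
    push_neg at h
    have he : (⋃ c, G c)ᶜ = ∅ := by
      refine ExistsUnique.unique (hlift ∅ isClopen_empty)
        ⟨(isClopen_iUnion_of_finite fun c => (hG c).1).compl, ?_⟩ ⟨isClopen_empty, Set.preimage_empty⟩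
      refine Set.eq_empty_of_forall_notMem fun w hw => hw (Set.mem_iUnion.2 ⟨ConnectedComponents.mk w, ?_⟩)
      exact ((Set.ext_iff.1 (hG (ConnectedComponents.mk w)).2 w).2 rfl)
    have : z ∈ (⋃ c, G c)ᶜ := fun hz => (Set.mem_iUnion.1 hz).elim fun c hc => h c hc
    rw [he] at this
    exact this
  · let U : Y.Opens := ⟨G c, (hG c).1.2⟩
    let g : (U : Scheme.{u}) ⟶ Spec (CommRingCat.of A) := U.ι ≫ f
    haveI : IsClosedImmersion U.ι := IsClosedImmersion.of_isPreimmersion U.ι (by
      rw [Scheme.Opens.range_ι]; exact (hG c).1.1)
    haveI : IsProper g := inferInstanceAs (IsProper (U.ι ≫ f))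
    haveI : GeometricallyReduced g := geometricallyReduced_ι_comp f U
    haveI : ConnectedSpace ↥(pullback g r) := by
      let q : pullback g r ⟶ pullback f r :=
        pullback.lift (pullback.fst g r ≫ U.ι) (pullback.snd g r) (by rw [Category.assoc]; exact pullback.condition)
      have sq : IsPullback q (pullback.fst g r) i U.ι := by
        refine IsPullback.of_right ?_ (pullback.lift_fst _ _ _) (IsPullback.of_hasPullback f r).flip
        rw [pullback.lift_snd]
        exact (IsPullback.of_hasPullback g r).flip
      haveI : IsOpenImmersion q := MorphismProperty.of_isPullback sq.flip inferInstance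
      have hq : Set.range q = ConnectedComponents.mk ⁻¹' {c} := by
        rw [range_of_isPullback sq.flip, Scheme.Opens.range_ι]
        exact (hG c).2
      have hc : _root_.IsConnected (Set.range q) := by
        obtain ⟨x, rfl⟩ := ConnectedComponents.surjective_coe c
        rw [hq, connectedComponents_preimage_singleton]
        exact isConnected_connectedComponent
      haveI := isConnected_iff_connectedSpace.mp hc
      let e := q.isOpenEmbedding.toIsEmbedding.toHomeomorph
      exact e.symm.surjective.connectedSpace e.symm.continuous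
    exact geometricallyConnected_of_closedFibre g

/-- Clopen subsets of a geometric fibre come from the whole scheme. -/
theorem exists_clopen_of_geomFibre {Y : Scheme.{u}} (f : Y ⟶ Spec (CommRingCat.of A)) [IsProper f] [Flat f]
    [LocallyOfFinitePresentation f] [GeometricallyReduced f] {Ω : Type u} [Field Ω]
    (t : Spec (CommRingCat.of Ω) ⟶ Spec (CommRingCat.of A)) (D : Set ↥(pullback f t)) (hD : IsClopen D) :
    ∃ G : Set Y, IsClopen G ∧ (pullback.fst f t) ⁻¹' G = D := by
  classical
  obtain ⟨ι, _, G, -, hcov, hcl, hgc⟩ := exists_geomConnected_pieces f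
  -- each piece has connected geometric fibres
  have hconn : ∀ c, _root_.IsPreconnected (pullback.fst f t ⁻¹' (G c : Set Y)) := fun c => by
    let U : Y.Opens := G c
    let g : (U : Scheme.{u}) ⟶ Spec (CommRingCat.of A) := U.ι ≫ f
    haveI : GeometricallyConnected g := hgc c
    haveI : IsClosedImmersion U.ι := IsClosedImmersion.of_isPreimmersion U.ι (by
      rw [Scheme.Opens.range_ι]; exact hcl c)
    haveI : IsProper g := inferInstanceAs (IsProper (U.ι ≫ f))
    haveI : GeometricallyConnected (pullback.snd g t) := MorphismProperty.pullback_snd g t inferInstance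
    have hu : (pullback.snd g t) ⁻¹' {IsLocalRing.closedPoint Ω} = Set.univ :=
      Set.eq_univ_of_forall fun y => @Subsingleton.elim _ (inferInstanceAs (Subsingleton (PrimeSpectrum Ω))) _ _
    have huniv : _root_.IsPreconnected (Set.univ : Set ↥(pullback g t)) :=
      hu ▸ ((pullback.snd g t).isConnected_preimage_singleton (IsLocalRing.closedPoint Ω)).isPreconnected
    let q' : pullback g t ⟶ pullback f t :=
      pullback.lift (pullback.fst g t ≫ U.ι) (pullback.snd g t) (by rw [Category.assoc]; exact pullback.condition)
    have hrq : Set.range q' = pullback.fst f t ⁻¹' (G c : Set Y) := by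
      have sq : IsPullback q' (pullback.fst g t) (pullback.fst f t) U.ι := by
        refine IsPullback.of_right ?_ (pullback.lift_fst _ _ _) (IsPullback.of_hasPullback f t).flip
        rw [pullback.lift_snd]
        exact (IsPullback.of_hasPullback g t).flip
      rw [range_of_isPullback sq.flip, Scheme.Opens.range_ι]
    rw [← hrq, ← Set.image_univ]
    exact huniv.image _ q'.continuous.continuousOn
  refine ⟨⋃ c ∈ {c | ((pullback.fst f t ⁻¹' (G c : Set Y)) ∩ D).Nonempty}, (G c : Set Y),
    (Set.toFinite _).isClopen_biUnion fun c _ => ⟨hcl c, (G c).isOpen⟩, Set.ext fun x => ?_⟩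
  simp only [Set.mem_preimage, Set.mem_iUnion₂, Set.mem_setOf_eq, exists_prop]
  constructor
  · rintro ⟨c, hne, hx⟩
    exact (hconn c).subset_isClopen hD hne hx
  · intro hx
    obtain ⟨c, hc⟩ := TopologicalSpace.Opens.mem_iSup.1 (hcov.ge (TopologicalSpace.Opens.mem_top (pullback.fst f t x)))
    exact ⟨c, ⟨x, hc, hx⟩, hc⟩

end Groth.Agent.H9PiOne

end
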