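import Groth.Agent.Pi1Ext.Spread
import Groth.Agent.H23.LocNoethTop

/-!
# Gluing isomorphisms of covers over the connected components
-/

set_option autoImplicit false
set_option linter.style.haveILetI false
set_option backward.isDefEq.respectTransparency false
set_option backward.isDefEq.respectTransparency.types false

universe u

open CategoryTheory CategoryTheory.Limits AlgebraicGeometry TopologicalSpace

noncomputable section

namespace Groth.Agent.H9PiOne

open Groth.Agent

attribute [-instance] CategoryTheory.catToReflQuiver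

/-- A locally Noetherian scheme is locally connected. -/
theorem locallyConnectedSpace_of_isLocallyNoetherian (S : Scheme.{u}) [IsLocallyNoetherian S] :
    LocallyConnectedSpace S :=
  H23.LocNoethTop.locallyConnectedSpace fun y => by
    obtain ⟨A, hA, hyA, -⟩ := exists_isAffineOpen_mem_and_subset (show y ∈ (⊤ : S.Opens) from trivial)
    haveI : IsNoetherianRing Γ(S, A) := IsLocallyNoetherian.component_noetherian ⟨A, hA⟩
    exact ⟨A, A.2.mem_nhds hyA, noetherianSpace_of_isAffineOpen A hA⟩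

/-- Morphisms of covers glue over a disjoint open cover of the base. -/
theorem exists_glue_hom {S : Scheme.{u}} (A B : FEt.Cat S) {ι : Type u} (U : ι → S.Opens)
    (hcov : ∀ x, ∃ i, x ∈ U i) (hdisj : ∀ i j, i ≠ j → U i ⊓ U j = ⊥)
    (φ : ∀ i, (FEt.restrict (U i).ι).obj A ⟶ (FEt.restrict (U i).ι).obj B) :
    ∃ Φ : A ⟶ B, ∀ i, pullback.fst A.hom (U i).ι ≫ Φ.left = (φ i).left ≫ pullback.fst B.hom (U i).ι := by
  let hA : A.left ⟶ S := A.hom
  let 𝒰 : A.left.OpenCover :=
    { I₀ := ι
      X := fun i => pullback hA (U i).ι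
      f := fun i => pullback.fst hA (U i).ι
      mem₀ := by
        rw [Scheme.presieve₀_mem_precoverage_iff]
        refine ⟨fun z => ?_, fun i => inferInstance⟩
        obtain ⟨i, hi⟩ := hcov (hA z)
        refine ⟨i, ?_⟩
        rw [Scheme.Pullback.range_fst, Set.mem_preimage, Scheme.Opens.range_ι]
        exact hi }
  let f : ∀ i, 𝒰.X i ⟶ B.left := fun i => (φ i).left ≫ pullback.fst B.hom (U i).ι
  have hf : ∀ i j, pullback.fst (𝒰.f i) (𝒰.f j) ≫ f i = pullback.snd _ _ ≫ f j := by
    intro i j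
    by_cases hij : i = j
    · subst hij
      haveI : Mono (𝒰.f i) := show Mono (pullback.fst hA (U i).ι) from inferInstance
      rw [(cancel_mono (𝒰.f i)).1 (pullback.condition (f := 𝒰.f i) (g := 𝒰.f i))]
    · haveI : IsEmpty ↥(pullback (𝒰.f i) (𝒰.f j)) := ⟨fun z => by
        have hw : 𝒰.f i (pullback.fst (𝒰.f i) (𝒰.f j) z) = 𝒰.f j (pullback.snd (𝒰.f i) (𝒰.f j) z) := by
          rw [← Scheme.Hom.comp_apply, ← Scheme.Hom.comp_apply, pullback.condition]
        have h : ∀ (l : ι) (w : 𝒰.X l), hA (𝒰.f l w) ∈ U l := fun l w => by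
          show hA (pullback.fst hA (U l).ι w) ∈ U l
          rw [← Scheme.Hom.comp_apply, pullback.condition, Scheme.Hom.comp_apply]
          exact (pullback.snd hA (U l).ι w).2
        have h1 := h i (pullback.fst (𝒰.f i) (𝒰.f j) z)
        have h2 := h j (pullback.snd (𝒰.f i) (𝒰.f j) z)
        rw [← hw] at h2
        exact ((hdisj i j hij).le ⟨h1, h2⟩ : _ ∈ (⊥ : S.Opens))⟩
      exact isInitialOfIsEmpty.hom_ext _ _
  let g := 𝒰.glueMorphisms f hf
  have hg : ∀ i, pullback.fst hA (U i).ι ≫ g = f i := fun i => Scheme.Cover.ι_glueMorphisms 𝒰 f hf i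
  refine ⟨MorphismProperty.Over.homMk g ?_, hg⟩
  refine 𝒰.hom_ext _ _ fun i => ?_
  show pullback.fst hA (U i).ι ≫ g ≫ B.hom = pullback.fst hA (U i).ι ≫ A.hom
  rw [← Category.assoc, hg, Category.assoc, pullback.condition, ← Category.assoc]
  erw [MorphismProperty.Over.w (φ i)]
  exact pullback.condition.symm

/-- Covers isomorphic over each connected component are isomorphic. -/
theorem nonempty_iso_of_components {S : Scheme.{u}} [IsLocallyNoetherian S] (A B : FEt.Cat S)
    (h : ∀ U : S.Opens, _root_.IsConnected (U : Set S) → Nonempty ((FEt.restrict U.ι).obj A ≅ (FEt.restrict U.ι).obj B)) :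
    Nonempty (A ≅ B) := by
  haveI := locallyConnectedSpace_of_isLocallyNoetherian S
  let ι := _root_.ConnectedComponents S
  let U : ι → S.Opens := fun i => ⟨ConnectedComponents.mk ⁻¹' {i}, by
    obtain ⟨x, rfl⟩ := ConnectedComponents.surjective_coe i
    rw [connectedComponents_preimage_singleton]
    exact isOpen_connectedComponent⟩
  have hconn : ∀ i, _root_.IsConnected (U i : Set S) := fun i => by
    obtain ⟨x, rfl⟩ := ConnectedComponents.surjective_coe i
    show _root_.IsConnected (ConnectedComponents.mk ⁻¹' {(x : _root_.ConnectedComponents S)})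
    rw [connectedComponents_preimage_singleton]
    exact isConnected_connectedComponent
  have hcov : ∀ x, ∃ i, x ∈ U i := fun x => ⟨ConnectedComponents.mk x, rfl⟩
  have hdisj : ∀ i j, i ≠ j → U i ⊓ U j = ⊥ := fun i j hij =>
    Opens.ext (Set.eq_empty_of_forall_notMem fun x hx => hij (hx.1.symm.trans hx.2))
  have e' := fun i => (h (U i) (hconn i)).some
  obtain ⟨Φ, hΦ⟩ := exists_glue_hom A B U hcov hdisj fun i => (e' i).hom
  obtain ⟨Ψ, hΨ⟩ := exists_glue_hom B A U hcov hdisj fun i => (e' i).inv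
  have key : ∀ (C D : FEt.Cat S) (F : C ⟶ D) (G : D ⟶ C)
      (f : ∀ i, (FEt.restrict (U i).ι).obj C ⟶ (FEt.restrict (U i).ι).obj D)
      (g : ∀ i, (FEt.restrict (U i).ι).obj D ⟶ (FEt.restrict (U i).ι).obj C),
      (∀ i, f i ≫ g i = 𝟙 _) →
      (∀ i, pullback.fst C.hom (U i).ι ≫ F.left = (f i).left ≫ pullback.fst D.hom (U i).ι) →
      (∀ i, pullback.fst D.hom (U i).ι ≫ G.left = (g i).left ≫ pullback.fst C.hom (U i).ι) →
      F ≫ G = 𝟙 C := by
    intro C D F G f g hfg hF hG
    refine MorphismProperty.Over.Hom.ext (Scheme.hom_ext_of_forall _ _ fun z => ?_)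
    let hC : C.left ⟶ S := C.hom
    obtain ⟨i, hi⟩ := hcov (hC z)
    refine ⟨hC ⁻¹ᵁ U i, hi, ?_⟩
    let l : (hC ⁻¹ᵁ U i : Scheme.{u}) ⟶ pullback hC (U i).ι :=
      pullback.lift (hC ⁻¹ᵁ U i).ι (hC ∣_ U i) (morphismRestrict_ι _ _).symm
    have h1 : pullback.fst hC (U i).ι ≫ (F ≫ G).left = pullback.fst hC (U i).ι := by
      show pullback.fst hC (U i).ι ≫ F.left ≫ G.left = _
      rw [← Category.assoc]
      erw [hF i]
      rw [Category.assoc]
      erw [hG i]
      rw [← Category.assoc]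
      have h2 : (f i).left ≫ (g i).left = 𝟙 _ :=
        congrArg (fun φ : (FEt.restrict (U i).ι).obj C ⟶ _ => φ.left) (hfg i)
      erw [h2]
      exact Category.id_comp _
    have hl : l ≫ pullback.fst hC (U i).ι = (hC ⁻¹ᵁ U i).ι := pullback.lift_fst _ _ _
    rw [← hl, Category.assoc, h1]
    exact ((congrArg ((l ≫ pullback.fst hC (U i).ι) ≫ ·) rfl).trans (Category.comp_id _)).symm
  exact ⟨⟨Φ, Ψ, key A B Φ Ψ _ _ (fun i => (e' i).hom_inv_id) hΦ hΨ,
    key B A Ψ Φ _ _ (fun i => (e' i).inv_hom_id) hΨ hΦ⟩⟩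

end Groth.Agent.H9PiOne

end
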