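import Groth.Agent.FlatMisc.PowLocal
import Mathlib

/-!
# A finite algebra, étale modulo all powers of an ideal, is étale near its vanishing locus
-/

set_option autoImplicit false
set_option linter.style.haveILetI false

universe u

open TensorProduct

namespace Groth.Agent.H9PiOne

variable {B C : Type u} [CommRing B] [IsNoetherianRing B] [CommRing C] [Algebra B C] [Module.Finite B C]

/-- A finite algebra, étale modulo all powers of an ideal, is étale over a neighbourhood of any prime
containing the ideal. -/
theorem exists_etale_away_of_quotients (J : Ideal B)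
    (h : ∀ n : ℕ, 0 < n → Algebra.Etale (B ⧸ J ^ n) ((B ⧸ J ^ n) ⊗[B] C)) (p : PrimeSpectrum B)
    (hp : J ≤ p.asIdeal) :
    ∃ r ∉ p.asIdeal, Algebra.Etale B (Localization.Away (algebraMap B C r)) := by
  haveI : IsNoetherianRing C := Algebra.FiniteType.isNoetherianRing B C
  haveI : Module.FinitePresentation B C := Module.finitePresentation_of_finite B C
  haveI : Algebra.FinitePresentation B C := Algebra.FinitePresentation.of_finiteType.1 inferInstance
  haveI : Module.Flat B (LocalizedModule p.asIdeal.primeCompl C) :=
    FlatMisc.flat_localizedModule_of_flat_pow (R := B) (S := B) (M := C) J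
      (fun n hn => haveI := h n hn; inferInstance) p.asIdeal (by simpa using hp)
  have hfree : p ∈ Module.freeLocus B C := by
    haveI : Module.Flat (Localization p.asIdeal.primeCompl) (LocalizedModule p.asIdeal.primeCompl C) :=
      (Module.flat_iff_of_isLocalization (Localization p.asIdeal.primeCompl) p.asIdeal.primeCompl _).2 inferInstance
    exact Module.free_of_flat_of_isLocalRing (R := Localization p.asIdeal.primeCompl)
      (P := LocalizedModule p.asIdeal.primeCompl C)
  obtain ⟨_, ⟨r₁, rfl⟩, hp₁, hr₁⟩ :=
    PrimeSpectrum.isTopologicalBasis_basic_opens.exists_subset_of_mem_open hfree Module.isOpen_freeLocus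
  -- the differentials
  haveI : Algebra.EssFiniteType B C := inferInstance
  haveI : Module.Finite C Ω[C⁄B] := inferInstance
  haveI : Module.Finite B Ω[C⁄B] := Module.Finite.trans C _
  have hΩ : (⊤ : Submodule B Ω[C⁄B]) ≤ J • ⊤ := by
    haveI := h 1 one_pos
    let B' := B ⧸ J ^ 1
    letI : Algebra C (B' ⊗[B] C) := Algebra.TensorProduct.rightAlgebra
    haveI : Algebra.IsPushout B B' C (B' ⊗[B] C) := TensorProduct.isPushout
    haveI : Subsingleton (B' ⊗[B] Ω[C⁄B]) :=
      (KaehlerDifferential.tensorKaehlerEquivBase B B' C (B' ⊗[B] C)).toEquiv.subsingleton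
    haveI : Subsingleton (Ω[C⁄B] ⧸ (J ^ 1 • ⊤ : Submodule B Ω[C⁄B])) :=
      (TensorProduct.quotTensorEquivQuotSMul Ω[C⁄B] (J ^ 1)).symm.toEquiv.subsingleton
    have := Submodule.Quotient.subsingleton_iff.1 this
    rw [pow_one] at this
    exact this.ge
  obtain ⟨r₂, hr₂, hk⟩ := Submodule.exists_sub_one_mem_and_smul_eq_zero_of_fg_of_le_smul J
    (⊤ : Submodule B Ω[C⁄B]) Module.Finite.fg_top hΩ
  have hp₂ : r₂ ∉ p.asIdeal := fun h2 => p.isPrime.ne_top ((Ideal.eq_top_iff_one _).2 (by
    have := p.asIdeal.sub_mem h2 (hp hr₂)
    rwa [sub_sub_cancel] at this))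
  refine ⟨r₁ * r₂, fun h12 => (p.isPrime.mem_or_mem h12).elim hp₁ hp₂, ?_⟩
  let r := r₁ * r₂
  let c := algebraMap B C r
  haveI : Algebra.FinitePresentation C (Localization.Away c) := IsLocalization.Away.finitePresentation c
  haveI : Algebra.FinitePresentation B (Localization.Away c) :=
    Algebra.FinitePresentation.trans B C (Localization.Away c)
  haveI : Algebra.FormallyUnramified B (Localization.Away c) := by
    rw [← Algebra.basicOpen_subset_unramifiedLocus_iff, Algebra.unramifiedLocus_eq_compl_support]
    intro q hq hs
    rw [Module.mem_support_iff_exists_annihilator] at hs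
    obtain ⟨m, hm⟩ := hs
    refine hq (hm ?_)
    rw [Submodule.mem_annihilator_span_singleton, show c • m = r • m from algebraMap_smul C r m, mul_smul,
      hk m trivial, smul_zero]
  haveI : Module.Flat B (Localization.Away c) := by
    have hsub : (PrimeSpectrum.basicOpen r : Set (PrimeSpectrum B)) ⊆ Module.freeLocus B C :=
      (SetLike.coe_subset_coe.2 (by rw [PrimeSpectrum.basicOpen_mul]; exact inf_le_left)).trans hr₁
    haveI := Module.basicOpen_subset_freeLocus_iff.1 hsub
    haveI : Module.Flat B (LocalizedModule.Away r C) := Module.Flat.trans B (Localization.Away r) _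
    haveI : IsLocalizedModule (Submonoid.powers r) (IsScalarTower.toAlgHom B C (Localization.Away c)).toLinearMap := by
      rw [isLocalizedModule_iff_isLocalization, Algebra.algebraMapSubmonoid_powers]
      infer_instance
    exact Module.Flat.of_linearEquiv (IsLocalizedModule.iso (Submonoid.powers r)
      (IsScalarTower.toAlgHom B C (Localization.Away c)).toLinearMap).symm
  exact Algebra.Etale.of_formallyUnramified_of_flat

theorem etale_awayMap {B C : Type u} [CommRing B] [CommRing C] [Algebra B C] (r : B) (Bm Cm : Type u)
    [CommRing Bm] [CommRing Cm] [Algebra B Bm] [Algebra C Cm] [IsLocalization.Away r Bm]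
    [IsLocalization.Away (algebraMap B C r) Cm]
    (h : Algebra.Etale B (Localization.Away (algebraMap B C r))) :
    (IsLocalization.Away.map Bm Cm (algebraMap B C) r).Etale := by
  letI := (IsLocalization.Away.map Bm Cm (algebraMap B C) r).toAlgebra
  letI : Algebra B Cm := ((algebraMap C Cm).comp (algebraMap B C)).toAlgebra
  haveI : IsScalarTower B C Cm := IsScalarTower.of_algebraMap_eq fun _ => rfl
  haveI : IsScalarTower B Bm Cm := IsScalarTower.of_algebraMap_eq fun x => by
    show algebraMap C Cm (algebraMap B C x) = IsLocalization.Away.map Bm Cm (algebraMap B C) r (algebraMap B Bm x)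
    unfold IsLocalization.Away.map
    rw [IsLocalization.map_eq]
  haveI := h
  haveI : Algebra.Etale B Cm := Algebra.Etale.of_equiv
    ((IsLocalization.algEquiv (Submonoid.powers (algebraMap B C r)) (Localization.Away (algebraMap B C r)) Cm).restrictScalars B)
  haveI : Algebra.Etale B Bm := Algebra.Etale.of_isLocalizationAway r
  exact RingHom.etale_algebraMap.2 (Algebra.Etale.of_restrictScalars B Bm Cm)

end Groth.Agent.H9PiOne
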