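import Groth.Agent.Pi1X.FEtFull
import Groth.Agent.Graft.GenLift
import Groth.Agent.HensCouple7.Coprod

/-!
# Full faithfulness of restriction to the closed part, proper over a henselian pair
-/

set_option autoImplicit false
set_option linter.style.haveILetI false
set_option backward.isDefEq.respectTransparency false

universe u

open CategoryTheory CategoryTheory.Limits AlgebraicGeometry

namespace Groth.Agent.H9PiOne

open Groth.Agent

variable {A : Type u} [CommRing A] (I : Ideal A) [HenselianRing A I] {X : Scheme.{u}}
  (f : X ⟶ Spec (CommRingCat.of A)) [IsProper f]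

/-- The inclusion of the closed part. -/
noncomputable abbrev inc : pullback f (Spec.map (CommRingCat.ofHom (Ideal.Quotient.mk I))) ⟶ X :=
  pullback.fst f (Spec.map (CommRingCat.ofHom (Ideal.Quotient.mk I)))

omit [HenselianRing A I] [IsProper f] in
theorem isEmbedding_inc : Topology.IsEmbedding (inc I f).base := by
  haveI : IsClosedImmersion (Spec.map (CommRingCat.ofHom (Ideal.Quotient.mk I))) :=
    IsClosedImmersion.spec_of_surjective _ Ideal.Quotient.mk_surjective
  exact (inc I f).isEmbedding

/-- Every non-empty clopen subset meets the closed part. -/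
theorem meets_inc (C : Set X) (hC : IsClopen C) (hne : C.Nonempty) :
    (C ∩ Set.range (inc I f).base).Nonempty := by
  have hL : HensCouple7.Lifts (Set.range (inc I f).base) := by
    rw [HensCouple7.range_fst_mk I f]; exact Graft.lifts_proper_pair I f
  have h := (HensCouple7.lifts_range_iff (isEmbedding_inc I f)).2 hL
  by_contra he
  refine hne.ne_empty (ExistsUnique.unique (h ∅ isClopen_empty) ⟨hC, ?_⟩ ⟨isClopen_empty, Set.preimage_empty⟩)
  exact Set.eq_empty_of_forall_notMem fun z hz => he ⟨_, hz, z, rfl⟩

/-- Restriction to the closed part is fully faithful. -/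
theorem restrict_inc_full_faithful :
    (FEt.restrict (inc I f)).Full ∧ (FEt.restrict (inc I f)).Faithful := by
  refine ⟨Pi1X.restrict_full _ (meets_inc I f) fun W C hC => ?_, Pi1X.restrict_faithful _ (meets_inc I f)⟩
  haveI : IsFinite W.hom := W.prop.1
  let g : W.left ⟶ Spec (CommRingCat.of A) := W.hom ≫ f
  haveI : IsProper g := inferInstanceAs (IsProper (W.hom ≫ f))
  haveI : IsClosedImmersion (Spec.map (CommRingCat.ofHom (Ideal.Quotient.mk I))) :=
    IsClosedImmersion.spec_of_surjective _ Ideal.Quotient.mk_surjective
  haveI : IsClosedImmersion (inc I f) := MorphismProperty.pullback_fst (P := @IsClosedImmersion) _ _ ‹_›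
  have hr : Set.range (pullback.fst W.hom (inc I f)).base = g.base ⁻¹' PrimeSpectrum.zeroLocus (I : Set A) := by
    rw [Scheme.Pullback.range_fst]
    exact congrArg (fun T => W.hom.base ⁻¹' T) (HensCouple7.range_fst_mk I f)
  have hl := Graft.lifts_proper_pair I g
  rw [← hr] at hl
  obtain ⟨G, hG, -⟩ :=
    (HensCouple7.lifts_range_iff (pullback.fst W.hom (inc I f)).isEmbedding).2 hl C hC
  exact ⟨G, hG⟩

end Groth.Agent.H9PiOne
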