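import Groth.Agent.H9PiOne.AlgSpec
import Groth.Agent.H9PiOne.EtaleCrit
import Groth.Agent.H9PiOne.ProperFF
import Groth.Agent.S0238

/-!
# Finite étale covers of a proper scheme over a complete base
-/

set_option autoImplicit false
set_option linter.style.haveILetI false
set_option linter.unusedSectionVars false
set_option backward.isDefEq.respectTransparency false
set_option backward.isDefEq.respectTransparency.types false

universe u

open CategoryTheory CategoryTheory.Limits AlgebraicGeometry TopologicalSpace Opposite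

attribute [local instance] HasDerivedCategory.standard

noncomputable section

namespace Groth.Agent.H9PiOne

open Groth.Agent
open scoped TensorProduct
open Groth.Agent.AmpleVan (scal)

attribute [-instance] CategoryTheory.catToReflQuiver

variable {A : Type u} [CommRing A] [IsNoetherianRing A] (I : Ideal A) [IsAdicComplete I A] {X : Scheme.{u}}

theorem fromSpec_comp_structure (f : X ⟶ Spec (CommRingCat.of A)) {U : X.Opens} (hU : IsAffineOpen U) :
    letI : X.Over (Spec (CommRingCat.of A)) := ⟨f⟩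
    hU.fromSpec ≫ f = Spec.map (CommRingCat.ofHom (scal A U)) := by
  letI : X.Over (Spec (CommRingCat.of A)) := ⟨f⟩
  show hU.fromSpec ≫ (X ↘ Spec (CommRingCat.of A)) = _
  rw [← IsAffineOpen.SpecMap_appLE_fromSpec (X ↘ Spec (CommRingCat.of A))
    (isAffineOpen_top (Spec (CommRingCat.of A))) hU (le_top : U ≤ _), IsAffineOpen.fromSpec_top,
    Scheme.isoSpec_Spec_inv, ← Spec.map_comp]
  rfl

/-- A finite scheme over a proper scheme over a complete base is étale when all its thickenings are. -/
theorem etale_of_levels (f : X ⟶ Spec (CommRingCat.of A)) [IsProper f] {W : Scheme.{u}} (i : W ⟶ X) [IsFinite i]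
    {Y : ℕ → Scheme.{u}} (y : ∀ n, Y n ⟶ CohB1.thick f I n) (hy : ∀ n, Etale (y n)) (w : ∀ n, Y n ⟶ W)
    (hw : ∀ n, IsPullback (w n) (y n) i (CohB1.thickι f I n)) : Etale i := by
  letI : X.Over (Spec (CommRingCat.of A)) := ⟨f⟩
  haveI : IsLocallyNoetherian X := LocallyOfFiniteType.isLocallyNoetherian f
  have key : ∀ x : X, I ≤ (f x).asIdeal → ∃ D : X.Opens, x ∈ D ∧ Etale (i ∣_ D) := fun x hx => by
    obtain ⟨_, ⟨U, hU, rfl⟩, hxU, -⟩ := X.isBasis_affineOpens.exists_subset_of_mem_open (Set.mem_univ x) isOpen_univ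
    replace hU : IsAffineOpen U := hU
    have hV : IsAffineOpen (i ⁻¹ᵁ U) := hU.preimage i
    haveI : IsNoetherianRing Γ(X, U) := IsLocallyNoetherian.component_noetherian ⟨U, hU⟩
    letI : Algebra Γ(X, U) Γ(W, i ⁻¹ᵁ U) := (i.app U).hom.toAlgebra
    haveI : Module.Finite Γ(X, U) Γ(W, i ⁻¹ᵁ U) := i.finite_app U hU
    let J := I.map (scal A U)
    obtain ⟨q, rfl⟩ : x ∈ Set.range hU.fromSpec := by rw [hU.range_fromSpec]; exact hxU
    have hq : J ≤ q.asIdeal := by
      have h1 : f (hU.fromSpec q) = Spec.map (CommRingCat.ofHom (scal A U)) q :=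
        (Scheme.Hom.comp_apply hU.fromSpec f q).symm.trans
          (congrArg (fun k : Spec Γ(X, U) ⟶ Spec (CommRingCat.of A) => k q) (fromSpec_comp_structure f hU))
      rw [h1] at hx
      exact Ideal.map_le_iff_le_comap.2 hx
    obtain ⟨r, hr, hret⟩ := exists_etale_away_of_quotients (C := Γ(W, i ⁻¹ᵁ U)) J (fun n hn => by
      obtain ⟨m, rfl⟩ : ∃ m, n = m + 1 := ⟨n - 1, by omega⟩
      let B' := Γ(X, U) ⧸ J ^ (m + 1)
      let π' : Γ(X, U) →+* B' := Ideal.Quotient.mk (J ^ (m + 1))
      have hker : ∀ a ∈ I ^ (m + 1), (π'.comp (scal A U)) a = 0 := fun a ha =>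
        Ideal.Quotient.eq_zero_iff_mem.2 (by rw [← Ideal.map_pow]; exact Ideal.mem_map_of_mem _ ha)
      let β : A ⧸ I ^ (m + 1) →+* B' := Ideal.Quotient.lift _ (π'.comp (scal A U)) hker
      let ψ : Spec (CommRingCat.of B') ⟶ CohB1.thick f I m :=
        pullback.lift (Spec.map (CommRingCat.ofHom π') ≫ hU.fromSpec) (Spec.map (CommRingCat.ofHom β)) (by
          rw [Category.assoc]
          erw [fromSpec_comp_structure f hU]
          rw [CohB1.specQuot, ← Spec.map_comp, ← Spec.map_comp, ← CommRingCat.ofHom_comp, ← CommRingCat.ofHom_comp,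
            Ideal.Quotient.lift_comp_mk])
      have hψ : ψ ≫ CohB1.thickι f I m = Spec.map (CommRingCat.ofHom π') ≫ hU.fromSpec := pullback.lift_fst _ _ _
      have hsq : IsPullback hV.fromSpec (Spec.map (i.app U)) i hU.fromSpec := by
        refine IsPullback.flip (IsOpenImmersion.isPullback _ _ _ _ ?_ ?_)
        · rw [← IsAffineOpen.SpecMap_appLE_fromSpec i hU hV le_rfl, Scheme.Hom.appLE_eq_app]
        · apply Opens.ext
          simp only [Scheme.Hom.coe_opensRange, Scheme.Hom.coe_preimage, IsAffineOpen.range_fromSpec]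
      have hpo : IsPullback (Spec.map (CommRingCat.ofHom
            (Algebra.TensorProduct.includeRight (R := Γ(X, U)) (A := B') (B := Γ(W, i ⁻¹ᵁ U))).toRingHom))
          (Spec.map (CommRingCat.ofHom (Algebra.TensorProduct.includeLeftRingHom :
            B' →+* B' ⊗[Γ(X, U)] Γ(W, i ⁻¹ᵁ U))))
          (Spec.map (i.app U)) (Spec.map (CommRingCat.ofHom π')) :=
        (isPullback_SpecMap_of_isPushout _ _ _ _
          (CommRingCat.isPushout_tensorProduct Γ(X, U) B' Γ(W, i ⁻¹ᵁ U))).flip
      have hbig := hpo.paste_horiz hsq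
      rw [← hψ] at hbig
      have hsmall := IsPullback.of_right (h₁₁ := (hw m).lift _ (_ ≫ ψ) (hbig.w.trans (Category.assoc _ _ _).symm))
        (h₁₂ := w m) (h₂₁ := ψ) (h₂₂ := CohB1.thickι f I m)
        (by rw [IsPullback.lift_fst]; exact hbig) (IsPullback.lift_snd _ _ _ _) (hw m)
      have het : Etale (Spec.map (CommRingCat.ofHom (Algebra.TensorProduct.includeLeftRingHom :
          B' →+* B' ⊗[Γ(X, U)] Γ(W, i ⁻¹ᵁ U)))) :=
        MorphismProperty.of_isPullback (P := @Etale) hsmall (hy m)
      exact RingHom.etale_algebraMap.1 ((HasRingHomProperty.Spec_iff (P := @Etale)).1 het)) q hq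
    refine ⟨X.basicOpen r, ?_, ?_⟩
    · have h2 : q ∈ hU.fromSpec ⁻¹ᵁ X.basicOpen r := by
        rw [hU.fromSpec_preimage_basicOpen]; exact hr
      exact h2
    · haveI : IsAffine (X.basicOpen r).toScheme := hU.basicOpen r
      haveI : IsAffine (i ⁻¹ᵁ X.basicOpen r).toScheme := (hU.basicOpen r).preimage i
      rw [HasRingHomProperty.iff_of_isAffine (P := @Etale), morphismRestrict_appTop]
      refine (RingHom.Etale.respectsIso.cancel_right_isIso _ _).2 ?_
      have h3 : (i.app (X.basicOpen r)).hom.Etale := by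
        haveI := hU.isLocalization_basicOpen r
        haveI := hV.isLocalization_basicOpen (i.app U r)
        refine (RingHom.Etale.respectsIso.arrow_mk_iso_iff (IsAffineOpen.appBasicOpenIsoAwayMap i hU hV r)).2 ?_
        exact etale_awayMap (B := Γ(X, U)) (C := Γ(W, i ⁻¹ᵁ U)) r _ _ hret
      have h4 : ∀ (O : X.Opens), O = X.basicOpen r → (i.app O).hom.Etale := by rintro _ rfl; exact h3
      exact h4 _ (Scheme.Opens.ι_image_top _)
  choose D hxD hD using key
  refine IsZariskiLocalAtTarget.of_iSup_eq_top (P := @Etale) (fun p : {x : X // I ≤ (f x).asIdeal} => D p.1 p.2) ?_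
    (fun p => hD p.1 p.2)
  rw [eq_top_iff]
  intro x _
  obtain ⟨m, hm, hle⟩ := Ideal.exists_le_maximal (f x).asIdeal (f x).isPrime.ne_top
  have hcl : IsClosed (f '' closure {x}) := f.isClosedMap _ isClosed_closure
  obtain ⟨z, hz, hzm⟩ : (⟨m, hm.isPrime⟩ : Spec (CommRingCat.of A)) ∈ f '' closure {x} :=
    ((PrimeSpectrum.le_iff_specializes (f x) ⟨m, hm.isPrime⟩).1 hle).mem_closed hcl ⟨x, subset_closure rfl, rfl⟩
  have hzI : I ≤ (f z).asIdeal := by
    rw [hzm]; exact (IsAdicComplete.le_jacobson_bot I).trans (sInf_le ⟨bot_le, hm⟩)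
  exact Opens.mem_iSup.2 ⟨⟨z, hzI⟩, (specializes_iff_mem_closure.2 hz).mem_open (D z hzI).2 (hxD z hzI)⟩

theorem surjective_thickTrans (f : X ⟶ Spec (CommRingCat.of A)) (n : ℕ) :
    IsClosedImmersion (CohB1.thickTrans f I n) ∧ Surjective (CohB1.thickTrans f I n) := by
  haveI hcl : ∀ m, IsClosedImmersion (CohB1.thickι f I m) := fun m => MorphismProperty.pullback_fst
    (P := @IsClosedImmersion) _ _ (IsClosedImmersion.spec_of_surjective _ Ideal.Quotient.mk_surjective)
  have hι : CohB1.thickTrans f I n ≫ CohB1.thickι f I (n + 1) = CohB1.thickι f I n :=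
    (pullback.lift_fst _ _ _).trans (Category.comp_id _)
  refine ⟨?_, ?_⟩
  · haveI : IsClosedImmersion (CohB1.thickTrans f I n ≫ CohB1.thickι f I (n + 1)) := by rw [hι]; exact hcl n
    exact IsClosedImmersion.of_comp _ (CohB1.thickι f I (n + 1))
  · have hr : ∀ m, Set.range (CohB1.thickι f I m) = f ⁻¹' PrimeSpectrum.zeroLocus (I : Set A) := fun m => by
      letI : X.Over (Spec (CommRingCat.of A)) := ⟨f⟩
      exact (H9Existence.range_of_isPullback (J := I ^ (m + 1))
        (IsPullback.of_hasPullback (X ↘ Spec (CommRingCat.of A)) (CohB1.specQuot I m))).trans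
        (congrArg (fun T => f.base ⁻¹' T) (PrimeSpectrum.zeroLocus_pow I (Nat.succ_ne_zero m)))
    refine ⟨fun z => ?_⟩
    obtain ⟨z₀, hz₀⟩ : CohB1.thickι f I (n + 1) z ∈ Set.range (CohB1.thickι f I n) := by
      rw [hr n, ← hr (n + 1)]; exact ⟨z, rfl⟩
    refine ⟨z₀, (CohB1.thickι f I (n + 1)).isClosedEmbedding.injective ?_⟩
    rw [← Scheme.Hom.comp_apply, hι, hz₀]

theorem essSurj_restrict_thickι (f : X ⟶ Spec (CommRingCat.of A)) [IsProper f] :
    (FEt.restrict (CohB1.thickι f I 0)).EssSurj := by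
  refine ⟨fun V => ?_⟩
  haveI : ∀ n, (FEt.restrict (CohB1.thickTrans f I n)).IsEquivalence := fun n => by
    haveI := (surjective_thickTrans I f n).1
    haveI := (surjective_thickTrans I f n).2
    exact S0238.result _
  let Y : ∀ n, FEt.Cat (CohB1.thick f I n) := fun n =>
    Nat.rec (motive := fun n => FEt.Cat (CohB1.thick f I n)) V
      (fun n Z => (FEt.restrict (CohB1.thickTrans f I n)).objPreimage Z) n
  let e : ∀ n, (FEt.restrict (CohB1.thickTrans f I n)).obj (Y (n + 1)) ≅ Y n := fun n =>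
    (FEt.restrict (CohB1.thickTrans f I n)).objObjPreimageIso (Y n)
  let eL : ∀ n, pullback (Y (n + 1)).hom (CohB1.thickTrans f I n) ≅ (Y n).left := fun n =>
    (MorphismProperty.Over.forget _ _ _ ⋙ Over.forget _).mapIso (e n)
  let t : ∀ n, (Y n).left ⟶ (Y (n + 1)).left := fun n => (eL n).inv ≫ pullback.fst _ _
  have ht : ∀ n, IsPullback (t n) (Y n).hom (Y (n + 1)).hom (CohB1.thickTrans f I n) := fun n => by
    have hw : (eL n).inv ≫ pullback.snd _ _ = (Y n).hom := MorphismProperty.Over.w (e n).inv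
    refine (IsPullback.of_hasPullback (Y (n + 1)).hom (CohB1.thickTrans f I n)).of_iso (eL n) (Iso.refl _)
      (Iso.refl _) (Iso.refl _) ?_ ?_ ?_ ?_
    · show pullback.fst _ _ ≫ 𝟙 _ = (eL n).hom ≫ t n
      rw [Category.comp_id]; exact ((eL n).hom_inv_id_assoc _).symm
    · show pullback.snd _ _ ≫ 𝟙 _ = (eL n).hom ≫ (Y n).hom
      rw [Category.comp_id, ← hw, Iso.hom_inv_id_assoc]
    · simp
    · simp
  letI : X.Over (Spec (CommRingCat.of A)) := ⟨f⟩
  haveI : IsProper (X ↘ Spec (CommRingCat.of A)) := ‹IsProper f›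
  have hι : ∀ n, CohB1.thickTrans f I n ≫ CohB1.thickι f I (n + 1) = CohB1.thickι f I n := fun n =>
    (pullback.lift_fst _ _ _).trans (Category.comp_id _)
  have hT : ∀ n, IsPullback (CohB1.thickTrans f I n) (CohB1.thickToBase f I n) (CohB1.thickToBase f I (n + 1))
      (CohB1.specQuotTrans I n) := fun n => by
    refine IsPullback.of_right ?_ (pullback.lift_snd _ _ _) (IsPullback.of_hasPullback _ _)
    erw [hι n]
    rw [CohB1.specQuotTrans_specQuot]
    exact IsPullback.of_hasPullback _ _
  let S : AmpleVan.AdicSys A I :=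
    ⟨fun n => (Y n).left, fun n => (Y n).hom ≫ CohB1.thickToBase f I n, t, fun n => (ht n).paste_vert (hT n)⟩
  letI : ∀ n, (S.X n).Over (Spec (CommRingCat.of A)) := fun n => AmpleVan.AdicSys.overBase S n
  let r : ∀ n, S.X n ⟶ X := fun n => (Y n).hom ≫ CohB1.thickι f I n
  haveI : ∀ n, IsFinite (r n) := fun n => by
    haveI : IsClosedImmersion (CohB1.thickι f I n) := MorphismProperty.pullback_fst (P := @IsClosedImmersion) _ _
      (IsClosedImmersion.spec_of_surjective _ Ideal.Quotient.mk_surjective)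
    haveI := (Y n).prop.1
    exact inferInstanceAs (IsFinite ((Y n).hom ≫ CohB1.thickι f I n))
  have hr : ∀ n, r n ≫ (X ↘ Spec (CommRingCat.of A)) = S.X n ↘ Spec (CommRingCat.of A) := fun n => by
    show ((Y n).hom ≫ CohB1.thickι f I n) ≫ f = ((Y n).hom ≫ CohB1.thickToBase f I n) ≫ CohB1.specQuot I n
    rw [Category.assoc, Category.assoc, pullback.condition]
  have hti : ∀ n, S.i n ≫ r (n + 1) = r n := fun n => by
    show t n ≫ (Y (n + 1)).hom ≫ CohB1.thickι f I (n + 1) = (Y n).hom ≫ CohB1.thickι f I n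
    rw [← Category.assoc, (ht n).w, Category.assoc, hι]
  have hp : IsProper (S.p 0) := by
    haveI := (Y 0).prop.1
    haveI : IsProper (CohB1.thickToBase f I 0) := MorphismProperty.pullback_snd (P := @IsProper) _ _ ‹_›
    exact inferInstanceAs (IsProper ((Y 0).hom ≫ CohB1.thickToBase f I 0))
  obtain ⟨W, i, w, hi, -, hwi, -, hw⟩ := exists_finite_of_system S r hr hti hp
  haveI := hi
  have hwp : ∀ n, IsPullback (w n) (Y n).hom i (CohB1.thickι f I n) := fun n =>
    IsPullback.of_bot (hw n) (hwi n) (IsPullback.of_hasPullback f (CohB1.specQuot I n))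
  have hie : Etale i := etale_of_levels I f i (fun n => (Y n).hom) (fun n => (Y n).prop.2) w hwp
  exact ⟨MorphismProperty.Over.mk ⊤ i ⟨hi, hie⟩,
    ⟨MorphismProperty.Over.isoMk (hwp 0).isoPullback.symm (hwp 0).isoPullback_inv_snd⟩⟩

/-- Finite étale covers of a proper scheme over a complete Noetherian base are those of its closed part. -/
theorem restrict_inc_isEquivalence_of_complete (f : X ⟶ Spec (CommRingCat.of A)) [IsProper f] :
    (FEt.restrict (inc I f)).IsEquivalence := by
  haveI : HenselianRing A I := inferInstance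
  have h : ∀ J : Ideal A, I ^ (0 + 1) = J → (FEt.restrict (inc J f)).EssSurj := by
    rintro _ rfl
    exact essSurj_restrict_thickι I f
  haveI := h I (pow_one I)
  haveI := (restrict_inc_full_faithful I f).1
  haveI := (restrict_inc_full_faithful I f).2
  exact { }

end Groth.Agent.H9PiOne

end
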