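import Groth.Agent.H9PiOne.GeomFibreCount
import Groth.Agent.H23.FinCondSch

/-!
# Geometric fibre cardinality versus generic degree
-/

set_option autoImplicit false
set_option linter.style.haveILetI false
set_option linter.unusedSectionVars false
set_option backward.isDefEq.respectTransparency false
set_option backward.isDefEq.respectTransparency.types false

universe u

open CategoryTheory CategoryTheory.Limits AlgebraicGeometry

noncomputable section

namespace Groth.Agent.H9PiOne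

open Groth.Agent

/-- The geometric fibre count over a normal point against the generic degree. -/
theorem count_le_and_eq_iff {X Y : Scheme.{u}} (f : X ⟶ Y) [IsSeparated f] [LocallyQuasiFinite f]
    [LocallyOfFiniteType f] [QuasiCompact f] [IrreducibleSpace Y] [IsLocallyNoetherian Y] [IsReduced X]
    (hdom : ∀ x : X, (∀ x' : X, x' ⤳ x → x' = x) → f x = genericPoint Y)
    (y : Y) [IsDomain (Y.presheaf.stalk y)] (hy : IsIntegrallyClosed (Y.presheaf.stalk y))
    {Ω : Type u} [Field Ω] [IsAlgClosed Ω] (p : Spec (CommRingCat.of Ω) ⟶ Y)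
    (hp : p (IsLocalRing.closedPoint Ω) = y) :
    IsField (Y.presheaf.stalk (genericPoint Y)) ∧
    Nat.card ↥(pullback f p) ≤ ∑ᶠ x ∈ f ⁻¹' {genericPoint Y}, f.residueDegree x ∧
      (Nat.card ↥(pullback f p) = ∑ᶠ x ∈ f ⁻¹' {genericPoint Y}, f.residueDegree x ↔
        ∃ U : Y.Opens, y ∈ U ∧ IsFinite (f ∣_ U) ∧ Etale (f ∣_ U)) := by
  classical
  obtain ⟨V, hyV, hVred⟩ := H23.FinCondSch.exists_reduced_nhd y
  haveI := hVred
  haveI : Nonempty ↥(V : Scheme.{u}) := ⟨⟨y, hyV⟩⟩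
  haveI : IrreducibleSpace ↥(V : Scheme.{u}) := by
    have h : IsIrreducible (V : Set Y) :=
      ⟨⟨y, hyV⟩, (PreirreducibleSpace.isPreirreducible_univ (X := Y)).open_subset V.isOpen (Set.subset_univ _)⟩
    exact Subtype.irreducibleSpace h
  haveI : IsIntegral (V : Scheme.{u}) := isIntegral_of_irreducibleSpace_of_isReduced _
  have hη : genericPoint Y ∈ V := ((genericPoint_spec Y).mem_open_set_iff V.isOpen).2 ⟨y, trivial, hyV⟩
  have hgV : V.ι (genericPoint (V : Scheme.{u})) = genericPoint Y := genericPoint_eq_of_isOpenImmersion V.ι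
  have hfld : IsField (Y.presheaf.stalk (genericPoint Y)) := by
    have h0 : IsField ((V : Scheme.{u}).functionField) := Field.toIsField _
    rw [← hgV]
    exact MulEquiv.isField h0
      (asIso (V.ι.stalkMap (genericPoint (V : Scheme.{u})))).commRingCatIsoToRingEquiv.toMulEquiv
  refine ⟨hfld, ?_⟩
  let f' := f ∣_ V
  haveI : IsReduced ((f ⁻¹ᵁ V : X.Opens) : Scheme.{u}) := isReduced_of_isOpenImmersion (f ⁻¹ᵁ V).ι
  have hfι : ∀ w, V.ι (f' w) = f ((f ⁻¹ᵁ V).ι w) := fun w => by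
    rw [← Scheme.Hom.comp_apply, morphismRestrict_ι, Scheme.Hom.comp_apply]
  have hdom' : ∀ ζ, (∀ ζ', ζ' ⤳ ζ → ζ' = ζ) → f' ζ = genericPoint (V : Scheme.{u}) := fun ζ hζ => by
    refine V.ι.isOpenEmbedding.injective ?_
    rw [hfι, hgV]
    refine hdom _ fun x' hx' => ?_
    have hmem : x' ∈ f ⁻¹ᵁ V := hx'.mem_open (f ⁻¹ᵁ V).isOpen ζ.2
    exact congrArg (f ⁻¹ᵁ V).ι (hζ ⟨x', hmem⟩ ((subtype_specializes_iff _ _).2 hx'))
  have hfin' : (f' ⁻¹' {genericPoint (V : Scheme.{u})}).Finite := f'.finite_preimage_singleton _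
  haveI : IsIntegrallyClosed (Y.presheaf.stalk (V.ι ⟨y, hyV⟩)) := hy
  have hstalk : IsIntegrallyClosed ((V : Scheme.{u}).presheaf.stalk ⟨y, hyV⟩) :=
    IsIntegrallyClosed.of_equiv (asIso (V.ι.stalkMap ⟨y, hyV⟩)).commRingCatIsoToRingEquiv
  haveI := hstalk
  -- the degree
  have hdeg : ∑ᶠ x ∈ f ⁻¹' {genericPoint Y}, f.residueDegree x =
      ∑ x ∈ hfin'.toFinset, EGA4loc.residueDegree f' x := by
    rw [← finsum_mem_eq_finite_toFinset_sum _ hfin']
    have himg : f ⁻¹' {genericPoint Y} = (f ⁻¹ᵁ V).ι '' (f' ⁻¹' {genericPoint (V : Scheme.{u})}) := by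
      ext x
      refine ⟨fun hx => ⟨⟨x, show f x ∈ V by rw [show f x = _ from hx]; exact hη⟩, ?_, rfl⟩, ?_⟩
      · refine V.ι.isOpenEmbedding.injective ?_
        rw [hfι, hgV]
        exact hx
      · rintro ⟨w, hw, rfl⟩
        show f _ = _
        rw [← hfι, show f' w = _ from hw, hgV]
    rw [himg, finsum_mem_image ((f ⁻¹ᵁ V).ι.isEmbedding.injective.injOn)]
    refine finsum_mem_congr rfl fun w _ => ?_
    show f.residueDegree _ = f'.residueDegree w
    have h1 := CycLib.residueDegree_comp f' V.ι w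
    have h2 := CycLib.residueDegree_comp (f ⁻¹ᵁ V).ι f w
    rw [CycLib.residueDegree_preimmersion V.ι, one_mul,
      H23.FiniteFibreSum.residueDegree_congr' (morphismRestrict_ι f V)] at h1
    rw [CycLib.residueDegree_preimmersion (f ⁻¹ᵁ V).ι, mul_one, h1] at h2
    exact h2.symm
  -- the geometric points
  have hr : Set.range p ⊆ Set.range V.ι := by
    rintro _ ⟨z, rfl⟩
    rw [Scheme.Opens.range_ι, Subsingleton.elim (α := PrimeSpectrum Ω) z (IsLocalRing.closedPoint Ω)]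
    show p (IsLocalRing.closedPoint Ω) ∈ V
    rw [hp]; exact hyV
  let p' := IsOpenImmersion.lift V.ι p hr
  have hfac : p' ≫ V.ι = p := IsOpenImmersion.lift_fac _ _ _
  have hp' : p' (IsLocalRing.closedPoint Ω) = ⟨y, hyV⟩ := by
    refine V.ι.isOpenEmbedding.injective ?_
    rw [← Scheme.Hom.comp_apply, hfac, hp]
    rfl
  obtain ⟨h', hle⟩ := sepDegree_le f' hdom' hfin' ⟨y, hyV⟩ (IntBC.isGeomUnibranch_of_branch (IntBC.branch_of_normal _))
  have hny : Nat.card ↥(pullback f p) = ∑ x ∈ h'.toFinset, EGA4loc.residueSepDegree f' x := by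
    rw [card_pullback_eq_lifts, ← card_lifts_sum f' p' h'.toFinset
      (fun x hx => ((Set.Finite.mem_toFinset h').1 hx).1.trans hp'.symm)
      (fun x hx => finite_residueFieldMap f' x ((Set.Finite.mem_toFinset h').1 hx).2)]
    have hall : ∀ a : Pi1X.Lifts p' f', a.1 (IsLocalRing.closedPoint Ω) ∈ h'.toFinset := fun a => by
      rw [Set.Finite.mem_toFinset]
      refine ⟨?_, f'.quasiFiniteAt _⟩
      rw [← Scheme.Hom.comp_apply, a.2, hp']
    refine Eq.trans ?_ (Nat.card_congr (Equiv.subtypeUnivEquiv hall)).symm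
    obtain ⟨e₂⟩ := nonempty_lifts_open_equiv f (f ⁻¹ᵁ V) p
    have hW : ∀ a : Pi1X.Lifts p f, a.1 (IsLocalRing.closedPoint Ω) ∈ f ⁻¹ᵁ V := fun a => by
      show f (a.1 _) ∈ V
      rw [← Scheme.Hom.comp_apply, a.2, hp]; exact hyV
    obtain ⟨e₁⟩ := nonempty_lifts_resLE_equiv f (f ⁻¹ᵁ V) V le_rfl p'
    rw [Scheme.Hom.resLE_eq_morphismRestrict, hfac] at e₁
    exact Nat.card_congr (e₁.trans (e₂.trans (Equiv.subtypeUnivEquiv hW))).symm
  rw [hny, hdeg]
  refine ⟨hle.trans (Finset.sum_le_sum fun x hx => residueSepDegree_le_residueDegree f' x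
    (finite_residueFieldMap f' x (f'.quasiFiniteAt x))), fun heq => ?_, fun ⟨U, hyU, hUf, hUe⟩ => ?_⟩
  · obtain ⟨U', hyU', hf1, hf2⟩ := exists_finite_etale_nhd f' hdom' hfin' ⟨y, hyV⟩ hstalk h' heq
    refine ⟨V.ι ''ᵁ U', ⟨⟨y, hyV⟩, hyU', rfl⟩, ?_, ?_⟩
    · exact (MorphismProperty.arrow_mk_iso_iff @IsFinite (morphismRestrictRestrict f V U')).1 hf1
    · exact (MorphismProperty.arrow_mk_iso_iff @Etale (morphismRestrictRestrict f V U')).1 hf2
  · let U' : (V : Scheme.{u}).Opens := V.ι ⁻¹ᵁ U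
    have himg : V.ι ''ᵁ U' ≤ U := by
      rintro _ ⟨z, hz, rfl⟩
      exact hz
    have e : V.ι ''ᵁ U' = U.ι ''ᵁ (U.ι ⁻¹ᵁ (V.ι ''ᵁ U')) := by
      rw [Scheme.Hom.image_preimage_eq_opensRange_inf U.ι, Scheme.Opens.opensRange_ι, inf_eq_right.2 himg]
    haveI : IsFinite (f ∣_ U ∣_ (U.ι ⁻¹ᵁ (V.ι ''ᵁ U'))) := IsZariskiLocalAtTarget.restrict hUf _
    haveI : Etale (f ∣_ U ∣_ (U.ι ⁻¹ᵁ (V.ι ''ᵁ U'))) := IsZariskiLocalAtTarget.restrict hUe _
    have a1 : IsFinite (f ∣_ V.ι ''ᵁ U') := by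
      rw [e]; exact (MorphismProperty.arrow_mk_iso_iff @IsFinite (morphismRestrictRestrict f U _)).1 ‹_›
    have a2 : Etale (f ∣_ V.ι ''ᵁ U') := by
      rw [e]; exact (MorphismProperty.arrow_mk_iso_iff @Etale (morphismRestrictRestrict f U _)).1 ‹_›
    haveI : IsFinite (f' ∣_ U') := (MorphismProperty.arrow_mk_iso_iff @IsFinite (morphismRestrictRestrict f V U')).2 a1
    haveI : Etale (f' ∣_ U') := (MorphismProperty.arrow_mk_iso_iff @Etale (morphismRestrictRestrict f V U')).2 a2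
    obtain ⟨h'', heq⟩ := sepDegree_eq_of_nhd f' hfin' ⟨y, hyV⟩ U' hyU
    exact heq

end Groth.Agent.H9PiOne

end
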