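import Groth.Agent.Pi1X.GaloisFunctorial
import Groth.Agent.Pi1X.FEtFiberFunctor
import Groth.Agent.H9PiOne.Splitting
import Groth.Prelude.Def_PiSp
import Mathlib.CategoryTheory.Endomorphism

/-!
# Topological generation of the fundamental group through fixed points
-/

set_option autoImplicit false
set_option linter.style.haveILetI false
set_option linter.unusedSectionVars false
set_option backward.isDefEq.respectTransparency false
set_option backward.isDefEq.respectTransparency.types false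

universe u

open CategoryTheory CategoryTheory.Limits CategoryTheory.PreGaloisCategory AlgebraicGeometry
open scoped Pointwise

noncomputable section

namespace Groth.Agent.H9PiOne.TopGen

variable {S : Scheme.{u}} {Ω : Type u} [Field Ω] [IsSepClosed Ω] (ξ : Spec (CommRingCat.of Ω) ⟶ S)

/-- automorphisms of the fibre functor with values in finite sets -/
def autEquiv : Aut (Pi1X.fiberFin ξ) ≃* FEt.piOne S ξ :=
  ((ObjectProperty.fullyFaithfulι _).whiskeringRight (FEt.Cat S)).autMulEquivOfFullyFaithful (Pi1X.fiberFin ξ)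

theorem autEquiv_app (σ : Aut (Pi1X.fiberFin ξ)) (Z : FEt.Cat S) (z : FEt.fiberObj ξ Z) :
    ((autEquiv ξ σ).hom.app Z) z = (σ.hom.app Z) z := rfl

/-- the action on all fibres, as a point of a product -/
def evalAll (g : FEt.piOne S ξ) : ∀ Z : FEt.Cat S, FEt.fiberObj ξ Z → FEt.fiberObj ξ Z :=
  fun Z z => (g.hom.app Z) z

variable [ConnectedSpace S]

/-- If only trivial connected covers have a point fixed by `F`, then `F` generates topologically. -/
theorem topGenerates_of_fixed (F : Set (FEt.piOne S ξ))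
    (h : ∀ Z : FEt.Cat S, ConnectedSpace Z.left → ∀ p : FEt.fiberObj ξ Z,
      (∀ σ ∈ F, (σ.hom.app Z) p = p) → Subsingleton (FEt.fiberObj ξ Z)) :
    PiSp.TopGenerates F := by
  classical
  haveI := Pi1X.galoisCategory (S := S)
  let F₀ := Pi1X.fiberFin ξ
  let H : Subgroup (Aut F₀) := (Subgroup.closure F).comap (autEquiv ξ).toMonoidHom
  have htrans : ∀ (A : FEt.Cat S) (a : F₀.obj A) (σ : Aut F₀), ∃ τ ∈ H, τ • a = σ • a := by
    intro A a σ
    let O : Set (F₀.obj A) := MulAction.orbit H a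
    obtain ⟨X, p, hX, hp⟩ := Pi1X.Functorial.exists_point_of_set F₀ O
    have hXne : Nonempty X.left :=
      ⟨(show FEt.fiberObj ξ X from p).1 (IsLocalRing.closedPoint Ω)⟩
    haveI : Subsingleton (FEt.fiberObj ξ X) := h X (H9PiOne.connectedSpace_of_isConnected X hXne) p fun g hg => by
      obtain ⟨g₀, rfl⟩ := (autEquiv ξ).surjective g
      rw [autEquiv_app]
      refine (hp g₀).2 ?_
      have hgH : g₀ ∈ H := Subgroup.subset_closure hg
      exact MulAction.smul_orbit (⟨g₀, hgH⟩ : H) a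
    have hσ : σ • O = O := (hp σ).1 (Subsingleton.elim (α := FEt.fiberObj ξ X) _ _)
    have : σ • a ∈ O := hσ ▸ Set.smul_mem_smul_set (MulAction.mem_orbit_self a)
    obtain ⟨⟨τ, hτ⟩, he⟩ := this
    exact ⟨τ, hτ, he⟩
  have hdom : ∀ I : Finset (FEt.Cat S), ∃ A : PointedGaloisObject F₀,
      ∀ Z ∈ I, ∀ z : F₀.obj Z, ∃ f : A.obj ⟶ Z, F₀.map f A.pt = z := by
    intro I
    induction I using Finset.induction_on with
    | empty =>
      obtain ⟨A, a, hA, -⟩ := exists_galois_representative F₀ (⊤_ (FEt.Cat S))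
      exact ⟨⟨A, a, hA⟩, by simp⟩
    | insert Z I hZ ih =>
      obtain ⟨A, hA⟩ := ih
      obtain ⟨B, b, hB, hbij⟩ := exists_galois_representative F₀ Z
      obtain ⟨W, w₁, w₂, -⟩ := IsCofilteredOrEmpty.cone_objs A (⟨B, b, hB⟩ : PointedGaloisObject F₀)
      refine ⟨W, fun Z' hZ' z => ?_⟩
      rcases Finset.mem_insert.1 hZ' with rfl | hZ'
      · obtain ⟨f, hf⟩ := hbij.surjective z
        exact ⟨w₂.val ≫ f, by rw [F₀.map_comp, FintypeCat.comp_apply, w₂.comp]; exact hf⟩
      · obtain ⟨f, hf⟩ := hA Z' hZ' z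
        exact ⟨w₁.val ≫ f, by rw [F₀.map_comp, FintypeCat.comp_apply, w₁.comp]; exact hf⟩
  refine dense_iff_inter_open.2 fun U hU hne => ?_
  obtain ⟨g, hg⟩ := hne
  letI : ∀ Z : FEt.Cat S, TopologicalSpace (FEt.fiberObj ξ Z → FEt.fiberObj ξ Z) := fun _ => ⊥
  obtain ⟨V, hV, rfl⟩ := (isOpen_induced_iff (f := evalAll ξ)).1 hU
  obtain ⟨I, u, hu, hsub⟩ := isOpen_pi_iff.1 hV _ hg
  obtain ⟨A, hA⟩ := hdom I
  obtain ⟨σ, rfl⟩ := (autEquiv ξ).surjective g
  obtain ⟨τ, hτ, he⟩ := htrans A.obj A.pt σ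
  refine ⟨autEquiv ξ τ, hsub (fun Z hZ => ?_), hτ⟩
  have : (fun z : FEt.fiberObj ξ Z => ((autEquiv ξ τ).hom.app Z) z) =
      fun z : FEt.fiberObj ξ Z => ((autEquiv ξ σ).hom.app Z) z := funext fun z => by
    rw [autEquiv_app, autEquiv_app]
    obtain ⟨f, rfl⟩ := hA Z hZ z
    show τ • F₀.map f A.pt = σ • F₀.map f A.pt
    rw [mulAction_naturality, mulAction_naturality, he]
  show (fun z : FEt.fiberObj ξ Z => ((autEquiv ξ τ).hom.app Z) z) ∈ u Z
  rw [this]
  exact (hu Z hZ).2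

/-- A point fixed by topological generators extends to a section. -/
theorem exists_section (F : Set (FEt.piOne S ξ)) (hF : PiSp.TopGenerates F) (Z : FEt.Cat S)
    (p : FEt.fiberObj ξ Z) (hp : ∀ σ ∈ F, (σ.hom.app Z) p = p) :
    ∃ s : S ⟶ Z.left, s ≫ Z.hom = 𝟙 S ∧ ξ ≫ s = p.1 := by
  haveI := Pi1X.galoisCategory (S := S)
  let F₀ := Pi1X.fiberFin ξ
  let T : Subgroup (FEt.piOne S ξ) := (MulAction.stabilizer (Aut F₀) (show F₀.obj Z from p)).map (autEquiv ξ).toMonoidHom
  have hmem : ∀ g, g ∈ T ↔ (g.hom.app Z) p = p := fun g => by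
    obtain ⟨g₀, rfl⟩ := (autEquiv ξ).surjective g
    rw [autEquiv_app]
    exact Subgroup.mem_map_iff_mem (autEquiv ξ).injective
  have hle : Subgroup.closure F ≤ T := (Subgroup.closure_le _).2 fun g hg => (hmem g).2 (hp g hg)
  letI : ∀ Z : FEt.Cat S, TopologicalSpace (FEt.fiberObj ξ Z → FEt.fiberObj ξ Z) := fun _ => ⊥
  haveI : DiscreteTopology (FEt.fiberObj ξ Z → FEt.fiberObj ξ Z) := ⟨rfl⟩
  have hcl : IsClosed (T : Set (FEt.piOne S ξ)) := by
    have hc : Continuous fun g : FEt.piOne S ξ => evalAll ξ g Z :=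
      (continuous_apply Z).comp (continuous_induced_dom (f := evalAll ξ))
    have : (T : Set (FEt.piOne S ξ)) = (fun g : FEt.piOne S ξ => evalAll ξ g Z) ⁻¹' {φ | φ p = p} :=
      Set.ext fun g => hmem g
    rw [this]
    exact (isClosed_discrete _).preimage hc
  have hall : ∀ σ : Aut F₀, σ • (show F₀.obj Z from p) = p := fun σ => by
    have : autEquiv ξ σ ∈ T := hcl.closure_subset_iff.2 (fun _ h => hle h) (hF (autEquiv ξ σ))
    exact (autEquiv_app ξ σ Z p).symm.trans ((hmem _).1 this)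
  let E : FEt.Cat S := MorphismProperty.Over.mk ⊤ (𝟙 S) (FEt.prop.id_mem S)
  obtain ⟨f, hf⟩ := Pi1X.Functorial.exists_hom_of_equivariant F₀ (X := E) (Y := Z) (fun _ => p)
    fun σ _ => (hall σ).symm
  refine ⟨f.left, MorphismProperty.Over.w f, ?_⟩
  exact congrArg Subtype.val (hf (show F₀.obj E from ⟨ξ, Category.comp_id ξ⟩))

end Groth.Agent.H9PiOne.TopGen
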