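import Groth.Agent.H9PiOne.DescSection
import Groth.Agent.H9PiOne.TopGen
import Groth.Agent.Pi1X.GaloisUnique
import Groth.Prelude.Def_PiSp
import Mathlib.AlgebraicGeometry.Noetherian
import Mathlib.Topology.Connected.TotallyDisconnected

/-!
# Topological finite generation descends along proper surjections
-/

set_option autoImplicit false
set_option linter.style.haveILetI false
set_option linter.unusedSectionVars false
set_option backward.isDefEq.respectTransparency false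
set_option backward.isDefEq.respectTransparency.types false

universe u

open CategoryTheory CategoryTheory.Limits AlgebraicGeometry

noncomputable section

namespace Groth.Agent.H9PiOne.DescPiOne

theorem finite_connectedComponents (T : Type u) [TopologicalSpace T] [TopologicalSpace.NoetherianSpace T] :
    Finite (_root_.ConnectedComponents T) := by
  haveI : Finite (irreducibleComponents T) := TopologicalSpace.NoetherianSpace.finite_irreducibleComponents.to_subtype
  refine Finite.of_surjective (fun Z : irreducibleComponents T => _root_.ConnectedComponents.mk Z.2.1.1.choose) ?_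
  rintro ⟨x⟩
  refine ⟨⟨irreducibleComponent x, irreducibleComponent_mem_irreducibleComponents x⟩, ?_⟩
  refine _root_.ConnectedComponents.coe_eq_coe'.2 ?_
  exact (isIrreducible_irreducibleComponent.isPreirreducible.isPreconnected).subset_connectedComponent
    mem_irreducibleComponent (irreducibleComponent_mem_irreducibleComponents x).1.1.choose_spec

variable {S : Scheme.{u}}

/-- fibres at equal geometric points -/
def congrIso {Ω : Type u} [Field Ω] {a b : Spec (CommRingCat.of Ω) ⟶ S} (h : a = b) :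
    FEt.fiber a ≅ FEt.fiber b :=
  NatIso.ofComponents (fun Z => Equiv.toIso
    { toFun := fun p => ⟨p.1, p.2.trans h⟩
      invFun := fun p => ⟨p.1, p.2.trans h.symm⟩ }) (fun φ => by ext p; rfl)

theorem congrIso_val {Ω : Type u} [Field Ω] {a b : Spec (CommRingCat.of Ω) ⟶ S} (h : a = b) (Z : FEt.Cat S)
    (p : FEt.fiberObj a Z) : (show FEt.fiberObj b Z from (congrIso h).hom.app Z p).1 = p.1 := rfl

/-- an isomorphism of fibre functors, pushed along a morphism -/
def pushIso {C : Scheme.{u}} (f : C ⟶ S) {Ω Ω' : Type u} [Field Ω] [Field Ω']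
    {η : Spec (CommRingCat.of Ω) ⟶ C} {η' : Spec (CommRingCat.of Ω') ⟶ C} (e : FEt.fiber η ≅ FEt.fiber η') :
    FEt.fiber (η ≫ f) ≅ FEt.fiber (η' ≫ f) :=
  (Pi1X.restrictFiberIso f η).symm ≪≫ Functor.isoWhiskerLeft (FEt.restrict f) e ≪≫ Pi1X.restrictFiberIso f η'

/-- an isomorphism of fibres carries the value of a section to the value of the section -/
theorem pushIso_section {C : Scheme.{u}} (f : C ⟶ S) {Ω Ω' : Type u} [Field Ω] [Field Ω']
    {η : Spec (CommRingCat.of Ω) ⟶ C} {η' : Spec (CommRingCat.of Ω') ⟶ C} (e : FEt.fiber η ≅ FEt.fiber η')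
    (Z : FEt.Cat S) (s : C ⟶ ((FEt.restrict f).obj Z).left) (hs : s ≫ ((FEt.restrict f).obj Z).hom = 𝟙 C)
    (p : FEt.fiberObj (η ≫ f) Z) (hp : η ≫ s ≫ pullback.fst Z.hom f = p.1) :
    (show FEt.fiberObj (η' ≫ f) Z from (pushIso f e).hom.app Z p).1 = η' ≫ s ≫ pullback.fst Z.hom f := by
  let E : FEt.Cat C := MorphismProperty.Over.mk ⊤ (𝟙 C) (FEt.prop.id_mem C)
  let φ : E ⟶ (FEt.restrict f).obj Z := MorphismProperty.Over.homMk s hs
  let pt : FEt.fiberObj η E := ⟨η, Category.comp_id η⟩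
  have hp' : p = (Pi1X.restrictFiberIso f η).hom.app Z ((FEt.fiber η).map φ pt) :=
    Subtype.ext (hp.symm.trans (Category.assoc η s _).symm)
  subst hp'
  have h1 : (show FEt.fiberObj (η' ≫ f) Z from
      (pushIso f e).hom.app Z ((Pi1X.restrictFiberIso f η).hom.app Z ((FEt.fiber η).map φ pt))) =
      (Pi1X.restrictFiberIso f η').hom.app Z (e.hom.app ((FEt.restrict f).obj Z) ((FEt.fiber η).map φ pt)) := by
    show (Pi1X.restrictFiberIso f η').hom.app Z (e.hom.app _
      ((Pi1X.restrictFiberIso f η).inv.app Z ((Pi1X.restrictFiberIso f η).hom.app Z _))) = _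
    rw [Iso.hom_inv_id_app_apply]
  rw [h1, NatTrans.naturality_apply e.hom φ pt]
  have h2 : (show FEt.fiberObj η' E from e.hom.app E pt).1 = η' :=
    (Category.comp_id _).symm.trans (show FEt.fiberObj η' E from e.hom.app E pt).2
  show ((show FEt.fiberObj η' E from e.hom.app E pt).1 ≫ s) ≫ pullback.fst Z.hom f = _
  rw [h2, Category.assoc]

theorem restrictFiberIso_val {C : Scheme.{u}} (f : C ⟶ S) {Ω : Type u} [Field Ω]
    (η : Spec (CommRingCat.of Ω) ⟶ C) (Z : FEt.Cat S) (r : FEt.fiberObj η ((FEt.restrict f).obj Z)) :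
    (show FEt.fiberObj (η ≫ f) Z from (Pi1X.restrictFiberIso f η).hom.app Z r).1 = r.1 ≫ pullback.fst Z.hom f := rfl

/-- a point fixed by pushed generators extends to a section -/
theorem exists_section_of_fixed {C : Scheme.{u}} [ConnectedSpace C] (f : C ⟶ S) {Ω Ω' : Type u} [Field Ω]
    [Field Ω'] [IsSepClosed Ω'] {ξ : Spec (CommRingCat.of Ω) ⟶ S} (η : Spec (CommRingCat.of Ω') ⟶ C)
    (γ : FEt.fiber ξ ≅ FEt.fiber (η ≫ f)) (F : Set (FEt.piOne C η)) (hF : PiSp.TopGenerates F)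
    (Z : FEt.Cat S) (p : FEt.fiberObj ξ Z)
    (hp : ∀ σ ∈ F, (γ ≪≫ pushIso f σ ≪≫ γ.symm).hom.app Z p = p) :
    ∃ s : C ⟶ ((FEt.restrict f).obj Z).left, s ≫ ((FEt.restrict f).obj Z).hom = 𝟙 _ ∧
      η ≫ s ≫ pullback.fst Z.hom f = (show FEt.fiberObj (η ≫ f) Z from γ.hom.app Z p).1 := by
  let r : FEt.fiberObj η ((FEt.restrict f).obj Z) :=
    (Pi1X.restrictFiberIso f η).inv.app Z (γ.hom.app Z p)
  have hr : (Pi1X.restrictFiberIso f η).hom.app Z r = γ.hom.app Z p := Iso.inv_hom_id_app_apply _ _ _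
  obtain ⟨s, hs1, hs2⟩ := TopGen.exists_section η F hF ((FEt.restrict f).obj Z) r fun σ hσ => by
    have h : γ.inv.app Z ((Pi1X.restrictFiberIso f η).hom.app Z (σ.hom.app _ r)) = p := hp σ hσ
    have h' := congrArg (fun q => (Pi1X.restrictFiberIso f η).inv.app Z (γ.hom.app Z q)) h
    simp only [Iso.inv_hom_id_app_apply, Iso.hom_inv_id_app_apply] at h'
    exact h'
  refine ⟨s, hs1, ?_⟩
  rw [← Category.assoc, hs2]
  exact (restrictFiberIso_val f η Z r).symm.trans (congrArg (fun q : FEt.fiberObj (η ≫ f) Z => q.1) hr)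

/-- a loop fixing a point equates the values of two sections -/
theorem agree_of_loop {Ω k Ω₁ Ω₂ : Type u} [Field Ω] [Field k] [Field Ω₁] [Field Ω₂]
    {ξ : Spec (CommRingCat.of Ω) ⟶ S} {C₁ C₂ : Scheme.{u}} (f₁ : C₁ ⟶ S) (f₂ : C₂ ⟶ S)
    {η₁ : Spec (CommRingCat.of Ω₁) ⟶ C₁} {η₂ : Spec (CommRingCat.of Ω₂) ⟶ C₂}
    {x₁ : Spec (CommRingCat.of k) ⟶ C₁} {x₂ : Spec (CommRingCat.of k) ⟶ C₂}
    (γ₁ : FEt.fiber ξ ≅ FEt.fiber (η₁ ≫ f₁)) (γ₂ : FEt.fiber ξ ≅ FEt.fiber (η₂ ≫ f₂))
    (e₁ : FEt.fiber η₁ ≅ FEt.fiber x₁) (e₂ : FEt.fiber η₂ ≅ FEt.fiber x₂)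
    (h12 : x₁ ≫ f₁ = x₂ ≫ f₂) (Z : FEt.Cat S) (p : FEt.fiberObj ξ Z)
    (hl : (γ₁ ≪≫ pushIso f₁ e₁ ≪≫ congrIso h12 ≪≫ (pushIso f₂ e₂).symm ≪≫ γ₂.symm).hom.app Z p = p)
    (s₁ : C₁ ⟶ ((FEt.restrict f₁).obj Z).left) (hs₁ : s₁ ≫ ((FEt.restrict f₁).obj Z).hom = 𝟙 _)
    (hp₁ : η₁ ≫ s₁ ≫ pullback.fst Z.hom f₁ = (show FEt.fiberObj (η₁ ≫ f₁) Z from γ₁.hom.app Z p).1)
    (s₂ : C₂ ⟶ ((FEt.restrict f₂).obj Z).left) (hs₂ : s₂ ≫ ((FEt.restrict f₂).obj Z).hom = 𝟙 _)
    (hp₂ : η₂ ≫ s₂ ≫ pullback.fst Z.hom f₂ = (show FEt.fiberObj (η₂ ≫ f₂) Z from γ₂.hom.app Z p).1) :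
    x₁ ≫ s₁ ≫ pullback.fst Z.hom f₁ = x₂ ≫ s₂ ≫ pullback.fst Z.hom f₂ := by
  have hl₀ : γ₂.inv.app Z ((pushIso f₂ e₂).inv.app Z ((congrIso h12).hom.app Z
      ((pushIso f₁ e₁).hom.app Z (γ₁.hom.app Z p)))) = p := hl
  have hl' := congrArg (fun q => (pushIso f₂ e₂).hom.app Z (γ₂.hom.app Z q)) hl₀
  simp only [Iso.inv_hom_id_app_apply] at hl'
  have h1 := pushIso_section f₁ e₁ Z s₁ hs₁ (γ₁.hom.app Z p) hp₁
  have h2 := pushIso_section f₂ e₂ Z s₂ hs₂ (γ₂.hom.app Z p) hp₂
  exact (h1.symm.trans (congrIso_val h12 Z _).symm).trans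
    ((congrArg (fun q : FEt.fiberObj (x₂ ≫ f₂) Z => q.1) hl').trans h2)

/-- glueing along disjoint opens -/
theorem exists_glue {X Y : Scheme.{u}} {ι : Type u} (C : ι → X.Opens) (hcov : TopologicalSpace.IsOpenCover C)
    (hdis : ∀ i j, i ≠ j → ∀ x, x ∈ C i → x ∉ C j) (t : ∀ i, (C i : Scheme.{u}) ⟶ Y) :
    ∃ σ : X ⟶ Y, ∀ i, (C i).ι ≫ σ = t i := by
  let 𝒰 := X.openCoverOfIsOpenCover C hcov
  have hcomp : ∀ i j : ι, pullback.fst (C i).ι (C j).ι ≫ t i = pullback.snd (C i).ι (C j).ι ≫ t j := by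
    intro i j
    by_cases hij : i = j
    · subst hij
      exact congrArg (· ≫ t i) ((cancel_mono ((C i).ι)).1 pullback.condition)
    · haveI : IsEmpty ↥(pullback ((C i).ι) ((C j).ι)) := ⟨fun z => by
        refine hdis i j hij _ ((pullback.fst (C i).ι (C j).ι).base z).2 ?_
        have he : (C i).ι.base ((pullback.fst (C i).ι (C j).ι).base z) =
            (C j).ι.base ((pullback.snd (C i).ι (C j).ι).base z) := by
          rw [← Scheme.Hom.comp_apply, ← Scheme.Hom.comp_apply, pullback.condition]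
        exact (congrArg (· ∈ C j) he).mpr ((pullback.snd (C i).ι (C j).ι).base z).2⟩
      exact isInitialOfIsEmpty.hom_ext _ _
  exact ⟨Scheme.Cover.glueMorphisms 𝒰 t hcomp, Scheme.Cover.ι_glueMorphisms 𝒰 t hcomp⟩

set_option maxHeartbeats 1600000 in
theorem main {S S' : Scheme.{u}} [IsNoetherian S]
    [ConnectedSpace S] (g : S' ⟶ S) [IsProper g] [Surjective g]
    (hfg : ∀ (C : S'.Opens), IsClosed (C : Set S') → ConnectedSpace C →
      ∀ (Ω : Type u) [Field Ω] [IsAlgClosed Ω] (η : Spec (CommRingCat.of Ω) ⟶ (C : Scheme.{u})),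
        ∃ F : Finset (FEt.piOne (C : Scheme.{u}) η), PiSp.TopGenerates (F : Set (FEt.piOne (C : Scheme.{u}) η)))
    {Ω : Type u} [Field Ω] [IsAlgClosed Ω] (ξ : Spec (CommRingCat.of Ω) ⟶ S) :
    ∃ F : Finset (FEt.piOne S ξ), PiSp.TopGenerates (F : Set (FEt.piOne S ξ)) := by
  classical
  haveI : IsLocallyNoetherian S' := LocallyOfFiniteType.isLocallyNoetherian g
  haveI : CompactSpace S' := QuasiCompact.compactSpace_of_compactSpace g
  haveI : IsNoetherian S' := {}
  haveI : IsLocallyNoetherian (pullback g g) := LocallyOfFiniteType.isLocallyNoetherian (pullback.fst g g)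
  haveI : CompactSpace ↥(pullback g g) := QuasiCompact.compactSpace_of_compactSpace (pullback.fst g g)
  haveI : IsNoetherian (pullback g g) := {}
  haveI := finite_connectedComponents ↥S'
  haveI := finite_connectedComponents ↥(pullback g g)
  let mk : S' → _root_.ConnectedComponents S' := _root_.ConnectedComponents.mk
  have hclopen : ∀ c : _root_.ConnectedComponents S', IsClopen (mk ⁻¹' {c}) := fun c =>
    (isClopen_discrete _).preimage _root_.ConnectedComponents.continuous_coe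
  let C : _root_.ConnectedComponents S' → S'.Opens := fun c => ⟨mk ⁻¹' {c}, (hclopen c).isOpen⟩
  haveI hconn : ∀ c, ConnectedSpace (C c) := fun c => by
    obtain ⟨x, rfl⟩ := _root_.ConnectedComponents.surjective_coe c
    have : (C (_root_.ConnectedComponents.mk x) : Set S') = connectedComponent x := connectedComponents_preimage_singleton
    show ConnectedSpace ((C (_root_.ConnectedComponents.mk x) : Set S') : Type u)
    rw [this]
    exact isConnected_iff_connectedSpace.1 isConnected_connectedComponent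
  have hpt : ∀ c, ∃ (k : Type u) (_ : Field k) (_ : IsAlgClosed k),
      Nonempty (Spec (CommRingCat.of k) ⟶ (C c : Scheme.{u})) := fun c => by
    obtain ⟨x⟩ := (hconn c).toNonempty
    obtain ⟨k, ik, hk, η, -⟩ := Pi1X.exists_geometric_point (S := (C c : Scheme.{u})) x
    exact ⟨k, ik, hk, ⟨η⟩⟩
  choose K iK hK hη using hpt
  let η : ∀ c, Spec (CommRingCat.of (K c)) ⟶ (C c : Scheme.{u}) := fun c => (hη c).some
  let f : ∀ c, (C c : Scheme.{u}) ⟶ S := fun c => (C c).ι ≫ g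
  have hF : ∀ c, ∃ F : Finset (FEt.piOne (C c : Scheme.{u}) (η c)), PiSp.TopGenerates (F : Set (FEt.piOne _ (η c))) :=
    fun c => hfg (C c) (hclopen c).isClosed (hconn c) (K c) (η c)
  choose Fc hFc using hF
  let γ : ∀ c, FEt.fiber ξ ≅ FEt.fiber (η c ≫ f c) := fun c => (Pi1X.nonempty_fiber_iso ξ (η c ≫ f c)).some
  let push : ∀ c, FEt.piOne (C c : Scheme.{u}) (η c) → FEt.piOne S ξ := fun c σ =>
    γ c ≪≫ pushIso (f c) σ ≪≫ (γ c).symm
  -- paths to the geometric points of `S'`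
  have hpath : ∀ {k : Type u} [Field k] [IsAlgClosed k] (x : Spec (CommRingCat.of k) ⟶ S'),
      ∃ (c : _root_.ConnectedComponents S') (x' : Spec (CommRingCat.of k) ⟶ (C c : Scheme.{u})), x' ≫ (C c).ι = x := by
    intro k _ _ x
    refine ⟨mk (x.base (IsLocalRing.closedPoint k)), IsOpenImmersion.lift (C _).ι x ?_, IsOpenImmersion.lift_fac _ _ _⟩
    rw [Scheme.Opens.range_ι]
    rintro _ ⟨t, rfl⟩
    rw [Subsingleton.elim (α := Spec (CommRingCat.of k)) t (IsLocalRing.closedPoint k)]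
    rfl
  have hd : ∀ d : _root_.ConnectedComponents ↥(pullback g g), ∃ (k : Type u) (_ : Field k) (_ : IsAlgClosed k)
      (δ : Spec (CommRingCat.of k) ⟶ pullback g g), _root_.ConnectedComponents.mk (δ.base (IsLocalRing.closedPoint k)) = d := by
    intro d
    obtain ⟨y, rfl⟩ := _root_.ConnectedComponents.surjective_coe d
    obtain ⟨k, ik, hk, δ, hδ⟩ := Pi1X.exists_geometric_point y
    exact ⟨k, ik, hk, δ, by rw [hδ]⟩
  choose Kd iKd hKd δ hδ using hd
  choose c₁ x₁ hx₁ using fun d => hpath (δ d ≫ pullback.fst g g)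
  choose c₂ x₂ hx₂ using fun d => hpath (δ d ≫ pullback.snd g g)
  let e₁ : ∀ d, FEt.fiber (η (c₁ d)) ≅ FEt.fiber (x₁ d) := fun d => (Pi1X.nonempty_fiber_iso _ _).some
  let e₂ : ∀ d, FEt.fiber (η (c₂ d)) ≅ FEt.fiber (x₂ d) := fun d => (Pi1X.nonempty_fiber_iso _ _).some
  have hx12 : ∀ d, x₁ d ≫ f (c₁ d) = x₂ d ≫ f (c₂ d) := fun d => by
    simp only [f, reassoc_of% (hx₁ d), reassoc_of% (hx₂ d), pullback.condition]
  let loop : _root_.ConnectedComponents ↥(pullback g g) → FEt.piOne S ξ := fun d =>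
    γ (c₁ d) ≪≫ pushIso (f (c₁ d)) (e₁ d) ≪≫ congrIso (hx12 d) ≪≫
      (pushIso (f (c₂ d)) (e₂ d)).symm ≪≫ (γ (c₂ d)).symm
  haveI : Fintype (_root_.ConnectedComponents S') := Fintype.ofFinite _
  haveI : Fintype (_root_.ConnectedComponents ↥(pullback g g)) := Fintype.ofFinite _
  let F : Finset (FEt.piOne S ξ) :=
    (Finset.univ.biUnion fun c => (Fc c).image (push c)) ∪ Finset.univ.image loop
  refine ⟨F, TopGen.topGenerates_of_fixed ξ _ fun Z hZ p hp => ?_⟩
  -- the sections over the components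
  have hsec : ∀ c, ∃ s : (C c : Scheme.{u}) ⟶ ((FEt.restrict (f c)).obj Z).left,
      s ≫ ((FEt.restrict (f c)).obj Z).hom = 𝟙 _ ∧
      η c ≫ s ≫ pullback.fst Z.hom (f c) = (show FEt.fiberObj (η c ≫ f c) Z from (γ c).hom.app Z p).1 := by
    intro c
    exact exists_section_of_fixed (f c) (η c) (γ c) _ (hFc c) Z p fun σ hσ =>
      hp (push c σ) (Finset.mem_union_left _ (Finset.mem_biUnion.2
        ⟨c, Finset.mem_univ _, Finset.mem_image_of_mem _ hσ⟩))
  choose s hs hsη using hsec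
  let t : ∀ c, (C c : Scheme.{u}) ⟶ Z.left := fun c => s c ≫ pullback.fst Z.hom (f c)
  have ht : ∀ c, t c ≫ Z.hom = f c := fun c => by
    rw [Category.assoc, pullback.condition]
    exact (Category.assoc _ _ _).symm.trans ((congrArg (· ≫ f c) (hs c)).trans (Category.id_comp _))
  have hcov : TopologicalSpace.IsOpenCover C :=
    .mk (TopologicalSpace.Opens.ext (Set.eq_univ_of_forall fun x => by
      rw [TopologicalSpace.Opens.coe_iSup, Set.mem_iUnion]
      exact ⟨mk x, rfl⟩))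
  obtain ⟨σ, hσι⟩ := exists_glue C hcov (fun i j hij x hi hj => hij (Eq.trans (Eq.symm hi) hj)) t
  have hσ : σ ≫ Z.hom = g := Scheme.Cover.hom_ext (S'.openCoverOfIsOpenCover C hcov) _ _ fun c => by
    show (C c).ι ≫ σ ≫ Z.hom = (C c).ι ≫ g
    rw [← Category.assoc, hσι, ht]
  haveI : IsFinite Z.hom := Z.prop.1
  haveI : Etale Z.hom := Z.prop.2
  haveI : ConnectedSpace ↥((𝟭 Scheme.{u}).obj Z.left) := hZ
  -- the two pull-backs agree
  have hagree : ∀ d, (δ d ≫ pullback.fst g g) ≫ σ = (δ d ≫ pullback.snd g g) ≫ σ := by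
    intro d
    rw [← hx₁ d, ← hx₂ d, Category.assoc, Category.assoc, hσι, hσι]
    exact agree_of_loop (f (c₁ d)) (f (c₂ d)) (γ _) (γ _) (e₁ d) (e₂ d) (hx12 d) Z p
      (hp (loop d) (Finset.mem_union_right _ (Finset.mem_image_of_mem _ (Finset.mem_univ _))))
      (s _) (hs _) (hsη _) (s _) (hs _) (hsη _)
  have heq : pullback.fst g g ≫ σ = pullback.snd g g ≫ σ := by
    obtain ⟨W, hW, hWiff⟩ := DescSection.exists_isClopen_eqLocus_iff Z.hom
      (pullback.fst g g ≫ σ) (pullback.snd g g ≫ σ)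
      (by rw [Category.assoc, Category.assoc, hσ, pullback.condition])
    have huniv : W = Set.univ := Set.eq_univ_of_forall fun y => by
      let d : _root_.ConnectedComponents ↥(pullback g g) := _root_.ConnectedComponents.mk y
      have hmem : (δ d).base (IsLocalRing.closedPoint (Kd d)) ∈ W :=
        (hWiff (δ d)).2 (by simpa only [Category.assoc] using hagree d) ⟨_, rfl⟩
      exact hW.connectedComponent_subset hmem (_root_.ConnectedComponents.coe_eq_coe'.1 (hδ d).symm)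
    simpa using (hWiff (𝟙 _)).1 (by rw [huniv]; exact Set.subset_univ _)
  exact ⟨fun a b => Subtype.ext (DescSection.subsingleton_points g Z.hom σ hσ heq a.1 b.1 (a.2.trans b.2.symm))⟩

end Groth.Agent.H9PiOne.DescPiOne
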