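import Groth.Agent.Pi1X.FEtBasic
import Mathlib.AlgebraicGeometry.PullbackCarrier
import Mathlib.AlgebraicGeometry.Morphisms.Flat
import Mathlib.AlgebraicGeometry.Morphisms.Proper

/-!
# A connected cover with a section over a proper surjection compatible with descent is trivial
-/

set_option autoImplicit false
set_option linter.style.haveILetI false

universe u

open CategoryTheory CategoryTheory.Limits AlgebraicGeometry

noncomputable section

namespace Groth.Agent.H9PiOne.DescSection

/-- The equalizer of two maps into a separated unramified scheme, as a clopen set. -/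
theorem exists_isClopen_eqLocus_iff {X Y S : Scheme.{u}} (p : Y ⟶ S) [IsSeparated p]
    [FormallyUnramified p] [LocallyOfFiniteType p] (f g : X ⟶ Y) (h : f ≫ p = g ≫ p) :
    ∃ W : Set X, IsClopen W ∧
      ∀ {T : Scheme.{u}} (z : T ⟶ X), Set.range z.base ⊆ W ↔ z ≫ f = z ≫ g := by
  let X' : Over S := Over.mk (f ≫ p)
  let Y' : Over S := Over.mk p
  let f' : X' ⟶ Y' := Over.homMk f
  let g' : X' ⟶ Y' := Over.homMk g
  haveI : IsSeparated Y'.hom := ‹_›
  haveI : FormallyUnramified Y'.hom := ‹_›
  haveI : LocallyOfFiniteType Y'.hom := ‹_›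
  haveI := Groth.Agent.Pi1X.isOpenImmersion_equalizer_ι_left f' g'
  refine ⟨Set.range (equalizer.ι f' g').left.base,
    ⟨(Scheme.Hom.isClosedEmbedding _).isClosed_range,
      (Scheme.Hom.isOpenEmbedding (equalizer.ι f' g').left).isOpen_range⟩,
    fun {T} z => ⟨fun hz => ?_, fun hz => ?_⟩⟩
  · rw [← IsOpenImmersion.lift_fac (equalizer.ι f' g').left z hz, Category.assoc, Category.assoc]
    exact congrArg (IsOpenImmersion.lift (equalizer.ι f' g').left z hz ≫ ·)
      congr($(equalizer.condition f' g').left)
  · let T' : Over S := Over.mk (z ≫ f ≫ p)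
    let z' : T' ⟶ X' := Over.homMk z
    have hz' : z' ≫ f' = z' ≫ g' := by ext1; exact hz
    rintro _ ⟨t, rfl⟩
    refine ⟨(equalizer.lift z' hz').left t, ?_⟩
    rw [← Scheme.Hom.comp_apply, ← Over.comp_left, equalizer.lift_ι]
    rfl

/-- the range of a point -/
theorem range_fromSpecResidueField_comp {X Y : Scheme.{u}} (f : X ⟶ Y) (x : X) :
    Set.range (X.fromSpecResidueField x ≫ f).base = {f.base x} := by
  rw [Scheme.Hom.comp_base, TopCat.coe_comp, Set.range_comp, Scheme.range_fromSpecResidueField, Set.image_singleton]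

variable {S S' Z : Scheme.{u}} (g : S' ⟶ S) [IsProper g] [Surjective g] (h : Z ⟶ S) [IsSeparated h]
  [FormallyUnramified h] [LocallyOfFiniteType h] [ConnectedSpace Z]

/-- A section over `S'` with equal pull-backs to `S' ×_S S'` is the second projection. -/
theorem fst_comp_eq_snd (s : S' ⟶ Z) (hs : s ≫ h = g)
    (heq : pullback.fst g g ≫ s = pullback.snd g g ≫ s) :
    pullback.fst g h ≫ s = pullback.snd g h := by
  let a : pullback g h ⟶ Z := pullback.fst g h ≫ s
  let b : pullback g h ⟶ Z := pullback.snd g h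
  have hab : a ≫ h = b ≫ h := by
    rw [Category.assoc, hs]; exact pullback.condition
  obtain ⟨W, hW, hWiff⟩ := exists_isClopen_eqLocus_iff h a b hab
  have hsat : ∀ q q' : ↥(pullback g h), b.base q = b.base q' → q ∈ W → q' ∈ W := by
    intro q q' hqq hq
    obtain ⟨z, hz1, hz2⟩ := Scheme.Pullback.exists_preimage_pullback (f := b) (g := b) q q' hqq
    let t := (pullback b b).fromSpecResidueField z ≫ pullback.fst b b
    let t' := (pullback b b).fromSpecResidueField z ≫ pullback.snd b b
    have htb : t ≫ b = t' ≫ b := by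
      simp only [t, t', Category.assoc, pullback.condition]
    have hta : t ≫ a = t ≫ b := (hWiff t).1 (by
      rw [range_fromSpecResidueField_comp, Set.singleton_subset_iff, hz1]; exact hq)
    have hcond : (t ≫ pullback.fst g h) ≫ g = (t' ≫ pullback.fst g h) ≫ g := by
      have hb := congrArg (· ≫ h) htb
      simp only [Category.assoc] at hb ⊢
      rw [show pullback.fst g h ≫ g = b ≫ h from pullback.condition, hb]
    have hta' : t ≫ a = t' ≫ a := by
      have h1 := congrArg (pullback.lift _ _ hcond ≫ ·) heq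
      simp only [pullback.lift_fst_assoc, pullback.lift_snd_assoc] at h1
      simpa only [a, Category.assoc] using h1
    have : t' ≫ a = t' ≫ b := hta'.symm.trans (hta.trans htb)
    refine (hWiff t').2 this ?_
    rw [range_fromSpecResidueField_comp, hz2]
    exact rfl
  have hcl : IsClopen (b.base '' W) := by
    refine ⟨b.isClosedMap W hW.1, ?_⟩
    have hcompl : (b.base '' W)ᶜ = b.base '' Wᶜ := by
      ext w
      refine ⟨fun hw => ?_, ?_⟩
      · obtain ⟨q, rfl⟩ := b.surjective w
        exact ⟨q, fun hq => hw ⟨q, hq, rfl⟩, rfl⟩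
      · rintro ⟨q', hq', rfl⟩ ⟨q, hq, hqq⟩
        exact hq' (hsat q q' hqq hq)
    rw [← isClosed_compl_iff, hcompl]
    exact b.isClosedMap _ hW.compl.1
  have hne : (b.base '' W).Nonempty := by
    obtain ⟨z₀⟩ := (inferInstance : Nonempty Z)
    obtain ⟨x, -⟩ := g.surjective (h.base z₀)
    let t : Spec (S'.residueField x) ⟶ pullback g h :=
      pullback.lift (S'.fromSpecResidueField x) (S'.fromSpecResidueField x ≫ s) (by rw [Category.assoc, hs])
    have ht : t ≫ a = t ≫ b := by
      simp only [t, a, b, pullback.lift_fst_assoc, pullback.lift_snd]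
    exact ⟨_, t.base (IsLocalRing.closedPoint _), (hWiff t).2 ht ⟨_, rfl⟩, rfl⟩
  have huniv : W = Set.univ := Set.eq_univ_of_forall fun q' => by
    obtain ⟨q, hq, hqq⟩ := (hcl.eq_univ hne).ge (Set.mem_univ (b.base q'))
    exact hsat q q' hqq hq
  simpa using (hWiff (𝟙 _)).1 (by rw [huniv]; exact Set.subset_univ _)

/-- All geometric points in a fibre of such a cover are equal. -/
theorem subsingleton_points (s : S' ⟶ Z) (hs : s ≫ h = g)
    (heq : pullback.fst g g ≫ s = pullback.snd g g ≫ s) {k : Type u} [Field k]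
    (p p' : Spec (CommRingCat.of k) ⟶ Z) (hpp : p ≫ h = p' ≫ h) : p = p' := by
  let P := pullback g (p ≫ h)
  obtain ⟨x, -⟩ := (pullback.snd g (p ≫ h)).surjective (IsLocalRing.closedPoint k)
  let e : Spec (P.residueField x) ⟶ Spec (CommRingCat.of k) := P.fromSpecResidueField x ≫ pullback.snd _ _
  let y : Spec (P.residueField x) ⟶ S' := P.fromSpecResidueField x ≫ pullback.fst _ _
  have hy : y ≫ g = e ≫ p ≫ h := by
    simp only [y, e, Category.assoc, pullback.condition]
  have key : ∀ r : Spec (CommRingCat.of k) ⟶ Z, r ≫ h = p ≫ h → y ≫ s = e ≫ r := fun r hr => by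
    have h1 := congrArg (pullback.lift y (e ≫ r) (hy.trans (((congrArg (e ≫ ·) hr).symm).trans (Category.assoc _ _ _).symm)) ≫ ·)
      (fst_comp_eq_snd g h s hs heq)
    simpa only [pullback.lift_fst_assoc, pullback.lift_snd] using h1
  obtain ⟨φ, hφ⟩ := Spec.map_surjective e
  haveI : Flat (Spec.map φ) := (HasRingHomProperty.Spec_iff (P := @Flat)).2 <| by
    letI := φ.hom.toAlgebra
    exact RingHom.flat_algebraMap_iff.2 (inferInstance : Module.Flat k (P.residueField x))
  haveI : Surjective (Spec.map φ) := ⟨fun z => ⟨IsLocalRing.closedPoint _, Subsingleton.elim (α := Spec (CommRingCat.of k)) _ _⟩⟩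
  haveI : Epi e := hφ ▸ Flat.epi_of_flat_of_surjective (Spec.map φ)
  rw [← cancel_epi e]
  exact (key p rfl).symm.trans (key p' hpp.symm)

end Groth.Agent.H9PiOne.DescSection
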