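import Groth.Agent.H9PiOne.HenselProper
import Groth.Agent.Pi1Ext.GeomSection
import Groth.Agent.Pi1Ext.GeomDescend
import Groth.Agent.GeomLoci.NearPoint
import Groth.Agent.H0FBC.FieldBC
import Groth.Agent.FBaseLib.Basic
import Groth.Agent.S0239

/-!
# Covers with a section over the geometric closed fibre come from the base
-/

set_option autoImplicit false
set_option linter.style.haveILetI false
set_option linter.unusedSectionVars false
set_option backward.isDefEq.respectTransparency false
set_option backward.isDefEq.respectTransparency.types false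

universe u

open CategoryTheory CategoryTheory.Limits AlgebraicGeometry TopologicalSpace Pi1

noncomputable section

namespace Groth.Agent.H9PiOne

open Groth.Agent

attribute [-instance] CategoryTheory.catToReflQuiver

/-- A scheme over a field which is connected over one separably closed extension is geometrically connected. -/
theorem geometricallyConnected_of_connectedSpace_point {k : Type u} [Field k] {Y : Scheme.{u}}
    (g : Y ⟶ Spec (CommRingCat.of k)) {L : Type u} [Field L] [IsSepClosed L]
    (s : Spec (CommRingCat.of L) ⟶ Spec (CommRingCat.of k)) [ConnectedSpace ↥(pullback g s)] :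
    GeometricallyConnected g := by
  refine GeomLoci.geometricallyConnected_of_nGeom (f := g) fun y => ?_
  have hy : y = s (IsLocalRing.closedPoint L) := @Subsingleton.elim _ (inferInstanceAs (Subsingleton (PrimeSpectrum k))) _ _
  rw [hy, (GeomLoci.nGeom_eq_counts g s _).2]
  exact GeomLoci.card_of_connectedSpace

variable {A : Type u} [CommRing A] [HenselianLocalRing A] {X : Scheme.{u}} (f : X ⟶ Spec (CommRingCat.of A))
  [IsProper f]

local notation "rA" => Spec.map (CommRingCat.ofHom (IsLocalRing.residue A))

/-- Clopen subsets of restricted covers come from the base. -/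
theorem exists_clopen_below [GeometricallyConnected (pullback.snd f rA)] (W : FEt.Cat (Spec (CommRingCat.of A)))
    (C : Set ↥(pullback W.hom f)) (hC : IsClopen C) :
    ∃ G : Set W.left, IsClopen G ∧ (pullback.fst W.hom f).base ⁻¹' G = C := by
  let f₀ := pullback.snd f rA
  haveI : UniversallyOpen f₀ := inferInstance
  haveI : IsFinite W.hom := W.prop.1
  haveI : IsClosedImmersion rA := IsClosedImmersion.spec_of_surjective _ IsLocalRing.residue_surjective
  have lifts : ∀ {Y : Scheme.{u}} (g : Y ⟶ Spec (CommRingCat.of A)) [IsProper g],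
      ∀ V : Set ↥(pullback g rA), IsClopen V → ∃! U : Set Y, IsClopen U ∧ pullback.fst g rA ⁻¹' U = V :=
    fun g _ => (HensCouple7.lifts_range_iff (pullback.fst g rA).isEmbedding).2 (by
      rw [show Set.range (pullback.fst g rA) = g ⁻¹' PrimeSpectrum.zeroLocus (IsLocalRing.maximalIdeal A : Set A) from
        HensCouple7.range_fst_mk (IsLocalRing.maximalIdeal A) g]
      exact Graft.lifts_proper_pair (IsLocalRing.maximalIdeal A) g)
  let W₀ : FEt.Cat (Spec (CommRingCat.of (IsLocalRing.ResidueField A))) := (FEt.restrict rA).obj W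
  let u : pullback (pullback.snd W.hom rA) f₀ ⟶ pullback W.hom f :=
    pullback.lift (pullback.fst _ _ ≫ pullback.fst W.hom rA) (pullback.snd _ _ ≫ pullback.fst f rA) (by
      rw [Category.assoc, Category.assoc, pullback.condition, pullback.condition (f := f),
        ← Category.assoc, pullback.condition, Category.assoc])
  obtain ⟨G₀, hG₀, hG₀C⟩ := Pi1Ext.exists_clopen_preimage f₀ W₀ (u ⁻¹' C) (hC.preimage u.continuous)
  obtain ⟨G, ⟨hG, hGG₀⟩, -⟩ := lifts W.hom G₀ hG₀
  refine ⟨G, hG, ?_⟩
  let gP : pullback W.hom f ⟶ Spec (CommRingCat.of A) := pullback.snd W.hom f ≫ f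
  haveI : IsFinite (pullback.snd W.hom f) := MorphismProperty.pullback_snd (P := @IsFinite) _ _ W.prop.1
  haveI : IsProper gP := inferInstanceAs (IsProper (pullback.snd W.hom f ≫ f))
  let v : pullback gP rA ⟶ pullback (pullback.snd W.hom rA) f₀ :=
    pullback.lift
      (pullback.lift (pullback.fst gP rA ≫ pullback.fst W.hom f) (pullback.snd gP rA) (by
        rw [Category.assoc, pullback.condition]; exact pullback.condition))
      (pullback.lift (pullback.fst gP rA ≫ pullback.snd W.hom f) (pullback.snd gP rA) (by
        rw [Category.assoc]; exact pullback.condition))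
      (by simp [f₀])
  have hv : v ≫ u = pullback.fst gP rA := by
    refine pullback.hom_ext ?_ ?_
    · simp [v, u]
    · simp [v, u]
  have h1 : pullback.fst gP rA ⁻¹' ((pullback.fst W.hom f).base ⁻¹' G) = pullback.fst gP rA ⁻¹' C := by
    rw [← hv, Scheme.Hom.comp_base, TopCat.coe_comp, Set.preimage_comp, Set.preimage_comp]
    congr 1
    rw [← hG₀C, ← hGG₀, ← Set.preimage_comp, ← Set.preimage_comp]
    have hu : u ≫ pullback.fst W.hom f = pullback.fst _ f₀ ≫ pullback.fst W.hom rA := pullback.lift_fst _ _ _
    ext y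
    show (u ≫ pullback.fst W.hom f) y ∈ G ↔ (pullback.fst _ f₀ ≫ pullback.fst W.hom rA) y ∈ G
    rw [hu]
  exact (lifts gP _ (hC.preimage (pullback.fst gP rA).continuous)).unique
    ⟨hG.preimage (pullback.fst W.hom f).continuous, h1⟩ ⟨hC, rfl⟩

/-- A connected cover with a section over the geometric closed fibre comes from the base. -/
theorem exists_iso_restrict_of_section (K : Type u) [Field K] [IsAlgClosed K]
    [Algebra (IsLocalRing.ResidueField A) K] [Algebra.IsAlgebraic (IsLocalRing.ResidueField A) K]
    [ConnectedSpace ↥(Pi1Ext.Geom.bcs (pullback.snd f rA) K)] (X' : FEt.Cat X) [ConnectedSpace X'.left]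
    (σ : Pi1Ext.Geom.bcs (pullback.snd f rA) K ⟶ X'.left)
    (hσ : σ ≫ X'.hom = pullback.fst (pullback.snd f rA) _ ≫ pullback.fst f rA) :
    ∃ T : FEt.Cat (Spec (CommRingCat.of A)), Nonempty ((FEt.restrict f).obj T ≅ X') := by
  let f₀ := pullback.snd f rA
  haveI : IsSepClosed K := inferInstance
  haveI : GeometricallyConnected f₀ :=
    geometricallyConnected_of_connectedSpace_point f₀
      (Spec.map (CommRingCat.ofHom (algebraMap (IsLocalRing.ResidueField A) K)))
  haveI : IsProper f₀ := MorphismProperty.pullback_snd (P := @IsProper) _ _ ‹_›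
  haveI : CompactSpace ↥(pullback f rA) := QuasiCompact.compactSpace_of_compactSpace f₀
  haveI : QuasiSeparatedSpace ↥(pullback f rA) := quasiSeparatedSpace_of_quasiSeparated f₀
  haveI : Etale X'.hom := X'.prop.2
  let X₀ : FEt.Cat (pullback f rA) := (FEt.restrict (pullback.fst f rA)).obj X'
  let s : Pi1Ext.Geom.bcs f₀ K ⟶ pullback X'.hom (pullback.fst f rA) := pullback.lift σ (pullback.fst f₀ _) hσ
  haveI : Etale (pullback.snd X'.hom (pullback.fst f rA)) := X₀.prop.2
  obtain ⟨E, _, _, _, _, -, s', hs', -⟩ :=
    Pi1Ext.Geom.exists_separable_section f₀ K (pullback.snd X'.hom (pullback.fst f rA)) s (pullback.lift_snd _ _ _)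
  let T₀ : FEt.Cat (Spec (CommRingCat.of (IsLocalRing.ResidueField A))) :=
    MorphismProperty.Over.mk ⊤ _ (Pi1Ext.Geom.fet_SpecMap (k := IsLocalRing.ResidueField A) E)
  haveI : (FEt.restrict rA).IsEquivalence := Groth.Agent.S0239.result A (IsLocalRing.maximalIdeal A)
  let T := (FEt.restrict rA).objPreimage T₀
  let eT : (FEt.restrict rA).obj T ≅ T₀ := (FEt.restrict rA).objObjPreimageIso T₀
  let t : (FEt.restrict f₀).obj T₀ ⟶ X₀ :=
    MorphismProperty.Over.homMk ((pullbackSymmetry _ _).hom ≫ s') (by
      show ((pullbackSymmetry _ _).hom ≫ s') ≫ pullback.snd X'.hom _ = pullback.snd _ f₀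
      rw [Category.assoc, hs', pullbackSymmetry_hom_comp_fst])
  haveI : (FEt.restrict (pullback.fst f rA)).IsEquivalence :=
    restrict_inc_isEquivalence (IsLocalRing.maximalIdeal A) f
  let e : (FEt.restrict f).obj T ⟶ X' := (FEt.restrict (pullback.fst f rA)).preimage
    ((Pi1Ext.Spread.restrictSquare _ f f₀ rA pullback.condition T).hom ≫ (FEt.restrict f₀).map eT.hom ≫ t)
  haveI : Surjective e.left := by
    have hp : FEt.prop e.left := Pi1X.prop_left e
    obtain ⟨z⟩ : Nonempty ↥(pullback f₀ (Spec.map (CommRingCat.ofHom (algebraMap (IsLocalRing.ResidueField A) E)))) := by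
      obtain ⟨w, -⟩ := (pullback.snd f₀ (Spec.map (CommRingCat.ofHom (algebraMap _ E)))).surjective
        (IsLocalRing.closedPoint E)
      exact ⟨w⟩
    let z' : ((FEt.restrict (pullback.fst f rA)).obj ((FEt.restrict f).obj T)).left :=
      ((Pi1Ext.Spread.restrictSquare _ f f₀ rA pullback.condition T).inv.left)
        (((FEt.restrict f₀).map eT.inv).left ((pullbackSymmetry (Spec.map (CommRingCat.ofHom (algebraMap (IsLocalRing.ResidueField A) E))) f₀).inv z))
    exact ⟨Set.range_eq_univ.1 ((Pi1X.isClopen_range hp).eq_univ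
      ⟨_, pullback.fst ((FEt.restrict f).obj T).hom (pullback.fst f rA) z', rfl⟩)⟩
  exact Pi1Ext.exists_iso_of_surjective f (exists_clopen_below f) T e

end Groth.Agent.H9PiOne

end
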