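import Groth.Agent.H9PiOne.HenselNoeth
import Groth.Agent.Hensel.Colim
import Groth.Agent.LimSm.HomIso

/-!
# Finite étale covers under affine base change and limits of it
-/

set_option autoImplicit false
set_option linter.style.haveILetI false
set_option linter.unusedSectionVars false
set_option backward.isDefEq.respectTransparency false
set_option backward.isDefEq.respectTransparency.types false

universe u

open CategoryTheory CategoryTheory.Limits AlgebraicGeometry Opposite

noncomputable section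

namespace Groth.Agent.H9PiOne

open Groth.Agent Groth.Agent.MorLib

attribute [-instance] CategoryTheory.catToReflQuiver

variable {B : Type u} [CommRing B] {X : Scheme.{u}} (f : X ⟶ Spec (CommRingCat.of B))

/-- The base change to an algebra. -/
abbrev bcA (R : Type u) [CommRing R] [Algebra B R] : Scheme.{u} :=
  pullback f (Spec.map (CommRingCat.ofHom (algebraMap B R)))

/-- The projection. -/
abbrev bcA.fst (R : Type u) [CommRing R] [Algebra B R] : bcA f R ⟶ X :=
  pullback.fst f (Spec.map (CommRingCat.ofHom (algebraMap B R)))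

/-- The structure map. -/
abbrev bcA.snd (R : Type u) [CommRing R] [Algebra B R] : bcA f R ⟶ Spec (CommRingCat.of R) :=
  pullback.snd f (Spec.map (CommRingCat.ofHom (algebraMap B R)))

variable {R R' : Type u} [CommRing R] [Algebra B R] [CommRing R'] [Algebra B R']

/-- The map of base changes of a map of algebras. -/
def bcMap (φ : R →ₐ[B] R') : bcA f R' ⟶ bcA f R :=
  pullback.lift (bcA.fst f R') (bcA.snd f R' ≫ Spec.map (CommRingCat.ofHom φ.toRingHom)) (by
    rw [Category.assoc, ← Spec.map_comp, ← CommRingCat.ofHom_comp]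
    erw [φ.comp_algebraMap]
    exact pullback.condition)

@[reassoc (attr := simp)]
theorem bcMap_fst (φ : R →ₐ[B] R') : bcMap f φ ≫ bcA.fst f R = bcA.fst f R' := pullback.lift_fst _ _ _

@[reassoc (attr := simp)]
theorem bcMap_snd (φ : R →ₐ[B] R') :
    bcMap f φ ≫ bcA.snd f R = bcA.snd f R' ≫ Spec.map (CommRingCat.ofHom φ.toRingHom) :=
  pullback.lift_snd _ _ _

theorem isPullback_bcMap (φ : R →ₐ[B] R') :
    IsPullback (bcMap f φ) (bcA.snd f R') (bcA.snd f R) (Spec.map (CommRingCat.ofHom φ.toRingHom)) := by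
  refine IsPullback.of_right ?_ (bcMap_snd f φ) (IsPullback.of_hasPullback _ _)
  rw [bcMap_fst, ← Spec.map_comp, ← CommRingCat.ofHom_comp]
  erw [φ.comp_algebraMap]
  exact IsPullback.of_hasPullback _ _

open AdjoinLim in
/-- A cover over an algebra comes from a finitely generated subalgebra. -/
theorem exists_fet_adjoin (Λ : Type u) [CommRing Λ] [Algebra B Λ] [QuasiCompact f] [QuasiSeparated f]
    (V : FEt.Cat (bcA f Λ)) :
    ∃ (s : Finset Λ) (W : FEt.Cat (bcA f (Algebra.adjoin B (s : Set Λ)))),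
      Nonempty ((FEt.restrict (bcMap f (Algebra.adjoin B (s : Set Λ)).val)).obj W ≅ V) := by
  classical
  let D := diagram B Λ
  let alg : ∀ i : (Finset Λ)ᵒᵖ, D.obj i ⟶ Spec (CommRingCat.of B) := fun i =>
    Spec.map (CommRingCat.ofHom (algebraMap B (Algebra.adjoin B ((i.unop : Finset Λ) : Set Λ))))
  let i₀ : (Finset Λ)ᵒᵖ := op ∅
  let xi : bcA f (Algebra.adjoin B ((i₀.unop : Finset Λ) : Set Λ)) ⟶ D.obj i₀ := bcA.snd f _
  have hX := isPullback_bcMap f (Algebra.adjoin B ((i₀.unop : Finset Λ) : Set Λ)).val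
  haveI : CompactSpace X := QuasiCompact.compactSpace_of_compactSpace f
  haveI : QuasiSeparatedSpace X := quasiSeparatedSpace_of_quasiSeparated f
  haveI : CompactSpace ↥(bcA f (Algebra.adjoin B ((i₀.unop : Finset Λ) : Set Λ))) :=
    QuasiCompact.compactSpace_of_compactSpace xi
  haveI : QuasiSeparatedSpace ↥(bcA f (Algebra.adjoin B ((i₀.unop : Finset Λ) : Set Λ))) :=
    quasiSeparatedSpace_of_quasiSeparated xi
  haveI : ∀ n : Over i₀, CompactSpace ((BC.diag D xi).obj n) := fun n => BC.compactSpace_obj _ xi n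
  haveI : ∀ n : Over i₀, QuasiSeparatedSpace ((BC.diag D xi).obj n) :=
    fun n => BC.quasiSeparatedSpace_obj _ xi n
  obtain ⟨n, Wn, ⟨en⟩⟩ := exists_fet_stage (BC.isLimitCone D xi (c := cone B Λ) hX (isLimit B Λ)) V
  refine ⟨n.left.unop, ?_⟩
  let R := Algebra.adjoin B ((n.left.unop : Finset Λ) : Set Λ)
  let incl : Algebra.adjoin B ((i₀.unop : Finset Λ) : Set Λ) →ₐ[B] R :=
    Subalgebra.inclusion (Algebra.adjoin_mono (Finset.coe_subset.2 (leOfHom n.hom.unop)))
  let b : bcA f R ⟶ (BC.diag D xi).obj n :=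
    pullback.lift (bcMap f incl) (bcA.snd f R) (bcMap_snd f incl)
  have hb : bcMap f R.val ≫ b = BC.proj D xi (c := cone B Λ) hX n := by
    apply pullback.hom_ext
    · rw [Category.assoc, pullback.lift_fst, BC.proj_fst]
      apply pullback.hom_ext
      · simp
      · simp only [Category.assoc, bcMap_snd, bcMap_snd_assoc]
        rw [← Spec.map_comp]
        rfl
    · rw [Category.assoc, pullback.lift_snd, BC.proj_snd, bcMap_snd]
      rfl
  exact ⟨(FEt.restrict b).obj Wn, ⟨(Pi1Ext.Spread.restrictComp _ b _ hb.symm Wn).symm ≪≫ en⟩⟩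

/-- Covers isomorphic on a closed part with fully faithful restriction are isomorphic. -/
theorem nonempty_iso_of_closed {A Q : Type u} [CommRing A] [CommRing Q] {I : Ideal A} {Y : Scheme.{u}}
    {g : Y ⟶ Spec (CommRingCat.of A)}
    (hfull : (FEt.restrict (inc I g)).Full) (hfaith : (FEt.restrict (inc I g)).Faithful)
    (π : A →+* Q) (hπ : Function.Surjective π) (hker : RingHom.ker π = I) {P : Scheme.{u}} {p : P ⟶ Y}
    {q : P ⟶ Spec (CommRingCat.of Q)} (sq : IsPullback p q g (Spec.map (CommRingCat.ofHom π)))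
    {U₁ U₂ : FEt.Cat Y} (e : (FEt.restrict p).obj U₁ ≅ (FEt.restrict p).obj U₂) : Nonempty (U₁ ≅ U₂) := by
  subst hker
  let φ := RingHom.quotientKerEquivOfSurjective hπ
  have hφ : φ.toRingHom.comp (Ideal.Quotient.mk (RingHom.ker π)) = π := by
    ext a
    simp [φ]
  have sq' : IsPullback p (q ≫ Spec.map (CommRingCat.ofHom φ.toRingHom)) g
      (Spec.map (CommRingCat.ofHom (Ideal.Quotient.mk (RingHom.ker π)))) :=
    sq.of_iso (Iso.refl _) (Iso.refl _) (Scheme.Spec.mapIso φ.toCommRingCatIso.op) (Iso.refl _)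
      (by simp) (by simp) (by simp) (by
        simp only [Iso.refl_hom, Category.comp_id]
        show Spec.map (CommRingCat.ofHom π) = Spec.map φ.toCommRingCatIso.hom ≫ _
        rw [← Spec.map_comp]
        exact congrArg (fun k => Spec.map (CommRingCat.ofHom k)) hφ.symm)
  let T := fun U : FEt.Cat Y => Pi1Ext.Spread.restrictComp sq'.isoPullback.inv p
    (inc (RingHom.ker π) g) sq'.isoPullback_inv_fst.symm U
  exact ⟨(FEt.restrict (inc (RingHom.ker π) g)).preimageIso
    (T U₁ ≪≫ (FEt.restrict sq'.isoPullback.inv).mapIso e ≪≫ (T U₂).symm)⟩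

end Groth.Agent.H9PiOne

namespace Groth.Agent.H9PiOne.HenzLim

open Groth.Agent Groth.Agent.MorLib Groth.Agent.Hensel

attribute [-instance] CategoryTheory.catToReflQuiver

variable (R K : Type u) [CommRing R] [CommRing K] [Algebra R K]

/-- The étale algebras of the neighbourhoods. -/
def rings : NbhdCat R K ⥤ CommRingCat.{u} := nbhdDiagram R K ⋙ Under.forget _

/-- Their maps to the henselization. -/
def cocone : Cocone (rings R K) := (Under.forget _).mapCocone (nbhdCocone R K)

/-- The henselization is their colimit. -/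
def isColimit : IsColimit (cocone R K) := by
  haveI : IsConnected (NbhdCat R K) := IsFiltered.isConnected _
  exact isColimitOfPreserves (Under.forget _) (isColimitNbhdCocone R K)

/-- The spectra. -/
def diagram : (NbhdCat R K)ᵒᵖ ⥤ Scheme.{u} := (rings R K).op ⋙ Scheme.Spec

/-- The cone. -/
def cone : Cone (diagram R K) := Scheme.Spec.mapCone (cocone R K).op

/-- It is a limit. -/
def isLimit : IsLimit (cone R K) := isLimitOfPreserves Scheme.Spec (isColimit R K).op

instance isAffine_obj (i : (NbhdCat R K)ᵒᵖ) : IsAffine ((diagram R K).obj i) :=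
  isAffine_Spec (CommRingCat.of i.unop.N.B)

instance isAffineHom_map {i j : (NbhdCat R K)ᵒᵖ} (φ : i ⟶ j) : IsAffineHom ((diagram R K).map φ) :=
  isAffineHom_of_isAffine _

end Groth.Agent.H9PiOne.HenzLim

namespace Groth.Agent.H9PiOne

open Groth.Agent Groth.Agent.MorLib Groth.Agent.Hensel

attribute [-instance] CategoryTheory.catToReflQuiver

/-- Covers isomorphic over the henselization are isomorphic at every point of some étale neighbourhood. -/
theorem exists_nbhd_iso {R K : Type u} [CommRing R] [CommRing K] [Algebra R K] {Y : Scheme.{u}}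
    (g : Y ⟶ Spec (CommRingCat.of R)) [QuasiCompact g] [QuasiSeparated g] (U₁ U₂ : FEt.Cat Y)
    (e : (FEt.restrict (bcA.fst g (Henz R K))).obj U₁ ≅ (FEt.restrict (bcA.fst g (Henz R K))).obj U₂) :
    ∃ N : Nbhd R K, ∀ (Λ : Type u) [CommRing Λ] [Algebra R Λ] (_ : N.B →ₐ[R] Λ),
      Nonempty ((FEt.restrict (bcA.fst g Λ)).obj U₁ ≅ (FEt.restrict (bcA.fst g Λ)).obj U₂) := by
  classical
  let D := HenzLim.diagram R K
  obtain ⟨i₀⟩ := IsCofiltered.nonempty (C := (NbhdCat R K)ᵒᵖ)
  let xi : bcA g i₀.unop.N.B ⟶ D.obj i₀ := bcA.snd g _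
  have hX := isPullback_bcMap g (Henz.ofB i₀.unop.N)
  haveI : CompactSpace Y := QuasiCompact.compactSpace_of_compactSpace g
  haveI : QuasiSeparatedSpace Y := quasiSeparatedSpace_of_quasiSeparated g
  haveI : CompactSpace ↥(bcA g i₀.unop.N.B) := QuasiCompact.compactSpace_of_compactSpace xi
  haveI : QuasiSeparatedSpace ↥(bcA g i₀.unop.N.B) := quasiSeparatedSpace_of_quasiSeparated xi
  haveI : ∀ n : Over i₀, CompactSpace ((BC.diag D xi).obj n) := fun n => BC.compactSpace_obj _ xi n
  haveI : ∀ n : Over i₀, QuasiSeparatedSpace ((BC.diag D xi).obj n) :=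
    fun n => BC.quasiSeparatedSpace_obj _ xi n
  let T : Over i₀ := Over.mk (𝟙 i₀)
  let t : (BC.diag D xi).obj T ⟶ Y := pullback.fst xi (D.map T.hom) ≫ bcA.fst g _
  let c' := BC.cone D xi (c := HenzLim.cone R K) hX
  have hc' : IsLimit c' := BC.isLimitCone D xi (c := HenzLim.cone R K) hX (HenzLim.isLimit R K)
  have ht : c'.π.app T ≫ t = bcA.fst g (Henz R K) := by
    show BC.proj D xi (c := HenzLim.cone R K) hX T ≫ pullback.fst xi (D.map T.hom) ≫ bcA.fst g _ = _
    rw [BC.proj_fst_assoc, bcMap_fst]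
  let A₁ := (FEt.restrict t).obj U₁
  let A₂ := (FEt.restrict t).obj U₂
  let eT : (FEt.restrict (c'.π.app T)).obj A₁ ≅ (FEt.restrict (c'.π.app T)).obj A₂ :=
    (Pi1Ext.Spread.restrictComp _ t _ ht.symm U₁).symm ≪≫ e ≪≫ Pi1Ext.Spread.restrictComp _ t _ ht.symm U₂
  let a₁ : A₁.left ⟶ (BC.diag D xi).obj T := A₁.hom
  let a₂ : A₂.left ⟶ (BC.diag D xi).obj T := A₂.hom
  haveI : IsFinite a₁ := A₁.prop.1
  haveI : Etale a₁ := A₁.prop.2
  haveI : IsFinite a₂ := A₂.prop.1
  haveI : Etale a₂ := A₂.prop.2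
  obtain ⟨j, φ, el, hel⟩ := Groth.Agent.LimSm.exists_iso_stage (BC.diag D xi) c' hc' T a₁ a₂ _ _ _ _
    (IsPullback.of_hasPullback a₁ (c'.π.app T)) (IsPullback.of_hasPullback a₂ (c'.π.app T))
    (Pi1Ext.Spread.leftIso eT) (Pi1Ext.Spread.leftIso_w eT)
  let eS : (FEt.restrict ((BC.diag D xi).map φ)).obj A₁ ≅ (FEt.restrict ((BC.diag D xi).map φ)).obj A₂ :=
    MorphismProperty.Over.isoMk el hel
  refine ⟨j.left.unop.N, fun Λ _ _ θ => ⟨?_⟩⟩
  let α : i₀.unop.N.B →ₐ[R] j.left.unop.N.B := j.hom.unop.1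
  let b : bcA g Λ ⟶ (BC.diag D xi).obj j :=
    pullback.lift (bcMap g (θ.comp α)) (bcA.snd g Λ ≫ Spec.map (CommRingCat.ofHom θ.toRingHom)) (by
      rw [Category.assoc]
      exact (bcMap_snd g (θ.comp α)).trans (congrArg (bcA.snd g Λ ≫ ·)
        ((congrArg Spec.map (CommRingCat.ofHom_comp _ _)).trans (Spec.map_comp _ _))))
  have hb : (b ≫ (BC.diag D xi).map φ) ≫ t = bcA.fst g Λ := by
    simp only [t, Category.assoc]
    rw [reassoc_of% (BC.map_fst D xi φ)]
    simp [b]
  let r := fun U : FEt.Cat Y => Pi1Ext.Spread.restrictComp _ t _ hb.symm U ≪≫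
    Pi1Ext.Spread.restrictComp b ((BC.diag D xi).map φ) _ rfl ((FEt.restrict t).obj U)
  exact r U₁ ≪≫ (FEt.restrict b).mapIso eS ≪≫ (r U₂).symm

end Groth.Agent.H9PiOne

end
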