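import Groth.Agent.ConsPropLib.Approx
import Groth.Agent.MorLib.DescendCI
import Groth.Agent.LimSm.Descend
import Groth.Agent.Pi1Ext.Spread

/-!
# Finite étale covers of a limit come from a stage; lifting covers along closed parts
-/

set_option autoImplicit false
set_option linter.style.haveILetI false
set_option backward.isDefEq.respectTransparency false
set_option backward.isDefEq.respectTransparency.types false

universe u

open CategoryTheory CategoryTheory.Limits AlgebraicGeometry

noncomputable section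

namespace Groth.Agent.H9PiOne

open Groth.Agent Groth.Agent.MorLib

attribute [-instance] CategoryTheory.catToReflQuiver

/-- Finite étale covers of the limit come from a stage. -/
theorem exists_fet_stage {I : Type u} [SmallCategory I] [IsCofiltered I] {D : I ⥤ Scheme.{u}} {c : Cone D}
    (hc : IsLimit c) [∀ {i j : I} (φ : i ⟶ j), IsAffineHom (D.map φ)] [∀ i, CompactSpace (D.obj i)]
    [∀ i, QuasiSeparatedSpace (D.obj i)] (V : FEt.Cat c.pt) :
    ∃ (i : I) (W : FEt.Cat (D.obj i)), Nonempty ((FEt.restrict (c.π.app i)).obj W ≅ V) := by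
  haveI : IsFinite V.hom := V.prop.1
  haveI : Etale V.hom := V.prop.2
  obtain ⟨i, Xi, fi, g, hX⟩ := ConsPropLib.hasModel hc V.hom
  haveI := hX.lfp; haveI := hX.qc; haveI := hX.qs
  haveI := hX.compactSpace; haveI := hX.quasiSeparatedSpace
  obtain ⟨j₁, φ₁, h₁⟩ := Desc.descend D c hc i (P := @IsFinite) (Q := @LocallyOfFiniteType)
    Desc.core_isFinite fi inferInstance
    (Desc.of_two @IsFinite hX.sq (IsPullback.of_hasPullback fi (c.π.app i)) inferInstance)
  obtain ⟨j₂, φ₂, h₂⟩ := Desc.descend D c hc i (P := @Etale) (Q := @LocallyOfFinitePresentation)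
    LimSm.core_etale fi inferInstance
    (Desc.of_two @Etale hX.sq (IsPullback.of_hasPullback fi (c.π.app i)) inferInstance)
  obtain ⟨j, a, b, hab⟩ := IsCofiltered.cospan φ₁ φ₂
  have hf : IsFinite (pullback.snd fi (D.map (a ≫ φ₁))) :=
    Desc.of_factor @IsFinite h₁ (a := D.map a) (D.map_comp a φ₁).symm (IsPullback.of_hasPullback _ _)
  have he : Etale (pullback.snd fi (D.map (a ≫ φ₁))) :=
    Desc.of_factor @Etale h₂ (a := D.map b) (by rw [← D.map_comp, hab]) (IsPullback.of_hasPullback _ _)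
  refine ⟨j, MorphismProperty.Over.mk ⊤ (pullback.snd fi (D.map (a ≫ φ₁))) ⟨hf, he⟩, ⟨?_⟩⟩
  have hsq := (hX.pushed (a ≫ φ₁)).sq
  exact MorphismProperty.Over.isoMk hsq.isoPullback.symm hsq.isoPullback_inv_snd

/-- Every finite étale cover of the source is, up to isomorphism, restricted from the target. -/
def LiftsFEt {P X : Scheme.{u}} (p : P ⟶ X) : Prop :=
  ∀ V : FEt.Cat P, ∃ W : FEt.Cat X, Nonempty ((FEt.restrict p).obj W ≅ V)

theorem liftsFEt_of_essSurj {P X : Scheme.{u}} (p : P ⟶ X) [(FEt.restrict p).EssSurj] : LiftsFEt p :=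
  fun V => ⟨(FEt.restrict p).objPreimage V, ⟨(FEt.restrict p).objObjPreimageIso V⟩⟩

theorem LiftsFEt.essSurj {P X : Scheme.{u}} {p : P ⟶ X} (h : LiftsFEt p) : (FEt.restrict p).EssSurj :=
  ⟨fun V => ⟨_, (h V).choose_spec⟩⟩

/-- Lifting only depends on the morphism up to isomorphism of the source. -/
theorem LiftsFEt.of_iso {P P' X : Scheme.{u}} {p : P ⟶ X} {p' : P' ⟶ X} (h : LiftsFEt p) (e : P' ≅ P)
    (he : e.hom ≫ p = p') : LiftsFEt p' := fun V => by
  obtain ⟨W, ⟨i⟩⟩ := h ((FEt.restrict e.inv).obj V)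
  exact ⟨W, ⟨Pi1Ext.Spread.restrictComp e.hom p p' he.symm W ≪≫ (FEt.restrict e.hom).mapIso i ≪≫
    (Pi1Ext.Spread.restrictComp e.hom e.inv (𝟙 P') e.hom_inv_id.symm V).symm ≪≫ Pi1Ext.Spread.restrictId V⟩⟩

/-- A cover restricted from a lift through a commutative square lifts. -/
theorem exists_lift_of_square {P P' X X' : Scheme.{u}} {p : P ⟶ X} {p' : P' ⟶ X'} (a : P ⟶ P') (b : X ⟶ X')
    (w : p ≫ b = a ≫ p') (h : LiftsFEt p') {V : FEt.Cat P} (V' : FEt.Cat P')
    (eV : (FEt.restrict a).obj V' ≅ V) : ∃ W : FEt.Cat X, Nonempty ((FEt.restrict p).obj W ≅ V) := by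
  obtain ⟨W', ⟨i⟩⟩ := h V'
  exact ⟨(FEt.restrict b).obj W', ⟨Pi1Ext.Spread.restrictSquare p b a p' w W' ≪≫ (FEt.restrict a).mapIso i ≪≫ eV⟩⟩

/-- Lifting from the standard closed part to any closed part cut out by the same ideal. -/
theorem LiftsFEt.of_isPullback {A Q : Type u} [CommRing A] [CommRing Q] {I : Ideal A} {X : Scheme.{u}}
    {f : X ⟶ Spec (CommRingCat.of A)}
    (h : LiftsFEt (pullback.fst f (Spec.map (CommRingCat.ofHom (Ideal.Quotient.mk I)))))
    (π : A →+* Q) (hπ : Function.Surjective π) (hker : RingHom.ker π = I) {P : Scheme.{u}} {p : P ⟶ X}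
    {q : P ⟶ Spec (CommRingCat.of Q)} (sq : IsPullback p q f (Spec.map (CommRingCat.ofHom π))) :
    LiftsFEt p := by
  subst hker
  let φ := RingHom.quotientKerEquivOfSurjective hπ
  have hφ : φ.toRingHom.comp (Ideal.Quotient.mk (RingHom.ker π)) = π := by
    ext a
    simp [φ]
  have sq' : IsPullback p (q ≫ Spec.map (CommRingCat.ofHom φ.toRingHom)) f
      (Spec.map (CommRingCat.ofHom (Ideal.Quotient.mk (RingHom.ker π)))) :=
    sq.of_iso (Iso.refl _) (Iso.refl _) (Scheme.Spec.mapIso φ.toCommRingCatIso.op) (Iso.refl _)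
      (by simp) (by simp) (by simp) (by
        simp only [Iso.refl_hom, Category.comp_id]
        show Spec.map (CommRingCat.ofHom π) = Spec.map φ.toCommRingCatIso.hom ≫ _
        rw [← Spec.map_comp]
        exact congrArg (fun k => Spec.map (CommRingCat.ofHom k)) hφ.symm)
  exact h.of_iso sq'.isoPullback sq'.isoPullback_hom_fst

end Groth.Agent.H9PiOne

end
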