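import Groth.Agent.H9PiOne.SepClosedBC
import Mathlib.RingTheory.Spectrum.Prime.Chevalley

/-!
# Families of finite étale covers of a proper scheme are locally constant
-/

set_option autoImplicit false
set_option linter.style.haveILetI false
set_option linter.unusedSectionVars false
set_option backward.isDefEq.respectTransparency false
set_option backward.isDefEq.respectTransparency.types false

universe u

open CategoryTheory CategoryTheory.Limits AlgebraicGeometry
open scoped TensorProduct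

noncomputable section

namespace Groth.Agent.H9PiOne

open Groth.Agent

attribute [-instance] CategoryTheory.catToReflQuiver

/-- The henselization at a prime maps onto separable extensions of the residue field. -/
theorem henz_proj_surjective {R : Type u} [CommRing R] (p : Ideal R) [p.IsPrime] (L : Type u) [Field L]
    [Algebra p.ResidueField L] [Algebra R L] [IsScalarTower R p.ResidueField L]
    [Algebra.IsSeparable p.ResidueField L] : Function.Surjective (Hensel.Henz.proj R L) := by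
  let pr := Hensel.Henz.proj R L
  have hsub : ∀ c : p.ResidueField, ∃ h, pr h = algebraMap p.ResidueField L c := fun c => by
    obtain ⟨r, s, hs, rfl⟩ := IsFractionRing.div_surjective (R ⧸ p) c
    obtain ⟨r, rfl⟩ := Ideal.Quotient.mk_surjective r
    obtain ⟨s, rfl⟩ := Ideal.Quotient.mk_surjective s
    have hs0 : algebraMap R L s ≠ 0 := by
      rw [IsScalarTower.algebraMap_apply R p.ResidueField L, map_ne_zero,
        IsScalarTower.algebraMap_apply R (R ⧸ p) p.ResidueField]
      exact IsFractionRing.to_map_ne_zero_of_mem_nonZeroDivisors hs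
    obtain ⟨w, hw⟩ : IsUnit (algebraMap R (Hensel.Henz R L) s) :=
      Hensel.Henz.isUnit_iff.2 (by rw [AlgHom.commutes]; exact isUnit_iff_ne_zero.2 hs0)
    refine ⟨algebraMap R _ r * ↑w⁻¹, ?_⟩
    have h1 : pr ↑w⁻¹ * algebraMap R L s = 1 := by
      rw [← pr.commutes s, ← map_mul, ← hw, Units.inv_mul, map_one]
    rw [map_mul, AlgHom.commutes, map_div₀]
    have key : ∀ t : R, algebraMap p.ResidueField L (algebraMap (R ⧸ p) p.ResidueField (Ideal.Quotient.mk p t)) =
        algebraMap R L t := fun t => by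
      rw [IsScalarTower.algebraMap_apply R p.ResidueField L, IsScalarTower.algebraMap_apply R (R ⧸ p) p.ResidueField]
      rfl
    rw [key, key, eq_div_iff hs0, mul_assoc]
    exact (congrArg (algebraMap R L r * ·) h1).trans (mul_one _)
  intro a
  let q := minpoly p.ResidueField a
  have hint : IsIntegral p.ResidueField a := Algebra.IsIntegral.isIntegral a
  have hlift : q.map (algebraMap p.ResidueField L) ∈ Polynomial.lifts pr.toRingHom :=
    (Polynomial.lifts_iff_coeff_lifts _).2 fun i => by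
      obtain ⟨h, hh⟩ := hsub (q.coeff i)
      exact ⟨h, hh.trans (Polynomial.coeff_map _ _).symm⟩
  obtain ⟨F, hF, -, hFm⟩ := Polynomial.lifts_and_natDegree_eq_and_monic hlift
    ((minpoly.monic hint).map _)
  obtain ⟨z, -, hz⟩ := Hensel.Henz.exists_root_proj F hFm a
    (by
      show F.eval₂ pr.toRingHom a = 0
      rw [← Polynomial.eval_map, hF, Polynomial.eval_map]
      exact minpoly.aeval _ _) (by
      show IsUnit (F.derivative.eval₂ pr.toRingHom a)
      rw [← Polynomial.eval_map, ← Polynomial.derivative_map, hF, Polynomial.derivative_map,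
        Polynomial.eval_map]
      exact isUnit_iff_ne_zero.2
        ((Algebra.IsSeparable.isSeparable _ a).aeval_derivative_ne_zero (minpoly.aeval _ _)))
  exact ⟨z, hz⟩

/-- An étale algebra has a point over every separably closed point in its image. -/
theorem exists_point_over {R K B : Type u} [CommRing R] [Field K] [IsSepClosed K] [Algebra R K]
    [CommRing B] [Algebra R B] [Algebra.Etale R B] (q : PrimeSpectrum B)
    (hq : q.asIdeal.comap (algebraMap R B) = RingHom.ker (algebraMap R K)) : Nonempty (B →ₐ[R] K) := by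
  let P := RingHom.ker (algebraMap R K)
  haveI : P.IsPrime := RingHom.ker_isPrime _
  haveI : Nontrivial (K ⊗[R] B) := by
    let sK : Spec (CommRingCat.of K) ⟶ Spec (CommRingCat.of R) := Spec.map (CommRingCat.ofHom (algebraMap R K))
    let sB : Spec (CommRingCat.of B) ⟶ Spec (CommRingCat.of R) := Spec.map (CommRingCat.ofHom (algebraMap R B))
    obtain ⟨z, -, -⟩ := Scheme.Pullback.exists_preimage_pullback (f := sK) (g := sB)
      (IsLocalRing.closedPoint K) q (PrimeSpectrum.ext (by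
        show (IsLocalRing.maximalIdeal K).comap (algebraMap R K) = q.asIdeal.comap (algebraMap R B)
        rw [hq, IsLocalRing.maximalIdeal_eq_bot]; rfl))
    exact PrimeSpectrum.nonempty_iff_nontrivial.1 ⟨(pullbackSpecIso R K B).hom z⟩
  obtain ⟨ι, _, L, _, _, e, hL⟩ := (Algebra.Etale.iff_exists_algEquiv_prod K (K ⊗[R] B)).1 inferInstance
  obtain ⟨i⟩ : Nonempty ι := by
    by_contra h
    rw [not_nonempty_iff] at h
    exact not_subsingleton (K ⊗[R] B) e.toEquiv.subsingleton
  haveI := (hL i).2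
  let toK : L i →ₐ[K] K := IsSepClosed.lift
  exact ⟨((toK.comp ((Pi.evalAlgHom K L i).comp e.toAlgHom)).restrictScalars R).comp
    Algebra.TensorProduct.includeRight⟩

variable {k : Type u} [Field k] [IsSepClosed k] {X : Scheme.{u}} (pX : X ⟶ Spec (CommRingCat.of k))
  [IsProper pX]

/-- An étale neighbourhood of a prime of the parameter ring on which a family of covers is constant. -/
theorem exists_etale_const (R : Type u) [CommRing R] [Algebra k R] (W : FEt.Cat (bcA pX R))
    (p : PrimeSpectrum R) :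
    ∃ (B : Type u) (_ : CommRing B) (_ : Algebra R B) (V₀ : FEt.Cat X), Algebra.Etale R B ∧
      p ∈ Set.range (PrimeSpectrum.comap (algebraMap R B)) ∧
      ∀ (Λ : Type u) [CommRing Λ] [Algebra R Λ] (_ : B →ₐ[R] Λ),
        Nonempty ((FEt.restrict (bcA.fst (bcA.snd pX R) Λ)).obj W ≅
          (FEt.restrict (bcA.fst (bcA.snd pX R) Λ)).obj ((FEt.restrict (bcA.fst pX R)).obj V₀)) := by
  let κ := p.asIdeal.ResidueField
  let L := SeparableClosure κ
  letI : Algebra R L := ((algebraMap κ L).comp (algebraMap R κ)).toAlgebra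
  haveI : IsScalarTower R κ L := IsScalarTower.of_algebraMap_eq fun _ => rfl
  letI : Algebra k L := ((algebraMap R L).comp (algebraMap k R)).toAlgebra
  let π : R →ₐ[k] L := AlgHom.mk (algebraMap R L) fun _ => rfl
  haveI : IsSepClosed L := inferInstance
  haveI := restrict_sepClosed_isEquivalence k L pX
  let V₀ : FEt.Cat X := (FEt.restrict (bcA.fst pX L)).objPreimage ((FEt.restrict (bcMap pX π)).obj W)
  let e₀ : (FEt.restrict (bcA.fst pX L)).obj V₀ ≅ (FEt.restrict (bcMap pX π)).obj W :=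
    (FEt.restrict (bcA.fst pX L)).objObjPreimageIso _
  let g : bcA pX R ⟶ Spec (CommRingCat.of R) := bcA.snd pX R
  haveI : IsProper g := MorphismProperty.pullback_snd (P := @IsProper) _ _ ‹_›
  let U₂ : FEt.Cat (bcA pX R) := (FEt.restrict (bcA.fst pX R)).obj V₀
  let e₁ : (FEt.restrict (bcMap pX π)).obj W ≅ (FEt.restrict (bcMap pX π)).obj U₂ :=
    e₀.symm ≪≫ Pi1Ext.Spread.restrictComp _ _ _ (bcMap_fst pX π).symm V₀
  let H := Hensel.Henz R L
  let pr : H →ₐ[R] L := Hensel.Henz.proj R L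
  have hpr : Function.Surjective pr := henz_proj_surjective p.asIdeal L
  let gH : bcA g H ⟶ Spec (CommRingCat.of H) := bcA.snd g H
  haveI : IsProper gH := MorphismProperty.pullback_snd (P := @IsProper) _ _ ‹_›
  let t : bcA pX L ⟶ bcA g H :=
    pullback.lift (bcMap pX π) (bcA.snd pX L ≫ Spec.map (CommRingCat.ofHom pr.toRingHom)) (by
      rw [Category.assoc, ← Spec.map_comp, ← CommRingCat.ofHom_comp]
      erw [pr.comp_algebraMap]
      exact bcMap_snd pX π)
  have sq : IsPullback t (bcA.snd pX L) gH (Spec.map (CommRingCat.ofHom pr.toRingHom)) := by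
    refine IsPullback.of_right ?_ (pullback.lift_snd _ _ _) (IsPullback.of_hasPullback _ _)
    rw [pullback.lift_fst, ← Spec.map_comp, ← CommRingCat.ofHom_comp]
    erw [pr.comp_algebraMap]
    exact isPullback_bcMap pX π
  have ht : bcMap pX π = t ≫ bcA.fst g H := (pullback.lift_fst _ _ _).symm
  haveI : HenselianRing H (RingHom.ker pr.toRingHom) := Hensel.Henz.henselianRing
  obtain ⟨hfull, hfaith⟩ := restrict_inc_full_faithful (RingHom.ker pr.toRingHom) gH
  obtain ⟨eH⟩ := nonempty_iso_of_closed hfull hfaith pr.toRingHom hpr rfl sq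
    (U₁ := (FEt.restrict (bcA.fst g H)).obj W) (U₂ := (FEt.restrict (bcA.fst g H)).obj U₂)
    ((Pi1Ext.Spread.restrictComp _ _ _ ht W).symm ≪≫ e₁ ≪≫ Pi1Ext.Spread.restrictComp _ _ _ ht U₂)
  obtain ⟨N, hN⟩ := exists_nbhd_iso g W U₂ eH
  refine ⟨N.B, inferInstance, inferInstance, V₀, inferInstance,
    ⟨⟨RingHom.ker N.toK.toRingHom, RingHom.ker_isPrime _⟩, PrimeSpectrum.ext ?_⟩, fun Λ _ _ θ => hN Λ θ⟩
  show (RingHom.ker N.toK.toRingHom).comap (algebraMap R N.B) = p.asIdeal
  rw [RingHom.comap_ker]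
  erw [N.toK.comp_algebraMap]
  show RingHom.ker ((algebraMap κ L).comp (algebraMap R κ)) = p.asIdeal
  rw [RingHom.ker_comp_of_injective _ (algebraMap κ L).injective, Ideal.ker_algebraMap_residueField]

/-- Near every prime of the parameter ring a family of covers is constant. -/
theorem exists_open_const (R : Type u) [CommRing R] [Algebra k R] (W : FEt.Cat (bcA pX R))
    (p : PrimeSpectrum R) :
    ∃ (U : Set (PrimeSpectrum R)) (V₀ : FEt.Cat X), IsOpen U ∧ p ∈ U ∧
      ∀ (Ω : Type u) [Field Ω] [IsSepClosed Ω] [Algebra k Ω] (φ : R →ₐ[k] Ω),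
        (⟨RingHom.ker φ.toRingHom, RingHom.ker_isPrime _⟩ : PrimeSpectrum R) ∈ U →
          Nonempty ((FEt.restrict (bcMap pX φ)).obj W ≅ (FEt.restrict (bcA.fst pX Ω)).obj V₀) := by
  obtain ⟨B, _, _, V₀, hB, hp, hN⟩ := exists_etale_const pX R W p
  haveI := hB
  refine ⟨Set.range (PrimeSpectrum.comap (algebraMap R B)), V₀, ?_, hp, fun Ω _ _ _ φ hφ => ?_⟩
  · haveI : Module.Flat R B := inferInstance
    exact (PrimeSpectrum.isOpenMap_comap_of_hasGoingDown_of_finitePresentation).isOpen_range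
  · obtain ⟨q, hq⟩ := hφ
    letI : Algebra R Ω := φ.toRingHom.toAlgebra
    obtain ⟨θ⟩ := exists_point_over (K := Ω) q (congrArg PrimeSpectrum.asIdeal hq)
    obtain ⟨eK⟩ := hN Ω θ
    let g : bcA pX R ⟶ Spec (CommRingCat.of R) := bcA.snd pX R
    let U₂ : FEt.Cat (bcA pX R) := (FEt.restrict (bcA.fst pX R)).obj V₀
    let s : bcA pX Ω ⟶ bcA g Ω := pullback.lift (bcMap pX φ) (bcA.snd pX Ω) (bcMap_snd pX φ)
    have hs : bcMap pX φ = s ≫ bcA.fst g Ω := (pullback.lift_fst _ _ _).symm
    exact ⟨Pi1Ext.Spread.restrictComp _ _ _ hs W ≪≫ (FEt.restrict s).mapIso eK ≪≫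
      (Pi1Ext.Spread.restrictComp _ _ _ hs U₂).symm ≪≫
      (Pi1Ext.Spread.restrictComp _ _ _ (bcMap_fst pX φ).symm V₀).symm⟩

/-- A family of covers of a proper scheme over a connected parameter scheme has a single geometric fibre. -/
theorem exists_const_fibres {Y : Scheme.{u}} (pY : Y ⟶ Spec (CommRingCat.of k)) [PreconnectedSpace Y]
    [Nonempty Y] (W : FEt.Cat (pullback pX pY)) :
    ∃ V₀ : FEt.Cat X, ∀ (Ω : Type u) [Field Ω] [IsSepClosed Ω] [Algebra k Ω]
      (η : Spec (CommRingCat.of Ω) ⟶ Y) (hη : η ≫ pY = Spec.map (CommRingCat.ofHom (algebraMap k Ω))),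
      Nonempty ((FEt.restrict (pullback.lift (bcA.fst pX Ω) (bcA.snd pX Ω ≫ η) (by
          rw [Category.assoc, hη]; exact pullback.condition))).obj W ≅
        (FEt.restrict (bcA.fst pX Ω)).obj V₀) := by
  let P : FEt.Cat X → Y → Prop := fun V y => ∀ (Ω : Type u) [Field Ω] [IsSepClosed Ω] [Algebra k Ω]
    (η : Spec (CommRingCat.of Ω) ⟶ Y) (hη : η ≫ pY = Spec.map (CommRingCat.ofHom (algebraMap k Ω))),
    η (IsLocalRing.closedPoint Ω) = y →
      Nonempty ((FEt.restrict (pullback.lift (bcA.fst pX Ω) (bcA.snd pX Ω ≫ η) (by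
          rw [Category.assoc, hη]; exact pullback.condition))).obj W ≅
        (FEt.restrict (bcA.fst pX Ω)).obj V)
  have loc : ∀ y : Y, ∃ (U : Y.Opens) (V : FEt.Cat X), y ∈ U ∧ ∀ z ∈ U, P V z := fun y => by
    obtain ⟨_, ⟨O, hO, rfl⟩, hyO, -⟩ := Y.isBasis_affineOpens.exists_subset_of_mem_open (Set.mem_univ y) isOpen_univ
    replace hO : IsAffineOpen O := hO
    obtain ⟨ψ, hψ⟩ := Spec.map_surjective (hO.fromSpec ≫ pY)
    letI : Algebra k Γ(Y, O) := ψ.hom.toAlgebra
    have hj : hO.fromSpec ≫ pY = Spec.map (CommRingCat.ofHom (algebraMap k Γ(Y, O))) := hψ.symm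
    let j : bcA pX Γ(Y, O) ⟶ pullback pX pY :=
      pullback.lift (bcA.fst pX Γ(Y, O)) (bcA.snd pX Γ(Y, O) ≫ hO.fromSpec)
        (by rw [Category.assoc, hj]; exact pullback.condition)
    obtain ⟨p, rfl⟩ : y ∈ Set.range hO.fromSpec := by rw [hO.range_fromSpec]; exact hyO
    obtain ⟨U, V, hU, hpU, hV⟩ := exists_open_const pX Γ(Y, O) ((FEt.restrict j).obj W) p
    refine ⟨hO.fromSpec ''ᵁ ⟨U, hU⟩, V, ⟨p, hpU, rfl⟩, ?_⟩
    rintro _ ⟨q, hqU, rfl⟩ Ω _ _ _ η hη hpt
    have hrange : Set.range η ⊆ Set.range hO.fromSpec := by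
      rintro _ ⟨x, rfl⟩
      exact ⟨q, (hpt.symm.trans (congrArg η (Subsingleton.elim (α := PrimeSpectrum Ω) _ x)))⟩
    obtain ⟨χ, hχ⟩ := Spec.map_surjective (IsOpenImmersion.lift hO.fromSpec η hrange)
    have hfac : Spec.map χ ≫ hO.fromSpec = η := by rw [hχ, IsOpenImmersion.lift_fac]
    have hcomm : ψ ≫ χ = CommRingCat.ofHom (algebraMap k Ω) :=
      Spec.map_injective (by rw [Spec.map_comp, hψ, reassoc_of% hfac, hη])
    let φ : Γ(Y, O) →ₐ[k] Ω := AlgHom.mk χ.hom fun a => RingHom.congr_fun (congrArg CommRingCat.Hom.hom hcomm) a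
    have hq : (⟨RingHom.ker φ.toRingHom, RingHom.ker_isPrime _⟩ : PrimeSpectrum Γ(Y, O)) ∈ U := by
      have h1 : hO.fromSpec (Spec.map χ (IsLocalRing.closedPoint Ω)) = hO.fromSpec q := by
        rw [← Scheme.Hom.comp_apply, hfac, hpt]
        rfl
      have h2 : Spec.map χ (IsLocalRing.closedPoint Ω) = q := hO.fromSpec.isOpenEmbedding.injective h1
      have h3 : (⟨RingHom.ker φ.toRingHom, RingHom.ker_isPrime _⟩ : PrimeSpectrum Γ(Y, O)) = q := by
        rw [← h2]
        refine PrimeSpectrum.ext ?_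
        show RingHom.ker χ.hom = (IsLocalRing.maximalIdeal Ω).comap χ.hom
        rw [IsLocalRing.maximalIdeal_eq_bot]
        rfl
      rw [h3]; exact hqU
    obtain ⟨e⟩ := hV Ω φ hq
    have hm : pullback.lift (bcA.fst pX Ω) (bcA.snd pX Ω ≫ η)
        (by rw [Category.assoc, hη]; exact pullback.condition) = bcMap pX φ ≫ j := by
      apply pullback.hom_ext
      · simp [j]
      · simp only [Category.assoc, j, pullback.lift_snd, bcMap_snd_assoc]
        rw [← hfac]
        rfl
    exact ⟨Pi1Ext.Spread.restrictComp _ _ _ hm W ≪≫ e⟩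
  choose U V hyU hV using loc
  have hiso : ∀ y z, z ∈ U y → Nonempty (V y ≅ V z) := fun y z hz => by
    let Ω := AlgebraicClosure (Y.residueField z)
    let η : Spec (CommRingCat.of Ω) ⟶ Y :=
      Spec.map (CommRingCat.ofHom (algebraMap (Y.residueField z) Ω)) ≫ Y.fromSpecResidueField z
    obtain ⟨ψ, hψ⟩ := Spec.map_surjective (η ≫ pY)
    letI : Algebra k Ω := ψ.hom.toAlgebra
    have hη : η ≫ pY = Spec.map (CommRingCat.ofHom (algebraMap k Ω)) := hψ.symm
    have hpt : η (IsLocalRing.closedPoint Ω) = z := by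
      rw [Scheme.Hom.comp_apply]
      exact Y.fromSpecResidueField_apply z _
    obtain ⟨e₁⟩ := hV y z hz Ω η hη hpt
    obtain ⟨e₂⟩ := hV z z (hyU z) Ω η hη hpt
    haveI := restrict_sepClosed_isEquivalence k Ω pX
    exact ⟨(FEt.restrict (bcA.fst pX Ω)).preimageIso (e₁.symm ≪≫ e₂)⟩
  let cls : Y → Quotient (isIsomorphicSetoid (FEt.Cat X)) := fun y => Quotient.mk _ (V y)
  have hcls : IsLocallyConstant cls := (IsLocallyConstant.iff_exists_open _).2 fun y =>
    ⟨U y, (U y).2, hyU y, fun z hz => (Quotient.sound (hiso y z hz)).symm⟩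
  obtain ⟨y₀⟩ := ‹Nonempty Y›
  refine ⟨V y₀, fun Ω _ _ _ η hη => ?_⟩
  obtain ⟨e⟩ := hV (η (IsLocalRing.closedPoint Ω)) _ (hyU _) Ω η hη rfl
  obtain ⟨e'⟩ : Nonempty (V (η (IsLocalRing.closedPoint Ω)) ≅ V y₀) :=
    Quotient.exact (hcls.apply_eq_of_preconnectedSpace _ y₀)
  exact ⟨e ≪≫ (FEt.restrict (bcA.fst pX Ω)).mapIso e'⟩

/-- All restrictions of a family along rational points are isomorphic. -/
theorem nonempty_iso_sections {Y : Scheme.{u}} (pY : Y ⟶ Spec (CommRingCat.of k)) [PreconnectedSpace Y]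
    (W : FEt.Cat (pullback pX pY))
    (y y' : Spec (CommRingCat.of k) ⟶ Y) (hy : 𝟙 X ≫ pX = (pX ≫ y) ≫ pY)
    (hy' : 𝟙 X ≫ pX = (pX ≫ y') ≫ pY) (hys : y ≫ pY = 𝟙 _) (hys' : y' ≫ pY = 𝟙 _) :
    Nonempty ((FEt.restrict (pullback.lift (𝟙 X) (pX ≫ y) hy)).obj W ≅
      (FEt.restrict (pullback.lift (𝟙 X) (pX ≫ y') hy')).obj W) := by
  haveI : Nonempty Y := ⟨y (IsLocalRing.closedPoint k)⟩
  obtain ⟨V₀, hV₀⟩ := exists_const_fibres pX pY W
  have hid : Spec.map (CommRingCat.ofHom (algebraMap k k)) = 𝟙 _ := by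
    rw [Algebra.algebraMap_self, CommRingCat.ofHom_id]; exact Spec.map_id _
  let e : X ⟶ bcA pX k := pullback.lift (𝟙 X) pX (by rw [hid, Category.id_comp, Category.comp_id])
  have key : ∀ (z : Spec (CommRingCat.of k) ⟶ Y) (hz : 𝟙 X ≫ pX = (pX ≫ z) ≫ pY), z ≫ pY = 𝟙 _ →
      Nonempty ((FEt.restrict (pullback.lift (𝟙 X) (pX ≫ z) hz)).obj W ≅ V₀) := fun z hz hzs => by
    obtain ⟨i⟩ := hV₀ k z (hzs.trans hid.symm)
    have h1 : pullback.lift (𝟙 X) (pX ≫ z) hz = e ≫ pullback.lift (bcA.fst pX k) (bcA.snd pX k ≫ z) (by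
        rw [Category.assoc, hzs, ← hid]; exact pullback.condition) := by
      apply pullback.hom_ext
      · rw [Category.assoc, pullback.lift_fst, pullback.lift_fst]
        exact (pullback.lift_fst _ _ _).symm
      · rw [Category.assoc, pullback.lift_snd, pullback.lift_snd]
        exact (pullback.lift_snd_assoc _ _ _ _).symm
    have h2 : 𝟙 X = e ≫ bcA.fst pX k := (pullback.lift_fst _ _ _).symm
    exact ⟨Pi1Ext.Spread.restrictComp _ _ _ h1 W ≪≫ (FEt.restrict e).mapIso i ≪≫
      (Pi1Ext.Spread.restrictComp _ _ _ h2 V₀).symm ≪≫ Pi1Ext.Spread.restrictId V₀⟩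
  obtain ⟨a⟩ := key y hy hys
  obtain ⟨b⟩ := key y' hy' hys'
  exact ⟨a ≪≫ b.symm⟩

end Groth.Agent.H9PiOne

end
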