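import Groth.Agent.TraceEtale.Basic
import Mathlib.RingTheory.Etale.QuasiFinite
import Mathlib.RingTheory.Ideal.KrullsHeightTheorem
import Mathlib.RingTheory.Unramified.Locus
import Mathlib.RingTheory.Unramified.LocalStructure

/-!
# Flat quasi-finite algebras unramified in codimension one are unramified
-/

set_option autoImplicit false
set_option linter.style.haveILetI false
set_option backward.isDefEq.respectTransparency false

universe u

open IsLocalRing TensorProduct

noncomputable section

attribute [local instance] Algebra.TensorProduct.rightAlgebra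

namespace Groth.Agent.H9PiOne.FlatPurity

/-- there is no chain of three primes above `P` under a prime of height one modulo `P` -/
theorem false_of_chain {A : Type u} [CommRing A] {P q r : Ideal A} [P.IsPrime] [q.IsPrime] [r.IsPrime]
    (h1 : P < q) (h2 : q < r) (hr : (r.map (Ideal.Quotient.mk P)).height ≤ 1) : False := by
  let f := Ideal.Quotient.mk P
  have hk : ∀ I : Ideal A, P ≤ I → (I.map f).comap f = I := fun I hI => by
    rw [Ideal.comap_map_of_surjective f Ideal.Quotient.mk_surjective, ← RingHom.ker_eq_comap_bot, Ideal.mk_ker,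
      sup_eq_left.2 hI]
  have hp : ∀ I : Ideal A, I.IsPrime → P ≤ I → (I.map f).IsPrime := fun I hI hPI =>
    Ideal.map_isPrime_of_surjective Ideal.Quotient.mk_surjective (by rwa [Ideal.mk_ker])
  have hlt : ∀ I J : Ideal A, P ≤ I → I < J → I.map f < J.map f := fun I J hPI hIJ =>
    (Ideal.map_mono hIJ.le).lt_of_not_ge fun e => hIJ.not_ge <| by
      simpa only [hk I hPI, hk J (hPI.trans hIJ.le)] using Ideal.comap_mono (f := f) e
  haveI := hp P inferInstance le_rfl
  haveI := hp q inferInstance h1.le
  haveI := hp r inferInstance (h1.trans h2).le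
  have e1 := Ideal.height_add_one_le_of_lt_of_isPrime (hlt P q le_rfl h1)
  have e2 := Ideal.height_add_one_le_of_lt_of_isPrime (hlt q r h1.le h2)
  have : (1 : ℕ∞) + 1 ≤ 1 := calc
    (1 : ℕ∞) + 1 ≤ (P.map f).height + 1 + 1 := by gcongr; exact le_add_self
    _ ≤ (q.map f).height + 1 := by gcongr
    _ ≤ (r.map f).height := e2
    _ ≤ 1 := hr
  norm_num at this

/-- every element of the maximal ideal lies in a prime of height one, in positive dimension -/
theorem exists_height_one_mem {A : Type u} [CommRing A] [IsNoetherianRing A] [IsLocalRing A]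
    (hdim : 1 ≤ (maximalIdeal A).height) {f : A} (hf : f ∈ maximalIdeal A) :
    ∃ p : Ideal A, p.IsPrime ∧ f ∈ p ∧ p.height = 1 := by
  classical
  by_contra hcon
  push Not at hcon
  have hm1 : (maximalIdeal A).height ≠ 1 := hcon _ inferInstance hf
  have hmin : ∀ P : Ideal A, P ∈ (Ideal.span {f}).minimalPrimes → P.height = 0 := fun P hP => by
    have h1 := Ideal.height_le_one_of_isPrincipal_of_mem_minimalPrimes _ P hP
    exact Order.lt_one_iff.1 (lt_of_le_of_ne h1 (hcon P hP.isPrime (hP.1.2 (Ideal.subset_span rfl))))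
  -- nothing lies strictly between such a prime and the maximal ideal
  have hline : ∀ P : Ideal A, P.IsPrime → P.height = 0 → f ∈ P → ∀ q : Ideal A, q.IsPrime → P < q → q < maximalIdeal A → False := by
    intro P hPp hP0 hfP q₁ _ hPq hqm
    haveI := hPp
    have hPmin := Ideal.height_eq_zero_iff.1 hP0
    let Bad : Set (Ideal A) := ⋃ P' ∈ minimalPrimes A \ {P}, (P ⊔ P').minimalPrimes
    have hBad : Bad.Finite := ((minimalPrimes.finite_of_isNoetherianRing A).subset Set.diff_subset).biUnion
      fun P' _ => (P ⊔ P').finite_minimalPrimes_of_isNoetherianRing A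
    let s : Finset (Ideal A) := insert P (hBad.toFinset.filter (· ≠ maximalIdeal A))
    have hs : ∀ I ∈ s, I.IsPrime ∧ I < maximalIdeal A := by
      intro I hI
      rcases Finset.mem_insert.1 hI with rfl | hI
      · exact ⟨hPp, hPq.trans hqm⟩
      · obtain ⟨hI1, hI2⟩ := Finset.mem_filter.1 hI
        obtain ⟨P', -, hI'⟩ := Set.mem_iUnion₂.1 (hBad.mem_toFinset.1 hI1)
        exact ⟨hI'.isPrime, lt_of_le_of_ne (le_maximalIdeal hI'.isPrime.ne_top) hI2⟩
    obtain ⟨g, hgm, hg⟩ : ∃ g ∈ maximalIdeal A, ∀ I ∈ s, g ∉ I := by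
      by_contra h
      push Not at h
      have hsub : ((maximalIdeal A : Ideal A) : Set A) ⊆ ⋃ i ∈ (↑s : Set (Ideal A)), ((i : Ideal A) : Set A) := fun g hg => by
        obtain ⟨I, hI, hgI⟩ := h g hg
        exact Set.mem_iUnion₂.2 ⟨I, hI, hgI⟩
      obtain ⟨I, hI, hle⟩ := (Ideal.subset_union_prime (f := fun I => I) P P fun I hI _ _ => (hs I hI).1).1 hsub
      exact (hs I hI).2.not_ge hle
    obtain ⟨r, hr, hrm⟩ := Ideal.exists_minimalPrimes_le
      (I := P ⊔ Ideal.span {g}) (J := maximalIdeal A)
      (sup_le (hPq.trans hqm).le ((Ideal.span_singleton_le_iff_mem _).2 hgm))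
    haveI := hr.isPrime
    have hh := Ideal.map_height_le_one_of_mem_minimalPrimes hr
    have hgr : g ∈ r := hr.1.2 (Ideal.mem_sup_right (Ideal.subset_span rfl))
    have hPr : P < r := lt_of_le_of_ne (le_sup_left.trans hr.1.2) fun e =>
      hg P (Finset.mem_insert_self _ _) (e ▸ hgr)
    have hrne : r ≠ maximalIdeal A := fun e => by
      subst e; exact false_of_chain hPq hqm hh
    have hr1 : r.height ≤ 1 := by
      refine Ideal.height_le_iff.2 fun q hq hqr => ?_
      by_contra hq0
      have hq0' : q.height ≠ 0 := fun e => hq0 (by rw [e]; exact one_pos)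
      obtain ⟨P', hP', hP'q⟩ := Ideal.exists_minimalPrimes_le (I := (⊥ : Ideal A)) (J := q) bot_le
      haveI := hP'.isPrime
      have hP'lt : P' < q := lt_of_le_of_ne hP'q fun e => hq0' (Ideal.height_eq_zero_iff.2 (e ▸ hP'))
      by_cases hPP : P' = P
      · subst hPP; exact false_of_chain hP'lt hqr hh
      · obtain ⟨b, hb, hbr⟩ := Ideal.exists_minimalPrimes_le (I := P ⊔ P') (J := r) (sup_le hPr.le (hP'lt.le.trans hqr.le))
        haveI := hb.isPrime
        have hPb : P < b := lt_of_le_of_ne (le_sup_left.trans hb.1.2) fun e => by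
          have hle : P' ≤ P := (le_sup_right.trans hb.1.2).trans e.ge
          exact hPP (le_antisymm hle (hPmin.2 ⟨hP'.isPrime, bot_le⟩ hle))
        rcases eq_or_lt_of_le hbr with e | e
        · subst e
          refine hg b (Finset.mem_insert_of_mem (Finset.mem_filter.2 ⟨hBad.mem_toFinset.2 ?_, hrne⟩)) hgr
          exact Set.mem_iUnion₂.2 ⟨P', ⟨hP', hPP⟩, hb⟩
        · exact false_of_chain hPb e hh
    have hr1' : (1 : ℕ∞) ≤ r.height := by
      have := Ideal.height_add_one_le_of_lt_of_isPrime hPr
      rwa [hP0, zero_add] at this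
    exact hcon r inferInstance (hPr.le hfP) (le_antisymm hr1 hr1')
  -- a prime strictly between a minimal prime and the maximal ideal
  have hm2 : ¬ (maximalIdeal A).height ≤ 1 := fun h => hm1 (le_antisymm h hdim)
  rw [show (1 : ℕ∞) = ((1 : ℕ) : ℕ∞) from rfl, Ideal.height_le_iff] at hm2
  push Not at hm2
  obtain ⟨q, hq, hqm, hq1⟩ := hm2
  haveI := hq
  obtain ⟨P', hP', hP'q⟩ := Ideal.exists_minimalPrimes_le (I := (⊥ : Ideal A)) (J := q) bot_le
  haveI := hP'.isPrime
  have hP'0 : P'.height = 0 := Ideal.height_eq_zero_iff.2 hP'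
  have hP'lt : P' < q := lt_of_le_of_ne hP'q fun e => by
    rw [← e, hP'0] at hq1; simp at hq1
  have hfP' : f ∉ P' := fun h => hline P' inferInstance hP'0 h q hq hP'lt hqm
  obtain ⟨r, hr, hrm⟩ := Ideal.exists_minimalPrimes_le (I := P' ⊔ Ideal.span {f}) (J := maximalIdeal A)
    (sup_le (hP'lt.le.trans hqm.le) ((Ideal.span_singleton_le_iff_mem _).2 hf))
  haveI := hr.isPrime
  have hh := Ideal.map_height_le_one_of_mem_minimalPrimes hr
  have hrlt : r < maximalIdeal A := lt_of_le_of_ne hrm fun e => by
    subst e; exact false_of_chain hP'lt hqm hh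
  have hfr : f ∈ r := hr.1.2 (Ideal.mem_sup_right (Ideal.subset_span rfl))
  obtain ⟨P, hP, hPr⟩ := Ideal.exists_minimalPrimes_le (I := Ideal.span {f}) (J := r)
    ((Ideal.span_singleton_le_iff_mem _).2 hfr)
  haveI := hP.isPrime
  have hfP : f ∈ P := hP.1.2 (Ideal.subset_span rfl)
  have hPlt : P < r := lt_of_le_of_ne hPr fun e => by
    subst e
    have hPmin := Ideal.height_eq_zero_iff.1 (hmin _ hP)
    have hle : P' ≤ P := le_sup_left.trans hr.1.2
    exact hfP' ((le_antisymm hle (hPmin.2 ⟨hP'.isPrime, bot_le⟩ hle)) ▸ hfP)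
  exact hline P inferInstance (hmin _ hP) hfP r inferInstance hPlt hrlt

/-- flat with incomparable fibre: heights agree -/
theorem height_eq {A B : Type u} [CommRing A] [IsNoetherianRing A] [CommRing B] [Algebra A B] [IsNoetherianRing B]
    [Module.Flat A B] (p : Ideal A) [p.IsPrime] (q : Ideal B) [q.IsPrime] [q.LiesOver p]
    (hinc : ∀ q' : Ideal B, q'.IsPrime → q' ≤ q → q'.under A = p → q' = q) : q.height = p.height := by
  rw [Ideal.height_eq_height_add_of_liesOver_of_hasGoingDown p q]
  let f := Ideal.Quotient.mk (p.map (algebraMap A B))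
  have hpq : p.map (algebraMap A B) ≤ q := Ideal.map_le_iff_le_comap.2 (Ideal.LiesOver.over (P := q) (p := p)).le
  have hk : RingHom.ker f ≤ q := by rw [Ideal.mk_ker]; exact hpq
  haveI : (q.map f).IsPrime := Ideal.map_isPrime_of_surjective Ideal.Quotient.mk_surjective hk
  suffices h : (q.map f).height = 0 by rw [h, add_zero]
  rw [Ideal.height_eq_zero_iff]
  refine ⟨⟨inferInstance, bot_le⟩, fun Q ⟨hQ, _⟩ hQle => ?_⟩
  haveI := hQ
  have hc : (q.map f).comap f = q := by
    rw [Ideal.comap_map_of_surjective f Ideal.Quotient.mk_surjective, ← RingHom.ker_eq_comap_bot, sup_eq_left.2 hk]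
  have hle : Q.comap f ≤ q := (Ideal.comap_mono hQle).trans hc.le
  have hover : (Q.comap f).under A = p := by
    refine le_antisymm ((Ideal.comap_mono hle).trans (Ideal.LiesOver.over (P := q) (p := p)).ge) fun a ha => ?_
    show f (algebraMap A B a) ∈ Q
    rw [Ideal.Quotient.eq_zero_iff_mem.2 (Ideal.mem_map_of_mem _ ha)]
    exact Q.zero_mem
  rw [← hinc _ (Ideal.IsPrime.comap f) hle hover, Ideal.map_comap_of_surjective f Ideal.Quotient.mk_surjective]

/-- a finite free algebra over a local ring that is unramified in height one is étale -/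
theorem etale_of_height_one {A B : Type u} [CommRing A] [IsNoetherianRing A] [IsLocalRing A] [CommRing B]
    [Algebra A B] [Module.Finite A B] [Module.Free A B] (hdim : 1 ≤ (maximalIdeal A).height)
    (h : ∀ (q : Ideal B) [q.IsPrime], q.height = 1 → Algebra.IsUnramifiedAt A q) :
    Algebra.Etale A B := by
  classical
  rw [TraceEtale.etale_iff_bijective_traceForm]
  let b := Module.Free.chooseBasis A B
  rw [TraceEtale.bijective_traceForm_iff b]
  by_contra hu
  obtain ⟨p, hp, hdp, hp1⟩ := exists_height_one_mem hdim ((IsLocalRing.mem_maximalIdeal _).2 hu)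
  haveI := hp
  haveI : IsNoetherianRing B := IsNoetherianRing.of_finite A B
  haveI : Module.Finite B Ω[B⁄A] := inferInstance
  haveI : Module.Finite A Ω[B⁄A] := Module.Finite.trans B _
  -- the differentials vanish at `p`
  obtain ⟨s, hs, hsp⟩ : ∃ s ∈ Module.annihilator A Ω[B⁄A], s ∉ p := by
    by_contra hle
    push Not at hle
    obtain ⟨q', hq'le, hq', hq'p⟩ := Ideal.exists_ideal_over_prime_of_isIntegral p
      (Module.annihilator B Ω[B⁄A]) (fun a ha => hle a (Module.mem_annihilator.2 fun x => by
        rw [← algebraMap_smul B a x]; exact Module.mem_annihilator.1 ha x))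
    haveI := hq'
    haveI : q'.LiesOver p := ⟨hq'p.symm⟩
    have hh : q'.height = p.height := height_eq p q' fun Q hQ hle' hQp =>
      haveI := hQ; Algebra.QuasiFinite.eq_of_le_of_under_eq (R := A) Q q' hle' (hQp.trans hq'p.symm)
    have hur := h q' (hh.trans hp1)
    have hmem : (⟨q', hq'⟩ : PrimeSpectrum B) ∈ Algebra.unramifiedLocus A B := hur
    rw [Algebra.unramifiedLocus_eq_compl_support, Module.support_eq_zeroLocus] at hmem
    exact hmem hq'le
  let K := AlgebraicClosure p.ResidueField
  have hsK : algebraMap A K s ≠ 0 := by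
    rw [IsScalarTower.algebraMap_apply A p.ResidueField K, Ne, map_eq_zero, Ideal.algebraMap_residueField_eq_zero]
    exact hsp
  haveI : Algebra.FormallyUnramified K (K ⊗[A] B) := by
    haveI : Subsingleton (K ⊗[A] Ω[B⁄A]) := by
      refine subsingleton_of_forall_eq 0 fun x => ?_
      induction x using TensorProduct.induction_on with
      | zero => rfl
      | tmul k ω =>
        obtain ⟨c, rfl⟩ : ∃ c, algebraMap A K s * c = k := ⟨(algebraMap A K s)⁻¹ * k, mul_inv_cancel_left₀ hsK k⟩
        rw [← Algebra.smul_def, TensorProduct.smul_tmul, Module.mem_annihilator.1 hs, TensorProduct.tmul_zero]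
      | add x y hx hy => rw [hx, hy, add_zero]
    exact ⟨(KaehlerDifferential.tensorKaehlerEquivBase A K B (K ⊗[A] B)).toEquiv.symm.subsingleton⟩
  have h1 := TraceEtale.formallyUnramified_iff_bijective_traceForm_of_isAlgClosed.1
    (inferInstance : Algebra.FormallyUnramified K (K ⊗[A] B))
  rw [TraceEtale.bijective_traceForm_iff (b.baseChange K), TraceEtale.discr_baseChange, isUnit_iff_ne_zero] at h1
  refine h1 ?_
  rw [IsScalarTower.algebraMap_apply A p.ResidueField K, Ideal.algebraMap_residueField_eq_zero.2 hdp, map_zero]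

theorem subsingleton_of_field {S K L M : Type u} [CommRing S] [Field K] [Field L] [Algebra S K] [Algebra S L]
    [Algebra K L] [IsScalarTower S K L] [AddCommGroup M] [Module S M] (h : Subsingleton (L ⊗[S] M)) :
    Subsingleton (K ⊗[S] M) := by
  haveI : Subsingleton (L ⊗[K] (K ⊗[S] M)) :=
    (TensorProduct.AlgebraTensorModule.cancelBaseChange S K K L M).toEquiv.subsingleton
  exact Module.FaithfullyFlat.lTensor_reflects_triviality K L _

/-- a finite module killed by base change does not meet the image -/
theorem notMem_support {S B M : Type u} [CommRing S] [CommRing B] [Algebra S B] [AddCommGroup M] [Module S M]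
    [Module.Finite S M] (q : Ideal S) [q.IsPrime] (QB : Ideal B) [QB.IsPrime] [QB.LiesOver q]
    (h : Subsingleton (B ⊗[S] M)) : (⟨q, ‹_›⟩ : PrimeSpectrum S) ∉ Module.support S M := by
  rw [Module.mem_support_iff_nontrivial_residueField_tensorProduct, not_nontrivial_iff_subsingleton]
  let L := QB.ResidueField
  letI : Algebra q.ResidueField L := (Ideal.ResidueField.map q QB (algebraMap S B) (QB.over_def q)).toAlgebra
  haveI : IsScalarTower S q.ResidueField L := .of_algebraMap_eq fun x => by
    rw [RingHom.algebraMap_toAlgebra, Ideal.ResidueField.map_algebraMap, ← IsScalarTower.algebraMap_apply]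
  have hL : Subsingleton (L ⊗[S] M) :=
    (TensorProduct.AlgebraTensorModule.cancelBaseChange S B B L M).symm.toEquiv.subsingleton
  exact subsingleton_of_field (K := q.ResidueField) (L := L) hL

set_option maxHeartbeats 800000 in
/-- flat finite type, quasi-finite at `q`, unramified in height one below `q` -/
theorem isUnramifiedAt_of_height_one {R S : Type u} [CommRing R] [IsNoetherianRing R] [CommRing S]
    [Algebra R S] [Algebra.FiniteType R S] [Module.Flat R S] (q : Ideal S) [q.IsPrime]
    [Algebra.QuasiFiniteAt R q] (hq1 : 1 ≤ q.height)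
    (h : ∀ (r : Ideal S) [r.IsPrime], r ≤ q → r.height = 1 → Algebra.IsUnramifiedAt R r) :
    Algebra.IsUnramifiedAt R q := by
  obtain ⟨R', _, _, _, P, _, _, e, he, P', _, _, hP'q, heP', -, hfin, huniq⟩ :=
    Algebra.exists_etale_isIdempotentElem_forall_liesOver_eq (q.under R) q
  haveI := hfin
  let Sd := R' ⊗[R] S
  haveI : Algebra.Etale S Sd := Algebra.Etale.of_equiv (Algebra.TensorProduct.commRight R S R')
  let T := Localization.Away e
  haveI : Algebra.Etale Sd T := Algebra.Etale.of_isLocalizationAway e
  haveI : Algebra.Etale S T := Algebra.Etale.comp S Sd T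
  haveI : IsScalarTower R S T := .of_algebraMap_eq fun x => by
    rw [IsScalarTower.algebraMap_apply S Sd T, IsScalarTower.algebraMap_apply R Sd T]
    congr 1
    exact (Algebra.TensorProduct.includeRight.commutes x).symm
  haveI : IsNoetherianRing R' := Algebra.FiniteType.isNoetherianRing R R'
  haveI : IsNoetherianRing T := IsNoetherianRing.of_finite R' T
  haveI : IsNoetherianRing S := Algebra.FiniteType.isNoetherianRing R S
  haveI : Module.Flat R' T := Module.Flat.trans R' Sd T
  haveI : Module.Flat S T := inferInstance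
  haveI : Algebra.QuasiFinite S T := inferInstance
  have hdisj : Disjoint (Submonoid.powers e : Set Sd) P' :=
    (Ideal.disjoint_powers_iff_notMem_of_isPrime e).2 heP'
  let Q : Ideal T := P'.map (algebraMap Sd T)
  haveI : Q.IsPrime := IsLocalization.isPrime_of_isPrime_disjoint _ T P' ‹_› hdisj
  have hQc : Q.comap (algebraMap Sd T) = P' := IsLocalization.under_map_of_isPrime_disjoint _ T ‹_› hdisj
  haveI : Q.LiesOver P := ⟨by
    rw [Ideal.under_def, IsScalarTower.algebraMap_eq R' Sd T, ← Ideal.comap_comap, hQc]
    exact P'.over_def P⟩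
  haveI : Q.LiesOver q := ⟨by
    rw [Ideal.under_def, IsScalarTower.algebraMap_eq S Sd T, ← Ideal.comap_comap, hQc]
    exact hP'q.symm⟩
  have hQS : Q.height = q.height := height_eq q Q fun Q' hQ' hle hQ'q =>
    haveI := hQ'; Algebra.QuasiFinite.eq_of_le_of_under_eq (R := S) Q' Q hle (hQ'q.trans (Q.over_def q))
  have hQP : Q.height = P.height := height_eq P Q fun Q' hQ' hle hQ'P =>
    haveI := hQ'; Algebra.QuasiFinite.eq_of_le_of_under_eq (R := R') Q' Q hle (hQ'P.trans (Q.over_def P))
  -- the localization at `P`
  let A := Localization.AtPrime P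
  let M := Algebra.algebraMapSubmonoid T P.primeCompl
  let B := Localization M
  haveI : Algebra.IsPushout R' A T B := Algebra.IsPushout.symm (Algebra.isPushout_of_isLocalization P.primeCompl A T B)
  haveI : Module.Finite A B := Module.Finite.equiv (Algebra.IsPushout.equiv R' A T B).toLinearEquiv
  haveI : Module.Flat A B := Module.Flat.of_linearEquiv (Algebra.IsPushout.equiv R' A T B).symm.toLinearEquiv
  haveI : Module.Free A B := Module.free_of_flat_of_isLocalRing
  have hdimA : 1 ≤ (maximalIdeal A).height := by
    rw [← IsLocalization.height_under P.primeCompl, Localization.AtPrime.under_maximalIdeal, ← hQP, hQS]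
    exact hq1
  have hQM : Disjoint (M : Set T) Q := by
    rw [Set.disjoint_left]
    rintro _ ⟨a, ha, rfl⟩ hm
    exact ha ((Q.over_def P).ge hm)
  haveI : (Q.map (algebraMap T B)).IsPrime := IsLocalization.isPrime_of_isPrime_disjoint M B Q ‹_› hQM
  have hQB : (Q.map (algebraMap T B)).comap (algebraMap T B) = Q :=
    IsLocalization.under_map_of_isPrime_disjoint M B ‹_› hQM
  -- every prime of `B` lies under the one above `q`
  have hle : ∀ (r : Ideal B), r.IsPrime → r.comap (algebraMap T B) ≤ Q := by
    intro r hr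
    obtain ⟨m, hm, hrm⟩ := Ideal.exists_le_maximal r hr.ne_top
    haveI := hm
    have hmA : m.comap (algebraMap A B) = maximalIdeal A :=
      IsLocalRing.eq_maximalIdeal (Ideal.isMaximal_comap_of_isIntegral_of_isMaximal m)
    let mT : Ideal T := m.comap (algebraMap T B)
    haveI : mT.IsPrime := Ideal.IsPrime.comap _
    haveI : (mT.comap (algebraMap Sd T)).LiesOver P := ⟨by
      rw [Ideal.under_def, Ideal.comap_comap, ← IsScalarTower.algebraMap_eq, Ideal.comap_comap,
        ← IsScalarTower.algebraMap_eq, IsScalarTower.algebraMap_eq R' A B, ← Ideal.comap_comap, hmA]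
      exact (Localization.AtPrime.under_maximalIdeal (I := P)).symm⟩
    have heq := huniq (mT.comap (algebraMap Sd T)) inferInstance inferInstance fun hmem =>
      ‹mT.IsPrime›.ne_top (mT.eq_top_of_isUnit_mem hmem (IsLocalization.Away.algebraMap_isUnit (S := T) e))
    refine (Ideal.comap_mono hrm).trans ?_
    rw [← IsLocalization.map_under (Submonoid.powers e) T (m.comap (algebraMap T B))]
    exact (congrArg (Ideal.map (algebraMap Sd T)) heq).le
  have hB : Algebra.Etale A B := by
    refine etale_of_height_one hdimA fun r _ hr1 => ?_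
    let rT : Ideal T := r.comap (algebraMap T B)
    have hrT : rT.height = 1 := by rw [← hr1]; exact IsLocalization.height_under M r
    let rS : Ideal S := rT.under S
    haveI : rT.LiesOver rS := ⟨rfl⟩
    have hrS : rS.height = 1 := by
      rw [← hrT, height_eq rS rT fun Q' hQ' hle' hQ'' =>
        haveI := hQ'; Algebra.QuasiFinite.eq_of_le_of_under_eq (R := S) Q' rT hle' hQ'']
    haveI := h rS ((Ideal.comap_mono (hle r ‹_›)).trans (Q.over_def q).ge) hrS
    haveI : Algebra.IsUnramifiedAt S rT := inferInstance
    haveI hRT : Algebra.IsUnramifiedAt R rT := Algebra.IsUnramifiedAt.comp rS rT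
    haveI : Algebra.IsUnramifiedAt R' rT := Algebra.FormallyUnramified.of_restrictScalars R _ _
    haveI : IsLocalization.AtPrime (Localization.AtPrime r) rT :=
      IsLocalization.isLocalization_isLocalization_atPrime_isLocalization M (T := Localization.AtPrime r) r
    haveI : Algebra.FormallyUnramified R' (Localization.AtPrime r) := Algebra.FormallyUnramified.of_equiv
      ((IsLocalization.algEquiv rT.primeCompl (Localization.AtPrime rT) (Localization.AtPrime r)).restrictScalars R')
    exact Algebra.FormallyUnramified.of_restrictScalars R' A (Localization.AtPrime r)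
  -- descend to `q`
  haveI := hB
  haveI : Algebra.FormallyUnramified R' A :=
    Algebra.FormallyUnramified.of_isLocalization P.primeCompl
  haveI : Algebra.FormallyUnramified R' B := Algebra.FormallyUnramified.comp R' A B
  haveI : IsScalarTower R T B := inferInstance
  haveI hRB : Algebra.FormallyUnramified R B := Algebra.FormallyUnramified.comp R R' B
  haveI : Algebra.FormallyEtale T B := Algebra.FormallyEtale.of_isLocalization M
  haveI : Algebra.FormallyEtale S B := Algebra.FormallyEtale.comp S T B
  haveI hzero : Subsingleton (B ⊗[S] Ω[S⁄R]) :=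
    (KaehlerDifferential.tensorKaehlerEquivOfFormallyEtale R S B).toEquiv.subsingleton
  haveI : (Q.map (algebraMap T B)).LiesOver Q := ⟨hQB.symm⟩
  haveI : (Q.map (algebraMap T B)).LiesOver q := Ideal.LiesOver.trans _ Q q
  have hnot := notMem_support (M := Ω[S⁄R]) q (Q.map (algebraMap T B)) hzero
  rwa [← Set.mem_compl_iff, ← Algebra.unramifiedLocus_eq_compl_support] at hnot

end Groth.Agent.H9PiOne.FlatPurity
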