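import Groth.Agent.H9PiOne.FlatPurity
import Groth.Agent.StalkLoc7.Basic
import Mathlib.AlgebraicGeometry.Morphisms.QuasiFinite

/-!
# Flat quasi-finite morphisms unramified in codimension one are étale
-/

set_option autoImplicit false
set_option linter.style.haveILetI false

universe u

open AlgebraicGeometry CategoryTheory IsLocalRing

noncomputable section

namespace Groth.Agent.H9PiOne.FlatPurity

theorem exists_etale_nhd {X Y : Scheme.{u}} (f : X ⟶ Y) [LocallyOfFiniteType f] [Flat f] [IsLocallyNoetherian X]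
    [IsLocallyNoetherian Y] (x : X) (hq : f.QuasiFiniteAt x)
    (hdim1 : (1 : WithBot ℕ∞) ≤ ringKrullDim (X.presheaf.stalk x))
    (hunr : ∀ x' : X, x' ⤳ x → ringKrullDim (X.presheaf.stalk x') = 1 →
      (f.stalkMap x').hom.FormallyUnramified) :
    ∃ U : X.Opens, x ∈ U ∧ Etale (U.ι ≫ f) := by
  obtain ⟨U, hU, hxU, -⟩ := exists_isAffineOpen_mem_and_subset (x := f x) (U := ⊤) trivial
  obtain ⟨V, hV, hxV, hVU⟩ := exists_isAffineOpen_mem_and_subset (x := x) (U := f ⁻¹ᵁ U) hxU
  have hFT := f.finiteType_appLE hU hV hVU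
  have hFl := Flat.flat_appLE f hU hV hVU
  have hqq := hq.quasiFiniteAt hV hU hVU hxV
  algebraize [(f.appLE U V hVU).hom]
  haveI : IsNoetherianRing Γ(Y, U) := IsLocallyNoetherian.component_noetherian ⟨U, hU⟩
  let q := (hV.primeIdealOf ⟨x, hxV⟩).asIdeal
  let p := (hU.primeIdealOf ⟨f x, hVU hxV⟩).asIdeal
  haveI : q.LiesOver p :=
    ⟨congr($(IsAffineOpen.comap_primeIdealOf_appLE U hU V hV hVU hxV).1).symm⟩
  haveI : Algebra.QuasiFiniteAt Γ(Y, U) q := hqq
  have hq1 : 1 ≤ q.height := by
    let _ := X.presheaf.algebra_section_stalk (⟨x, hxV⟩ : V)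
    haveI := hV.isLocalization_stalk ⟨x, hxV⟩
    rw [IsLocalization.AtPrime.ringKrullDim_eq_height q (X.presheaf.stalk x)] at hdim1
    exact_mod_cast hdim1
  have hu : Algebra.IsUnramifiedAt Γ(Y, U) q := by
    refine isUnramifiedAt_of_height_one q hq1 fun P _ hPq hP1 => ?_
    let z : X := hV.fromSpec ⟨P, inferInstance⟩
    have hzV : z ∈ V := hV.range_fromSpec.le ⟨_, rfl⟩
    have hsp : z ⤳ x := by
      have := ((PrimeSpectrum.le_iff_specializes ⟨P, inferInstance⟩ (hV.primeIdealOf ⟨x, hxV⟩)).mp hPq).map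
        hV.fromSpec.continuous
      rwa [hV.fromSpec_primeIdealOf] at this
    have hzP : (hV.primeIdealOf ⟨z, hzV⟩).asIdeal = P := by
      have : hV.primeIdealOf ⟨z, hzV⟩ = ⟨P, inferInstance⟩ :=
        hV.fromSpec.isOpenEmbedding.injective (hV.fromSpec_primeIdealOf _)
      rw [this]
    suffices Algebra.FormallyUnramified Γ(Y, U) (Localization.AtPrime (hV.primeIdealOf ⟨z, hzV⟩).asIdeal) by
      have key : ∀ (P₀ : Ideal Γ(X, V)) [P₀.IsPrime], P₀ = P →
          Algebra.FormallyUnramified Γ(Y, U) (Localization.AtPrime P₀) →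
          Algebra.FormallyUnramified Γ(Y, U) (Localization.AtPrime P) := by
        rintro _ _ rfl h'
        exact h'
      exact key _ hzP this
    let P' := (hU.primeIdealOf ⟨f z, hVU hzV⟩).asIdeal
    let Q' := (hV.primeIdealOf ⟨z, hzV⟩).asIdeal
    haveI : Q'.LiesOver P' :=
      ⟨congr($(IsAffineOpen.comap_primeIdealOf_appLE U hU V hV hVU hzV).1).symm⟩
    let := Localization.AtPrime.algebraOfLiesOver P' Q'
    have hz1 : ringKrullDim (X.presheaf.stalk z) = 1 := by
      let _ := X.presheaf.algebra_section_stalk (⟨z, hzV⟩ : V)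
      haveI := hV.isLocalization_stalk ⟨z, hzV⟩
      rw [IsLocalization.AtPrime.ringKrullDim_eq_height Q' (X.presheaf.stalk z), show Q' = P from hzP, hP1]
      rfl
    have h1 : Algebra.FormallyUnramified (Localization.AtPrime P') (Localization.AtPrime Q') := by
      rw [← RingHom.formallyUnramified_algebraMap]
      exact (RingHom.FormallyUnramified.respectsIso.arrow_mk_iso_iff
        (IsAffineOpen.arrowStalkMapIso f U hU V hV hVU hzV)).mp (hunr z hsp hz1)
    exact Algebra.FormallyUnramified.comp _ (Localization.AtPrime P') _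
  let := Localization.AtPrime.algebraOfLiesOver p q
  haveI : Algebra.FormallyUnramified Γ(Y, U) (Localization.AtPrime q) := hu
  have hu' : Algebra.FormallyUnramified (Localization.AtPrime p) (Localization.AtPrime q) :=
    Algebra.FormallyUnramified.of_restrictScalars Γ(Y, U) _ _
  refine StalkLoc7.exists_etale f x ?_ (Flat.stalkMap f x)
  rw [← RingHom.formallyUnramified_algebraMap] at hu'
  exact (RingHom.FormallyUnramified.respectsIso.arrow_mk_iso_iff
    (IsAffineOpen.arrowStalkMapIso f U hU V hV hVU hxV)).mpr hu'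

end Groth.Agent.H9PiOne.FlatPurity
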