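import Groth.Agent.H9PiOne.Bilin
import Groth.Agent.H9ProperSupp.Existence
import Groth.Agent.H9Existence.ClosedSystem
import Groth.Agent.ParShLib.ResStalk
import Groth.Agent.CurveGenusCmp.Finite

/-!
# The algebra attached to a finite formal scheme with proper reduction
-/

set_option autoImplicit false
set_option linter.style.haveILetI false
set_option linter.unusedSectionVars false
set_option backward.isDefEq.respectTransparency false
set_option backward.isDefEq.respectTransparency.types false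

universe u

open CategoryTheory CategoryTheory.Limits AlgebraicGeometry TopologicalSpace Opposite

attribute [local instance] HasDerivedCategory.standard

noncomputable section

namespace Groth.Agent.H9PiOne

open Groth.Agent InvX
open Groth.Agent.AmpleVan (scal)

attribute [-instance] CategoryTheory.catToReflQuiver

theorem appLE_surjective_of_eq {Y Z : Scheme.{u}} (f : Y ⟶ Z) [IsClosedImmersion f] {U : Z.Opens}
    (hU : IsAffineOpen U) {V : Y.Opens} (e : V ≤ f ⁻¹ᵁ U) (h : V = f ⁻¹ᵁ U) :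
    Function.Surjective (f.appLE U V e).hom := by
  subst h
  rw [← Scheme.Hom.app_eq_appLE]
  exact f.app_surjective U hU

theorem appLE_eq_zero_iff_of_eq {Y Z : Scheme.{u}} (f : Y ⟶ Z) {U : Z.Opens} {V : Y.Opens} (e : V ≤ f ⁻¹ᵁ U)
    (h : V = f ⁻¹ᵁ U) (b : Γ(Z, U)) : f.appLE U V e b = 0 ↔ f.app U b = 0 := by
  subst h
  rw [← Scheme.Hom.app_eq_appLE]

variable {A : Type u} [CommRing A] {I : Ideal A} {X : Scheme.{u}} [X.Over (Spec (CommRingCat.of A))]
  (S : AmpleVan.AdicSys A I) (ρ : ∀ n, S.X n ⟶ X)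
  (hr : ∀ n, ρ n ≫ (X ↘ Spec (CommRingCat.of A)) = S.X n ↘ Spec (CommRingCat.of A))
  (ht : ∀ n, S.i n ≫ ρ (n + 1) = ρ n)

/-- The direct image of the structure sheaf of a level. -/
abbrev Gl (n : ℕ) : X.Modules := (Scheme.Modules.pushforward (ρ n)).obj (Coh.structureModule (S.X n))

/-- The multiplication of the sections of a level. -/
def gmul (n : ℕ) {U : X.Opens} (a b : Γ(Gl S ρ n, U)) : Γ(Gl S ρ n, U) :=
  (show Γ(S.X n, ρ n ⁻¹ᵁ U) from (show Γ(S.X n, ρ n ⁻¹ᵁ U) from a) * (show Γ(S.X n, ρ n ⁻¹ᵁ U) from b))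

/-- The unit section of a level. -/
def gone (n : ℕ) (U : X.Opens) : Γ(Gl S ρ n, U) := (1 : Γ(S.X n, ρ n ⁻¹ᵁ U))

include ht in
theorem preimage_eq (n : ℕ) (U : X.Opens) : ρ n ⁻¹ᵁ U = S.i n ⁻¹ᵁ (ρ (n + 1) ⁻¹ᵁ U) := by
  rw [← Scheme.Hom.comp_preimage, ht n]

include ht in
theorem appLE_app (n : ℕ) (U : X.Opens) (r : Γ(X, U)) :
    (S.i n).appLE (ρ (n + 1) ⁻¹ᵁ U) (ρ n ⁻¹ᵁ U) (preimage_eq S ρ ht n U).le ((ρ (n + 1)).app U r) =
      (ρ n).app U r := by
  have key : ∀ (χ : S.X n ⟶ X), χ = S.i n ≫ ρ (n + 1) → ∀ (V : (S.X n).Opens)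
      (e₁ : V ≤ S.i n ⁻¹ᵁ (ρ (n + 1) ⁻¹ᵁ U)) (e₂ : V ≤ χ ⁻¹ᵁ U),
      (S.i n).appLE (ρ (n + 1) ⁻¹ᵁ U) V e₁ ((ρ (n + 1)).app U r) = χ.appLE U V e₂ r := by
    rintro _ rfl V e₁ e₂
    rw [Scheme.Hom.app_eq_appLE]
    exact congr($(Scheme.Hom.appLE_comp_appLE (S.i n) (ρ (n + 1)) U (ρ (n + 1) ⁻¹ᵁ U) V le_rfl e₁) r)
  refine (key (ρ n) (ht n).symm _ _ le_rfl).trans ?_
  rw [← Scheme.Hom.app_eq_appLE]

/-- The transition between levels. -/
def gtr (n : ℕ) : Gl S ρ (n + 1) ⟶ Gl S ρ n :=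
  ⟨PresheafOfModules.homMk
    { app := fun U => AddCommGrpCat.ofHom
        ((S.i n).appLE (ρ (n + 1) ⁻¹ᵁ U.unop) (ρ n ⁻¹ᵁ U.unop) (preimage_eq S ρ ht n U.unop).le).hom.toAddMonoidHom
      naturality := fun U V i => by
        ext b
        have h1 := Scheme.Hom.map_appLE (S.i n) (preimage_eq S ρ ht n V.unop).le
          (homOfLE ((ρ (n + 1)).preimage_mono i.unop.le)).op
        have h2 := Scheme.Hom.appLE_map (S.i n) (preimage_eq S ρ ht n U.unop).le
          (homOfLE ((ρ n).preimage_mono i.unop.le)).op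
        exact congr($(h1.trans h2.symm) b) }
    (fun U r b => by
      show (S.i n).appLE (ρ (n + 1) ⁻¹ᵁ U.unop) (ρ n ⁻¹ᵁ U.unop) (preimage_eq S ρ ht n U.unop).le
          ((ρ (n + 1)).app U.unop r * (show Γ(S.X (n + 1), ρ (n + 1) ⁻¹ᵁ U.unop) from b)) =
        (ρ n).app U.unop r * _
      rw [map_mul, appLE_app S ρ ht n U.unop]
      rfl)⟩

theorem gtr_app (n : ℕ) {U : X.Opens} (b : Γ(Gl S ρ (n + 1), U)) :
    (gtr S ρ ht n).app U b =
      (show Γ(Gl S ρ n, U) from (S.i n).appLE (ρ (n + 1) ⁻¹ᵁ U) (ρ n ⁻¹ᵁ U) (preimage_eq S ρ ht n U).le b) :=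
  rfl

theorem gtr_gmul (n : ℕ) {U : X.Opens} (a b : Γ(Gl S ρ (n + 1), U)) :
    (gtr S ρ ht n).app U (gmul S ρ (n + 1) a b) = gmul S ρ n ((gtr S ρ ht n).app U a) ((gtr S ρ ht n).app U b) :=
  map_mul ((S.i n).appLE (ρ (n + 1) ⁻¹ᵁ U) (ρ n ⁻¹ᵁ U) (preimage_eq S ρ ht n U).le).hom _ _

theorem gtr_gone (n : ℕ) (U : X.Opens) : (gtr S ρ ht n).app U (gone S ρ (n + 1) U) = gone S ρ n U :=
  map_one ((S.i n).appLE (ρ (n + 1) ⁻¹ᵁ U) (ρ n ⁻¹ᵁ U) (preimage_eq S ρ ht n U).le).hom

variable [IsNoetherianRing A] [∀ n, IsFinite (ρ n)] [LocallyOfFiniteType (X ↘ Spec (CommRingCat.of A))]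
  (hp : IsProper (S.p 0))

include hp in
theorem isCoh_Gl (n : ℕ) : Coh.IsCoh (Gl S ρ n) := by
  haveI : IsLocallyNoetherian X := LocallyOfFiniteType.isLocallyNoetherian (X ↘ Spec (CommRingCat.of A))
  haveI := S.isLocallyNoetherian hp n
  exact QCoh.isCoh_pushforward_finite (ρ n)
    (KRRReg.isCoh_of_finLocFree (ParaFX.FlatDesc.isFinLocFree_of_invertible InvX.isInvertible_structureModule))

include hr in
theorem killedBy_Gl (n : ℕ) : Formal.KilledBy (I ^ (n + 1)) (Gl S ρ n) := fun a ha => by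
  rw [← AmpleVan.push_map_smulMod (ρ n) (hr n), S.smulMod_eq_zero n _ ha, Functor.map_zero]

include hr hp in
theorem isQuot_gtr (n : ℕ) : Algz7.IsQuot (I ^ (n + 1)) (gtr S ρ ht n) := by
  have hq := fun m => (isCoh_Gl S ρ hp m).1
  haveI : Epi (gtr S ρ ht n) := LimMod.epi_of_surjective (gtr S ρ ht n) (fun U : X.affineOpens => U.1)
    (fun U => U.2) (fun x => by
      obtain ⟨_, ⟨U, hU, rfl⟩, hxU, -⟩ := X.isBasis_affineOpens.exists_subset_of_mem_open (Set.mem_univ x) isOpen_univ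
      exact ⟨⟨U, hU⟩, hxU⟩) (hq (n + 1)) (hq n) fun U b => by
    obtain ⟨a, ha⟩ := appLE_surjective_of_eq (S.i n) (U.2.preimage (ρ (n + 1)))
      (preimage_eq S ρ ht n U.1).le (preimage_eq S ρ ht n U.1) b
    exact ⟨a, ha⟩
  refine Algz7.IsQuot.mk' _ (killedBy_Gl S ρ hr n) fun {T} φ hφ => ?_
  have hw : kernel.ι (gtr S ρ ht n) ≫ φ = 0 := by
    refine LimMod.hom_ext_basis (P := IsAffineOpen) (H9Existence.exists_affine_nhd X) _ _ fun U hU y => ?_
    let x := (kernel.ι (gtr S ρ ht n)).app U y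
    have hx : (gtr S ρ ht n).app U x = 0 := congr(($(kernel.condition (gtr S ρ ht n))).app U y)
    rw [gtr_app] at hx
    let V : (S.X (n + 1)).Opens := ρ (n + 1) ⁻¹ᵁ U
    have hV : IsAffineOpen V := hU.preimage (ρ (n + 1))
    have hx' := (appLE_eq_zero_iff_of_eq (S.i n) (preimage_eq S ρ ht n U).le (preimage_eq S ρ ht n U) x).1 hx
    rw [← RingHom.mem_ker, ← FComplLib.ideal_ker (S.i n) ⟨V, hV⟩,
      AmpleVan.ker_ideal_of_isPullback (S.square_i n) ⟨V, hV⟩] at hx'
    have hscal : ((ρ (n + 1)).app U).hom.comp (scal A U) = scal A V := by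
      ext c
      show (ρ (n + 1)).app U (Coh.resTop X (op U) _) = _
      rw [AmpleVan.resTop_app]
      exact congrArg (Coh.resTop (S.X (n + 1)) (op V))
        congr(($(hr (n + 1))).appTop ((Scheme.ΓSpecIso (CommRingCat.of A)).inv c))
    show φ.app U x = 0
    suffices h : ∀ z ∈ (I ^ (n + 1)).map (scal A V), φ.app U (show Γ(Gl S ρ (n + 1), U) from z) = 0 from h _ hx'
    have key : ∀ d ∈ (I ^ (n + 1)).map (scal A U), ∀ v : Γ(Gl S ρ (n + 1), U), φ.app U (d • v) = 0 := by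
      intro d hd
      induction hd using Submodule.span_induction with
      | mem d hd =>
        obtain ⟨a, ha, rfl⟩ := hd
        exact fun v => congr(($(Algz7.smulMod_comp_eq_zero hφ ha)).app U v)
      | zero => intro v; rw [zero_smul, map_zero]
      | add d d' _ _ hd hd' => intro v; rw [add_smul, map_add, hd v, hd' v, add_zero]
      | smul t d _ hd => intro v; rw [smul_eq_mul, mul_comm, mul_smul]; exact hd _
    intro z hz
    rw [← hscal, ← Ideal.map_map] at hz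
    refine Submodule.span_induction ?_ ?_ ?_ ?_ hz (p := fun w _ => ∀ c : Γ(S.X (n + 1), V),
      φ.app U (show Γ(Gl S ρ (n + 1), U) from c * w) = 0) 1 |> fun h => by rwa [one_mul] at h
    · rintro _ ⟨d, hd, rfl⟩ c
      show φ.app U (show Γ(Gl S ρ (n + 1), U) from c * (ρ (n + 1)).app U d) = 0
      rw [mul_comm]
      show φ.app U (d • (show Γ(Gl S ρ (n + 1), U) from c)) = 0
      exact key d hd _
    · intro c
      rw [mul_zero]
      exact map_zero _
    · intro p q _ _ h1 h2 c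
      rw [mul_add]
      exact (map_add _ _ _).trans (by rw [h1 c, h2 c, add_zero])
    · intro r p _ h1 c
      rw [smul_eq_mul, ← mul_assoc]
      exact h1 _
  let ψ := (ShortComplex.exact_kernel (gtr S ρ ht n)).desc φ hw
  exact ⟨ψ, (ShortComplex.exact_kernel (gtr S ρ ht n)).g_desc _ _⟩

section Alg

variable [IsAdicComplete I A] [IsSeparated (X ↘ Spec (CommRingCat.of A))]
  [QuasiCompact (X ↘ Spec (CommRingCat.of A))]

/-- A coherent module with proper support completing to the system of levels. -/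
structure AlgModel where
  /-- The module. -/
  M : X.Modules
  coh : Coh.IsCoh M
  ps : H9ProperSupp.PS (A := A) M
  /-- The reductions. -/
  v : ∀ n, M ⟶ Gl S ρ n
  quot : ∀ n, Algz7.IsQuot (I ^ (n + 1)) (v n)
  compat : ∀ n, v (n + 1) ≫ gtr S ρ ht n = v n

include hr hp in
theorem nonempty_algModel : Nonempty (AlgModel S ρ ht) := by
  haveI : IsLocallyNoetherian X := LocallyOfFiniteType.isLocallyNoetherian (X ↘ Spec (CommRingCat.of A))
  let G : ℕᵒᵖ ⥤ X.Modules := Functor.ofOpSequence (X := Gl S ρ) (gtr S ρ ht)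
  have hGm : ∀ n, G.map (homOfLE (Nat.le_succ n)).op = gtr S ρ ht n := fun n =>
    Functor.ofOpSequence_map_homOfLE_succ (gtr S ρ ht) n
  have hG : Formal.IsCohFormal I G := ⟨isCoh_Gl S ρ hp, killedBy_Gl S ρ hr, fun n => by
    rw [hGm]; exact isQuot_gtr S ρ hr ht hp n⟩
  have hG0 : H9ProperSupp.PS (A := A) (G.obj (op 0)) := by
    haveI : IsProper (ρ 0 ≫ (X ↘ Spec (CommRingCat.of A))) := by
      rw [hr 0]; exact S.isProper_str₀ hp
    exact QCoh.IsProperOver.subset (QCoh.isProperOver_range (ρ 0)) (H9ProperSupp.isClosed_support (hG.1 0))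
      (H9ProperSupp.support_push_subset_of_closed (ρ 0) (hG.1 0).1 (ρ 0).isClosedMap.isClosed_range
        fun x _ => ⟨x, rfl⟩)
  obtain ⟨M, hM, hMs, ⟨c⟩⟩ := H9ProperSupp.exists_algebraization_ps I X hG hG0
  refine ⟨⟨M, hM, hMs, fun n => Formal.modPowπ I (n + 1) M ≫ c.hom.app (op n), fun n => ?_, fun n => ?_⟩⟩
  · obtain ⟨h0, hiso⟩ := Algz7.isQuot_modPowπ I (n + 1) M
    haveI := hiso
    haveI : IsIso (c.hom.app (op n)) := inferInstance
    have h1 : Formal.smulFamily (I ^ (n + 1)) M ≫ Formal.modPowπ I (n + 1) M ≫ c.hom.app (op n) = 0 := by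
      rw [← Category.assoc, h0]; exact zero_comp
    refine ⟨h1, ?_⟩
    rw [show cokernel.desc _ _ h1 = cokernel.desc _ _ h0 ≫ c.hom.app (op n) from
      coequalizer.hom_ext (by simp)]
    infer_instance
  · rw [Category.assoc, ← hGm n]
    erw [← c.hom.naturality (homOfLE (Nat.le_succ n)).op]
    rw [Algz7.completion_map_succ, ← Category.assoc, Formal.modPowπ_trans]

variable {S ρ ht} (D : AlgModel S ρ ht)

include hr hp in
set_option maxHeartbeats 800000 in
/-- A compatible family of morphisms to the levels lifts uniquely to the model. -/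
theorem AlgModel.existsUnique_lift {N : X.Modules} (hN : Coh.IsCoh N) (w : ∀ n, N ⟶ Gl S ρ n)
    (hw : ∀ n, w (n + 1) ≫ gtr S ρ ht n = w n) : ∃! φ : N ⟶ D.M, ∀ n, φ ≫ D.v n = w n := by
  choose τ' hτ' using fun n => (Algz7.isQuot_modPowπ I (n + 1) N).desc (w n)
    (Algz7.smulFamily_comp_eq_zero (fun a ha => killedBy_Gl S ρ hr n a ha) _)
  choose σ' hσ' using fun n => (D.quot n).desc (Formal.modPowπ I (n + 1) D.M) (Algz7.isQuot_modPowπ I (n + 1) D.M).1
  choose ξ hξ using fun n => (Algz7.isQuot_modPowπ I (n + 1) D.M).desc (D.v n) (D.quot n).1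
  have hσξ : ∀ n, σ' n ≫ ξ n = 𝟙 _ := fun n => by
    haveI := (D.quot n).epi
    rw [← cancel_epi (D.v n), ← Category.assoc, hσ', hξ, Category.comp_id]
  have hξσ : ∀ n, ξ n ≫ σ' n = 𝟙 _ := fun n => by
    haveI := (Algz7.isQuot_modPowπ I (n + 1) D.M).epi
    rw [← cancel_epi (Formal.modPowπ I (n + 1) D.M), ← Category.assoc, hξ, hσ', Category.comp_id]
  let ψ : Formal.completion I N ⟶ Formal.completion I D.M :=
    NatTrans.ofOpSequence (fun n => τ' n ≫ σ' n) fun n => by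
      haveI := (Algz7.isQuot_modPowπ I (n + 1 + 1) N).epi
      have hA : Formal.modPowTrans I (n + 1) N ≫ τ' n = τ' (n + 1) ≫ gtr S ρ ht n := by
        rw [← cancel_epi (Formal.modPowπ I (n + 1 + 1) N), ← Category.assoc, Formal.modPowπ_trans, hτ',
          ← Category.assoc, hτ', hw]
      have hT : σ' (n + 1) ≫ Formal.modPowTrans I (n + 1) D.M = gtr S ρ ht n ≫ σ' n := by
        haveI := (D.quot (n + 1)).epi
        rw [← cancel_epi (D.v (n + 1)), ← Category.assoc, hσ', ← Category.assoc, D.compat, hσ']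
        exact Formal.modPowπ_trans _ _ _
      show (Formal.completion I N).map (homOfLE (Nat.le_succ n)).op ≫ τ' n ≫ σ' n =
        (τ' (n + 1) ≫ σ' (n + 1)) ≫ (Formal.completion I D.M).map (homOfLE (Nat.le_succ n)).op
      rw [Algz7.completion_map_succ, Algz7.completion_map_succ, Category.assoc, hT, ← Category.assoc, hA,
        Category.assoc]
  have hiff : ∀ φ : N ⟶ D.M, (∀ n, Formal.modPowπ I (n + 1) N ≫ ψ.app (op n) = φ ≫ Formal.modPowπ I (n + 1) D.M) ↔
      ∀ n, φ ≫ D.v n = w n := fun φ => forall_congr' fun n => by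
    show Formal.modPowπ I (n + 1) N ≫ τ' n ≫ σ' n = _ ↔ _
    rw [← Category.assoc, hτ']
    constructor
    · intro h
      rw [← hξ n, ← Category.assoc, ← h, Category.assoc, hσξ, Category.comp_id]
    · intro h
      rw [← h, Category.assoc, hσ']
  obtain ⟨φ, h1, h2⟩ := SheafHomX.existsUnique_of_proper I hN D.coh D.ps Set.inter_subset_right ψ
  exact ⟨φ, (hiff φ).1 h1, fun φ' h' => h2 φ' ((hiff φ').2 h')⟩

include hr hp in
/-- Morphisms into the model agree if they agree on all levels. -/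
theorem AlgModel.hom_ext {N : X.Modules} (hN : Coh.IsCoh N) {φ ψ : N ⟶ D.M}
    (h : ∀ n, φ ≫ D.v n = ψ ≫ D.v n) : φ = ψ :=
  (D.existsUnique_lift hr hp hN (fun n => ψ ≫ D.v n) fun n => by rw [Category.assoc, D.compat]).unique h
    fun _ => rfl

theorem gmul_smul_left (n : ℕ) {U : X.Opens} (r : Γ(X, U)) (a b : Γ(Gl S ρ n, U)) :
    gmul S ρ n (r • a) b = r • gmul S ρ n a b :=
  mul_assoc (show Γ(S.X n, ρ n ⁻¹ᵁ U) from (ρ n).app U r) _ _

theorem gmul_smul_right (n : ℕ) {U : X.Opens} (r : Γ(X, U)) (a b : Γ(Gl S ρ n, U)) :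
    gmul S ρ n a (r • b) = r • gmul S ρ n a b :=
  mul_left_comm (show Γ(S.X n, ρ n ⁻¹ᵁ U) from a) _ _

theorem gmul_add_left (n : ℕ) {U : X.Opens} (a a' b : Γ(Gl S ρ n, U)) :
    gmul S ρ n (a + a') b = gmul S ρ n a b + gmul S ρ n a' b :=
  add_mul (show Γ(S.X n, ρ n ⁻¹ᵁ U) from a) _ _

theorem gmul_add_right (n : ℕ) {U : X.Opens} (a b b' : Γ(Gl S ρ n, U)) :
    gmul S ρ n a (b + b') = gmul S ρ n a b + gmul S ρ n a b' :=
  mul_add (show Γ(S.X n, ρ n ⁻¹ᵁ U) from a) _ _

/-- The product of two sections read on a level. -/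
def mulB (n : ℕ) : Bilin D.M D.M (Gl S ρ n) where
  b U a c := gmul S ρ n ((D.v n).app U a) ((D.v n).app U c)
  add_left U a a' c := by rw [map_add]; exact gmul_add_left n _ _ _
  add_right U a c c' := by rw [map_add]; exact gmul_add_right n _ _ _
  smul_left U r a c := by rw [Scheme.Modules.Hom.app_smul]; exact gmul_smul_left n _ _ _
  smul_right U r a c := by rw [Scheme.Modules.Hom.app_smul]; exact gmul_smul_right n _ _ _
  res {U V} h a c := by
    rw [AModX.app_res, AModX.app_res]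
    exact map_mul ((S.X n).presheaf.map (homOfLE ((ρ n).preimage_mono h)).op).hom _ _

/-- The flipped tensor. -/
def swapB (M : X.Modules) : Bilin M M (CohB1.tensorMod M M) where
  b _ a c := tmul c a
  add_left U a a' c := (congrArg _ (KFlatLib.tm_add_right _ _ _)).trans (map_add _ _ _)
  add_right U a c c' := AmpleVan.tmul_add_left c c' a
  smul_left U r a c := tmul_smul_right r c a
  smul_right U r a c := tmul_smul_left r c a
  res h a c := res_tmul h c a

theorem isCoh_tensor [IsLocallyNoetherian X] : Coh.IsCoh (CohB1.tensorMod D.M D.M) :=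
  ParShLib.isCoh_tensorMod D.coh D.coh

include hr hp in
theorem exists_mul : ∃ μ : CohB1.tensorMod D.M D.M ⟶ D.M, ∀ (n : ℕ) (U : X.Opens) (a c : Γ(D.M, U)),
    (D.v n).app U (μ.app U (tmul a c)) = gmul S ρ n ((D.v n).app U a) ((D.v n).app U c) := by
  haveI : IsLocallyNoetherian X := LocallyOfFiniteType.isLocallyNoetherian (X ↘ Spec (CommRingCat.of A))
  obtain ⟨μ, hμ, -⟩ := D.existsUnique_lift hr hp (isCoh_tensor D) (fun n => (mulB D n).hom) fun n => by
    refine AmpleVan.hom_ext_tmul fun U a c => ?_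
    show (gtr S ρ ht n).app U ((mulB D (n + 1)).hom.app U (tmul a c)) = (mulB D n).hom.app U (tmul a c)
    rw [(mulB D (n + 1)).hom_tmul, (mulB D n).hom_tmul]
    show (gtr S ρ ht n).app U (gmul S ρ (n + 1) _ _) = gmul S ρ n _ _
    rw [gtr_gmul S ρ ht n, ← D.compat n]
    rfl
  exact ⟨μ, fun n U a c => congr(($(hμ n)).app U (tmul a c)).trans ((mulB D n).hom_tmul a c)⟩

include hr hp in
theorem exists_one : ∃ e : Coh.structureModule X ⟶ D.M, ∀ (n : ℕ) (U : X.Opens),
    (D.v n).app U (e.app U (1 : Γ(X, U))) = gone S ρ n U := by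
  haveI : IsLocallyNoetherian X := LocallyOfFiniteType.isLocallyNoetherian (X ↘ Spec (CommRingCat.of A))
  obtain ⟨e, he, -⟩ := D.existsUnique_lift hr hp
    (KRRReg.isCoh_of_finLocFree (ParaFX.FlatDesc.isFinLocFree_of_invertible InvX.isInvertible_structureModule))
    (fun n => CurveGenusCmp.unitMap (ρ n)) fun n => by
      refine QCoh.hom_ext_app fun U r => ?_
      show (gtr S ρ ht n).app U ((CurveGenusCmp.unitMap (ρ (n + 1))).app U r) = (CurveGenusCmp.unitMap (ρ n)).app U r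
      rw [CurveGenusCmp.unitMap_app, CurveGenusCmp.unitMap_app, gtr_app]
      exact appLE_app S ρ ht n U r
  refine ⟨e, fun n U => ?_⟩
  refine (congr(($(he n)).app U (1 : Γ(X, U)))).trans ?_
  rw [CurveGenusCmp.unitMap_app]
  exact map_one ((ρ n).app U).hom

end Alg

end Groth.Agent.H9PiOne

end
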