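import Groth.Agent.FBaseLib.Components
import Mathlib.AlgebraicGeometry.Geometrically.Connected

/-!
# Geometric connectedness over a field from one algebraically closed extension
-/

set_option autoImplicit false
set_option linter.style.haveILetI false
set_option backward.isDefEq.respectTransparency false

universe u

open CategoryTheory CategoryTheory.Limits AlgebraicGeometry

namespace Groth.Agent.H9PiOne

open Groth.Agent

/-- Over a field, connectedness over one algebraically closed extension gives geometric connectedness. -/
theorem geometricallyConnected_of_bc {k : Type u} [Field k] {X : Scheme.{u}}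
    (f : X ⟶ Spec (CommRingCat.of k)) (Ω : Type u) [Field Ω] [Algebra k Ω] [IsAlgClosed Ω]
    (h : ConnectedSpace ↥(pullback f (Spec.map (CommRingCat.ofHom (algebraMap k Ω))))) :
    GeometricallyConnected f := by
  refine ⟨geometrically_iff_of_isClosedUnderIsomorphisms.mpr fun K _ y => ?_⟩
  obtain ⟨φ, rfl⟩ := Spec.map_surjective y
  letI : Algebra k K := φ.hom.toAlgebra
  haveI hΩ : ConnectedSpace ↥(FBase.bc f Ω) := h
  have h1 := FBaseLib.mk_connectedComponents_le f K Ω
  haveI : Subsingleton (_root_.ConnectedComponents ↥(FBase.bc f K)) :=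
    Cardinal.le_one_iff_subsingleton.1 (h1.trans (Cardinal.le_one_iff_subsingleton.2 inferInstance))
  haveI : PreconnectedSpace ↥(FBase.bc f K) := preconnectedSpace_iff_connectedComponent.2 fun x =>
    Set.eq_univ_of_forall fun z => ConnectedComponents.coe_eq_coe'.1 (Subsingleton.elim _ _)
  haveI : Nonempty ↥(FBase.bc f K) := by
    obtain ⟨w⟩ := (inferInstance : Nonempty ↥(FBase.bc f Ω))
    obtain ⟨z, -⟩ := (FBaseLib.surjective_bcπ f K).surj ((FBase.bcπ f Ω).base w)
    exact ⟨z⟩
  show ConnectedSpace ↥(FBase.bc f K)
  exact { toNonempty := inferInstance }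

end Groth.Agent.H9PiOne
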