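import Groth.Agent.H9PiOne.SepClosedBC
import Groth.Agent.H9PiOne.FEtAffineBC
import Groth.Agent.H9PiOne.FEtStage
import Groth.Agent.Pi1X.FEtBasic

/-!
# Covers of a geometric fibre are clopen pieces of covers defined over the field
-/

set_option autoImplicit false
set_option linter.style.haveILetI false
set_option linter.unusedSectionVars false
set_option backward.isDefEq.respectTransparency false
set_option backward.isDefEq.respectTransparency.types false

universe u

open CategoryTheory CategoryTheory.Limits AlgebraicGeometry TopologicalSpace Pi1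

noncomputable section

namespace Groth.Agent.H9PiOne

open Groth.Agent

attribute [-instance] CategoryTheory.catToReflQuiver

variable {k : Type u} [Field k] (K : Type u) [Field K] [IsAlgClosed K] [Algebra k K]
  {X : Scheme.{u}} (f : X ⟶ Spec (CommRingCat.of k)) [IsProper f]

/-- Covers of the base change to an algebraically closed field come from the separable closure. -/
theorem liftsFEt_separableClosure : LiftsFEt (bcMap f ((separableClosure k K).val)) := by
  let k' := separableClosure k K
  let f' : bcA f k' ⟶ Spec (CommRingCat.of k') := bcA.snd f k'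
  haveI : IsProper f' := MorphismProperty.pullback_snd (P := @IsProper) _ _ ‹_›
  haveI : IsSepClosed k' := IsSepClosure.sep_closed k
  haveI := restrict_sepClosed_isEquivalence k' K f'
  have sq := isPullback_bcMap f k'.val
  exact (liftsFEt_of_essSurj (bcA.fst f' K)).of_iso sq.isoPullback sq.isoPullback_hom_fst

/-- A cover of the base change to an algebraically closed field comes from a finite separable extension. -/
theorem exists_cover_finite_separable (V : FEt.Cat (bcA f K)) :
    ∃ (L : Type u) (_ : CommRing L) (_ : Algebra k L) (φ : L →ₐ[k] K) (W : FEt.Cat (bcA f L)),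
      Module.Finite k L ∧ Algebra.Etale k L ∧ Nonempty ((FEt.restrict (bcMap f φ)).obj W ≅ V) := by
  let k' := separableClosure k K
  obtain ⟨V', ⟨e'⟩⟩ := liftsFEt_separableClosure K f V
  obtain ⟨s, W, ⟨e⟩⟩ := exists_fet_adjoin f k' V'
  let R := Algebra.adjoin k (s : Set k')
  haveI : Algebra.IsSeparable k k' := inferInstance
  haveI : Module.Finite k R := Module.Finite.iff_fg.2
    (fg_adjoin_of_finite s.finite_toSet fun x _ => Algebra.IsIntegral.isIntegral x)
  letI : Field R := (isField_of_isIntegral_of_isField' (Field.toIsField k) : IsField R).toField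
  haveI : Algebra.IsSeparable k R := Algebra.IsSeparable.of_algHom k k' R.val
  haveI : Algebra.FormallyEtale k R := Algebra.FormallyEtale.of_isSeparable k R
  haveI : Algebra.FinitePresentation k R := Algebra.FinitePresentation.of_finiteType.1 inferInstance
  haveI : Algebra.Etale k R := { }
  refine ⟨R, inferInstance, inferInstance, k'.val.comp R.val, W, inferInstance, inferInstance, ⟨?_⟩⟩
  have h : bcMap f (k'.val.comp R.val) = bcMap f k'.val ≫ bcMap f R.val := by
    refine pullback.hom_ext ?_ ?_
    · simp
    · simp only [Category.assoc, bcMap_snd, bcMap_snd_assoc]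
      rw [← Spec.map_comp]
      rfl
  exact Pi1Ext.Spread.restrictComp _ _ _ h W ≪≫ (FEt.restrict (bcMap f k'.val)).mapIso e ≪≫ e'

/-- A cover of the base change to an algebraically closed field is a clopen piece of the restriction of a
cover. -/
theorem exists_cover_clopen_piece (V : FEt.Cat (bcA f K)) :
    ∃ (U : FEt.Cat X) (ι : V ⟶ (FEt.restrict (bcA.fst f K)).obj U),
      IsOpenImmersion ι.left ∧ IsClosedImmersion ι.left := by
  obtain ⟨L, _, _, φ, W, hfin, het, ⟨e⟩⟩ := exists_cover_finite_separable K f V
  have hd : FEt.prop (Spec.map (CommRingCat.ofHom (algebraMap k L))) :=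
    ⟨(IsFinite.SpecMap_iff _).2 (RingHom.finite_algebraMap.2 hfin),
      (HasRingHomProperty.Spec_iff (P := @Etale)).2 (RingHom.etale_algebraMap.2 het)⟩
  let a : bcA f K ⟶ bcA f L := bcMap f φ
  let U : FEt.Cat X := MorphismProperty.Over.mk ⊤ (W.hom ≫ bcA.fst f L)
    (MorphismProperty.comp_mem _ _ _ W.prop (MorphismProperty.pullback_fst _ _ hd))
  let i : pullback W.hom a ⟶ pullback (W.hom ≫ bcA.fst f L) (bcA.fst f K) :=
    pullback.lift (pullback.fst W.hom a) (pullback.snd W.hom a)
      (by rw [pullback.condition_assoc]; simp [a])
  let j : V.left ⟶ pullback W.hom a := e.inv.left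
  have hj : j ≫ pullback.snd W.hom a = V.hom := MorphismProperty.Over.w e.inv
  let ι : V ⟶ (FEt.restrict (bcA.fst f K)).obj U := MorphismProperty.Over.homMk (j ≫ i) (by
    show (j ≫ i) ≫ pullback.snd _ _ = V.hom
    rw [Category.assoc, pullback.lift_snd, hj])
  have hι : ι.left = j ≫ i := rfl
  haveI hp := Pi1X.prop_left ι
  haveI : IsFinite ι.left := hp.1
  haveI : Etale ι.left := hp.2
  haveI : IsIso j := by
    show IsIso ((MorphismProperty.Over.forget _ _ _ ⋙ Over.forget _).map e.inv)
    infer_instance
  haveI : Mono i := ⟨fun u v huv => by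
    refine pullback.hom_ext ?_ ?_
    · simpa [i] using congrArg (· ≫ pullback.fst _ _) huv
    · simpa [i] using congrArg (· ≫ pullback.snd _ _) huv⟩
  haveI : Mono ι.left := by rw [hι]; infer_instance
  haveI : IsClosedImmersion ι.left := (IsClosedImmersion.iff_isFinite_and_mono _).2 ⟨inferInstance, inferInstance⟩
  haveI : IsOpenImmersion ι.left := IsOpenImmersion.of_flat_of_mono _
  exact ⟨U, ι, inferInstance, inferInstance⟩

end Groth.Agent.H9PiOne

end
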