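import Groth.Agent.H9PiOne.SepConverse
import Groth.Agent.H23.FiniteFibreSum

/-!
# The geometric fibre count of a quasi-finite separated morphism near a normal point
-/

set_option autoImplicit false
set_option linter.style.haveILetI false
set_option linter.unusedSectionVars false
set_option backward.isDefEq.respectTransparency false
set_option backward.isDefEq.respectTransparency.types false

universe u

open CategoryTheory CategoryTheory.Limits AlgebraicGeometry

noncomputable section

namespace Groth.Agent.H9PiOne

open Groth.Agent

/-- The function field of the spectrum of a field. -/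
theorem nonempty_functionField_equiv (R : CommRingCat.{u}) [IsDomain R] (hR : IsField R) :
    Nonempty (R ≃+* (Spec R).functionField) := by
  letI := hR.toField
  exact ⟨(IsLocalization.atUnits R (nonZeroDivisors R) (S := (Spec R).functionField)
    fun z hz => isUnit_iff_ne_zero.2 (nonZeroDivisors.ne_zero hz)).toRingEquiv⟩

/-- Over an algebraically closed field the points of a quasi-finite scheme are its rational points. -/
theorem card_sections_eq {P : Scheme.{u}} {Ω : Type u} [Field Ω] [IsAlgClosed Ω]
    (q : P ⟶ Spec (CommRingCat.of Ω)) [LocallyQuasiFinite q] [QuasiCompact q] :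
    Nat.card (Pi1X.Lifts (𝟙 (Spec (CommRingCat.of Ω))) q) = Nat.card P := by
  classical
  haveI : IsFinite q := IsFinite.of_locallyQuasiFinite q
  haveI : Finite P := by
    have h := q.finite_preimage_singleton (IsLocalRing.closedPoint Ω)
    refine Set.finite_univ_iff.1 (h.subset fun z _ => ?_)
    exact Subsingleton.elim (α := PrimeSpectrum Ω) _ _
  letI := Fintype.ofFinite P
  have hS : ∀ x ∈ (Finset.univ : Finset P), q x = (𝟙 (Spec (CommRingCat.of Ω)) :) (IsLocalRing.closedPoint Ω) :=
    fun x _ => Subsingleton.elim (α := PrimeSpectrum Ω) _ _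
  have hres : ∀ x : P, (q.residueFieldMap x).hom.Finite := fun x => finite_residueFieldMap q x (q.quasiFiniteAt x)
  have hc := card_lifts_sum q (𝟙 (Spec (CommRingCat.of Ω))) Finset.univ hS (fun x _ => hres x)
  have hone : ∀ x : P, EGA4loc.residueSepDegree q x = 1 := fun x => by
    letI := (q.residueFieldMap x).hom.toAlgebra
    haveI : Module.Finite ((Spec (CommRingCat.of Ω)).residueField (q x)) (P.residueField x) :=
      RingHom.finite_algebraMap.1 (hres x)
    obtain ⟨χ₀, hbij, -⟩ := exists_functionField_residue (Y := Spec (CommRingCat.of Ω)) (q x)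
      (Subsingleton.elim (α := PrimeSpectrum Ω) _ _)
    haveI : IsDomain (CommRingCat.of Ω) := inferInstanceAs (IsDomain Ω)
    obtain ⟨eΩ⟩ := nonempty_functionField_equiv (CommRingCat.of Ω) (Field.toIsField Ω)
    haveI : IsAlgClosed (Spec (CommRingCat.of Ω)).functionField := IsAlgClosed.of_ringEquiv Ω _ eΩ
    haveI : IsAlgClosed ((Spec (CommRingCat.of Ω)).residueField (q x)) :=
      IsAlgClosed.of_ringEquiv _ _ (RingEquiv.ofBijective χ₀.hom hbij)
    refine le_antisymm ((Field.finSepDegree_le_finrank _ _).trans ?_) (Nat.pos_of_ne_zero (NeZero.ne (Field.finSepDegree ((Spec (CommRingCat.of Ω)).residueField (q x)) (P.residueField x))))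
    refine (LinearEquiv.finrank_eq (LinearEquiv.ofBijective
      (Algebra.linearMap ((Spec (CommRingCat.of Ω)).residueField (q x)) (P.residueField x))
      ⟨RingHom.injective _, (IsAlgClosed.algebraMap_bijective_of_isIntegral).2⟩)).symm.trans
      (Module.finrank_self _) |>.le
  rw [Finset.sum_congr rfl fun x _ => hone x, Finset.sum_const, smul_eq_mul, mul_one, Finset.card_univ] at hc
  rw [← Nat.card_eq_fintype_card (α := P)] at hc
  rw [← hc]
  exact Nat.card_congr (Equiv.subtypeUnivEquiv fun _ => Finset.mem_univ _).symm

variable {X Y : Scheme.{u}} (f : X ⟶ Y)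

/-- The geometric points of a fibre are the lifts of the geometric point. -/
theorem card_pullback_eq_lifts [LocallyQuasiFinite f] [QuasiCompact f] {Ω : Type u} [Field Ω] [IsAlgClosed Ω]
    (p : Spec (CommRingCat.of Ω) ⟶ Y) : Nat.card ↥(pullback f p) = Nat.card (Pi1X.Lifts p f) := by
  haveI : LocallyQuasiFinite (pullback.snd f p) := inferInstance
  rw [← card_sections_eq (pullback.snd f p)]
  refine Nat.card_congr
    { toFun := fun s => ⟨s.1 ≫ pullback.fst f p, by
        rw [Category.assoc, pullback.condition, ← Category.assoc, s.2, Category.id_comp]⟩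
      invFun := fun a => ⟨pullback.lift a.1 (𝟙 _) (by rw [a.2, Category.id_comp]), pullback.lift_snd _ _ _⟩
      left_inv := fun s => Subtype.ext (pullback.hom_ext (pullback.lift_fst _ _ _)
        ((pullback.lift_snd _ _ _).trans s.2.symm))
      right_inv := fun a => Subtype.ext (pullback.lift_fst _ _ _) }

/-- The degree of the generic fibre is the sum of the residue degrees. -/
theorem finrank_genericFibre [IrreducibleSpace Y] [IsReduced X] [LocallyOfFiniteType f] [LocallyQuasiFinite f]
    [QuasiCompact f] (hfld : IsField (Y.presheaf.stalk (genericPoint Y))) :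
    (letI := (((pullback.snd f (Y.fromSpecResidueField (genericPoint Y))).appTop).hom.comp
      (Scheme.ΓSpecIso (Y.residueField (genericPoint Y))).inv.hom).toAlgebra
     Module.finrank (Y.residueField (genericPoint Y)) Γ(pullback f (Y.fromSpecResidueField (genericPoint Y)), ⊤)) =
      ∑ᶠ x ∈ f ⁻¹' {genericPoint Y}, f.residueDegree x := by
  let η := genericPoint Y
  letI := hfld.toField
  let q := pullback.snd f (Y.fromSpecResidueField η)
  haveI : IsFinite q := IsFinite.of_locallyQuasiFinite q
  haveI : IsAffine (pullback f (Y.fromSpecResidueField η)) := isAffine_of_isAffineHom q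
  let B : CommRingCat.{u} := Γ(pullback f (Y.fromSpecResidueField η), ⊤)
  let a : Y.residueField η ⟶ B := (Scheme.ΓSpecIso _).inv ≫ q.appTop
  have haq : Spec.map a = (pullback f (Y.fromSpecResidueField η)).isoSpec.inv ≫ q := by
    rw [← Scheme.isoSpec_inv_naturality, Scheme.isoSpec_Spec_inv, ← Spec.map_comp]
  let g : Y.presheaf.stalk η ⟶ B := Y.residue η ≫ a
  have hbij : Function.Bijective (Y.residue η).hom := ⟨(Y.residue η).hom.injective, Y.residue_surjective η⟩
  haveI : IsIso (Y.residue η) :=
    (ConcreteCategory.isIso_iff_bijective (Y.residue η)).2 hbij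
  have hg : Spec.map g = Spec.map a ≫ Spec.map (Y.residue η) := Spec.map_comp _ _
  have hfin : g.hom.Finite := by
    refine RingHom.Finite.comp ?_ (RingHom.Finite.of_surjective _ hbij.2)
    exact (IsFinite.SpecMap_iff a).1 (by rw [haq]; infer_instance)
  haveI : IsArtinianRing (Y.presheaf.stalk η) := inferInstance
  have hflat : g.hom.Flat := by
    letI := g.hom.toAlgebra
    show Module.Flat (Y.presheaf.stalk η) B
    infer_instance
  let j : Spec B ⟶ X := (pullback f (Y.fromSpecResidueField η)).isoSpec.inv ≫ pullback.fst _ _
  have hsq : IsPullback j (Spec.map g) f (Y.fromSpecStalk η) := by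
    refine (IsPullback.of_hasPullback f (Y.fromSpecResidueField η)).of_iso
      (pullback f (Y.fromSpecResidueField η)).isoSpec (Iso.refl _) (asIso (Spec.map (Y.residue η))) (Iso.refl _)
      ?_ ?_ ?_ ?_
    · simp [j]
    · rw [hg, haq]; simp [q]
    · simp
    · simp [Scheme.fromSpecResidueField]
  obtain ⟨-, hsum⟩ := H23.FiniteFibreSum.sum_points f η g hfin hflat j hsq
  have hlen : ∀ w ∈ f ⁻¹' {η}, Module.length (X.presheaf.stalk w) (X.presheaf.stalk w) = 1 := by
    intro w hw
    haveI : IsArtinianRing B := by
      letI := g.hom.toAlgebra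
      haveI : Module.Finite (Y.presheaf.stalk η) B := hfin
      exact isArtinian_of_tower (Y.presheaf.stalk η) inferInstance
    haveI : IsPreimmersion j := MorphismProperty.of_isPullback hsq.flip (inferInstance : IsPreimmersion (Y.fromSpecStalk η))
    haveI : Flat (Y.fromSpecStalk η) := GrpSchLib.flat_fromSpecStalk η
    haveI : Flat j := MorphismProperty.of_isPullback hsq.flip inferInstance
    obtain ⟨P, rfl⟩ : ∃ P, j P = w := by
      obtain ⟨z, hz, -⟩ := Scheme.Pullback.exists_preimage_pullback (f := f)
        (g := Y.fromSpecResidueField η) w (IsLocalRing.closedPoint (Y.residueField η))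
        ((hw : f w = η).trans (Scheme.fromSpecResidueField_apply _ _).symm)
      refine ⟨(pullback f (Y.fromSpecResidueField η)).isoSpec.hom z, ?_⟩
      rw [← Scheme.Hom.comp_apply]
      simp [j, hz]
    have hb := H23.FiniteFibreSum.bijective_stalkMap j P
    let e := RingEquiv.ofBijective _ hb
    letI := H23.FiniteFibreSum.stalkAlg B P
    haveI : IsLocalization.AtPrime ((Spec B).presheaf.stalk P) P.asIdeal :=
      StructureSheaf.IsLocalization.to_stalk B P
    haveI : IsArtinianRing ((Spec B).presheaf.stalk P) :=
      IsArtinianRing.localization_artinian P.asIdeal.primeCompl _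
    haveI : IsArtinianRing (X.presheaf.stalk (j P)) := Function.Surjective.isArtinianRing (f := e.symm.toRingHom) e.symm.surjective
    have hF : IsField (X.presheaf.stalk (j P)) := IsArtinianRing.isField_of_isReduced_of_isLocalRing _
    haveI : IsSimpleModule (X.presheaf.stalk (j P)) (X.presheaf.stalk (j P)) := by
      letI := hF.toField
      exact inferInstance
    exact Module.length_eq_one _ _
  have hlen0 : Module.length (Y.presheaf.stalk η) (Y.presheaf.stalk η) = 1 := Module.length_eq_one _ _
  rw [finsum_mem_congr rfl (g := fun w => f.residueDegree w) (fun w hw => by rw [hlen w hw]; simp), hlen0] at hsum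
  rw [hsum, ENat.toNat_one, mul_one]
  letI := g.hom.toAlgebra
  letI := ((q.appTop).hom.comp (Scheme.ΓSpecIso (Y.residueField η)).inv.hom).toAlgebra
  exact (Algebra.finrank_eq_of_equiv_equiv (RingEquiv.ofBijective (Y.residue η).hom hbij) (RingEquiv.refl _) rfl).symm

end Groth.Agent.H9PiOne

end
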