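import Groth.Agent.H0FBC.GeomRedCov
import Groth.Agent.FBaseLib.Basic

/-!
# Geometric reducedness from reduced geometric fibres
-/

set_option autoImplicit false
set_option linter.style.haveILetI false
set_option backward.isDefEq.respectTransparency false
set_option backward.isDefEq.respectTransparency.types false

universe u

open CategoryTheory CategoryTheory.Limits AlgebraicGeometry

noncomputable section

namespace Groth.Agent.H9PiOne

open Groth.Agent

attribute [-instance] CategoryTheory.catToReflQuiver

/-- A morphism with reduced fibres over algebraically closed fields is geometrically reduced. -/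
theorem geometricallyReduced_of_algClosed {X S : Scheme.{u}} (f : X ⟶ S)
    (h : ∀ (Ω : Type u) [Field Ω] [IsAlgClosed Ω] (s : Spec (CommRingCat.of Ω) ⟶ S), IsReduced (pullback f s)) :
    GeometricallyReduced f :=
  H0FBC.geometricallyReduced_of_forall f fun s K _ k _ => by
    let j : Spec (CommRingCat.of (AlgebraicClosure K)) ⟶ Spec (CommRingCat.of K) :=
      Spec.map (CommRingCat.ofHom (algebraMap K (AlgebraicClosure K)))
    haveI : Surjective j := ⟨fun y => ⟨IsLocalRing.closedPoint _,
      @Subsingleton.elim _ (inferInstanceAs (Subsingleton (PrimeSpectrum K))) _ _⟩⟩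
    haveI : Flat j := (HasRingHomProperty.Spec_iff (P := @Flat)).2 (RingHom.flat_algebraMap_iff.2 inferInstance)
    haveI : IsReduced (pullback f (j ≫ k)) := h (AlgebraicClosure K) (j ≫ k)
    haveI : IsReduced (pullback (pullback.snd f k) j) :=
      isReduced_of_isOpenImmersion (pullbackLeftPullbackSndIso f k j).hom
    exact FBaseLib.isReduced_of_flat_surjective (pullback.fst (pullback.snd f k) j)

end Groth.Agent.H9PiOne

end
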