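import Groth.Agent.H9PiOne.Complete
import Groth.Agent.H9PiOne.FEtStage
import Groth.Agent.PopescuLib.Approx
import Groth.Agent.Adic7.Lift
import Groth.Agent.FormalFib6.Cplt

/-!
# Lifting finite étale covers over a Noetherian henselian pair with regular completion
-/

set_option autoImplicit false
set_option linter.style.haveILetI false
set_option linter.unusedSectionVars false
set_option backward.isDefEq.respectTransparency false
set_option backward.isDefEq.respectTransparency.types false

universe u

open CategoryTheory CategoryTheory.Limits AlgebraicGeometry Opposite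

noncomputable section

namespace Groth.Agent.H9PiOne

open Groth.Agent Groth.Agent.MorLib

attribute [-instance] CategoryTheory.catToReflQuiver

namespace AdjoinLim

variable (B : Type u) [CommRing B] (Λ : Type u) [CommRing Λ] [Algebra B Λ]

/-- The finitely generated subalgebras. -/
def rings : Finset Λ ⥤ CommRingCat.{u} where
  obj s := CommRingCat.of (Algebra.adjoin B (s : Set Λ))
  map {s t} h := CommRingCat.ofHom
    (Subalgebra.inclusion (Algebra.adjoin_mono (Finset.coe_subset.2 (leOfHom h)))).toRingHom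

/-- The inclusions. -/
def cocone : Cocone (rings B Λ) where
  pt := CommRingCat.of Λ
  ι := { app := fun s => CommRingCat.ofHom (Algebra.adjoin B (s : Set Λ)).val.toRingHom }

/-- An algebra is the colimit of its finitely generated subalgebras. -/
def isColimit : IsColimit (cocone B Λ) := by
  classical
  haveI : ReflectsColimit (rings B Λ) (forget CommRingCat.{u}) := reflectsColimit_of_reflectsIsomorphisms _ _
  refine isColimitOfReflects (forget CommRingCat.{u}) ?_
  refine Types.FilteredColimit.isColimitOf' _ _ (fun z => ?_) fun s x y h => ?_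
  · exact ⟨{(z : Λ)}, ⟨z, Algebra.subset_adjoin (Finset.mem_singleton_self z)⟩, rfl⟩
  · exact ⟨s, 𝟙 s, congrArg _ (Subtype.ext h)⟩

/-- The spectra. -/
def diagram : (Finset Λ)ᵒᵖ ⥤ Scheme.{u} := (rings B Λ).op ⋙ Scheme.Spec

/-- The cone. -/
def cone : Cone (diagram B Λ) := Scheme.Spec.mapCone (cocone B Λ).op

/-- It is a limit. -/
def isLimit : IsLimit (cone B Λ) := isLimitOfPreserves Scheme.Spec (isColimit B Λ).op

instance isAffine_obj (i : (Finset Λ)ᵒᵖ) : IsAffine ((diagram B Λ).obj i) :=
  isAffine_Spec (CommRingCat.of (Algebra.adjoin B ((i.unop : Finset Λ) : Set Λ)))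

instance isAffineHom_map {i j : (Finset Λ)ᵒᵖ} (φ : i ⟶ j) : IsAffineHom ((diagram B Λ).map φ) :=
  isAffineHom_of_isAffine _

theorem algebraMap_comp {i j : (Finset Λ)ᵒᵖ} (φ : i ⟶ j) :
    (diagram B Λ).map φ ≫ Spec.map (CommRingCat.ofHom (algebraMap B (Algebra.adjoin B ((j.unop : Finset Λ) : Set Λ)))) =
      Spec.map (CommRingCat.ofHom (algebraMap B (Algebra.adjoin B ((i.unop : Finset Λ) : Set Λ)))) := by
  show Spec.map ((rings B Λ).map φ.unop) ≫ _ = _
  rw [← Spec.map_comp]
  rfl

theorem cone_comp (i : (Finset Λ)ᵒᵖ) :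
    (cone B Λ).π.app i ≫ Spec.map (CommRingCat.ofHom (algebraMap B (Algebra.adjoin B ((i.unop : Finset Λ) : Set Λ)))) =
      Spec.map (CommRingCat.ofHom (algebraMap B Λ)) := by
  show Spec.map ((cocone B Λ).ι.app i.unop) ≫ _ = _
  rw [← Spec.map_comp]
  rfl

end AdjoinLim

open AdjoinLim in
/-- A cover lifts over a Noetherian henselian pair when it lifts after a regular map through which the pair
retracts up to the ideal. -/
theorem liftsFEt_of_regular {B : Type u} [CommRing B] [IsNoetherianRing B] (J : Ideal B) [HenselianRing B J]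
    {Λ : Type u} [CommRing Λ] [Algebra B Λ] (hind : Smoothing.IndSmooth B Λ) (π : Λ →ₐ[B] B ⧸ J)
    {X : Scheme.{u}} (f : X ⟶ Spec (CommRingCat.of B)) [IsProper f]
    (hΛ : LiftsFEt (pullback.lift (f := f) (g := Spec.map (CommRingCat.ofHom (algebraMap B Λ)))
      (inc J f) (pullback.snd f (Spec.map (CommRingCat.ofHom (Ideal.Quotient.mk J))) ≫
        Spec.map (CommRingCat.ofHom π.toRingHom)) (by
          rw [Category.assoc, ← Spec.map_comp, ← CommRingCat.ofHom_comp]
          erw [π.comp_algebraMap]
          exact pullback.condition))) :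
    LiftsFEt (inc J f) := by
  classical
  intro V
  obtain ⟨Wh, ⟨eh⟩⟩ := hΛ V
  let i₀ : (Finset Λ)ᵒᵖ := op ∅
  let alg : ∀ i : (Finset Λ)ᵒᵖ, (diagram B Λ).obj i ⟶ Spec (CommRingCat.of B) := fun i =>
    Spec.map (CommRingCat.ofHom (algebraMap B (Algebra.adjoin B ((i.unop : Finset Λ) : Set Λ))))
  let aΛ := Spec.map (CommRingCat.ofHom (algebraMap B Λ))
  let xi : pullback f (alg i₀) ⟶ (diagram B Λ).obj i₀ := pullback.snd f (alg i₀)
  let qX : pullback f aΛ ⟶ pullback f (alg i₀) :=
    pullback.lift (pullback.fst f aΛ) (pullback.snd f aΛ ≫ (cone B Λ).π.app i₀)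
      (by rw [Category.assoc]; erw [cone_comp B Λ i₀]; exact pullback.condition)
  have hX : IsPullback qX (pullback.snd f aΛ) xi ((cone B Λ).π.app i₀) := by
    refine IsPullback.of_right ?_ (pullback.lift_snd _ _ _) (IsPullback.of_hasPullback f (alg i₀))
    rw [pullback.lift_fst]
    erw [cone_comp B Λ i₀]
    exact IsPullback.of_hasPullback _ _
  haveI : CompactSpace X := QuasiCompact.compactSpace_of_compactSpace f
  haveI : QuasiSeparatedSpace X := quasiSeparatedSpace_of_quasiSeparated f
  haveI : CompactSpace ↥(pullback f (alg i₀)) := QuasiCompact.compactSpace_of_compactSpace xi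
  haveI : QuasiSeparatedSpace ↥(pullback f (alg i₀)) := quasiSeparatedSpace_of_quasiSeparated xi
  haveI : ∀ n : Over i₀, CompactSpace ((BC.diag (diagram B Λ) xi).obj n) :=
    fun n => BC.compactSpace_obj _ xi n
  haveI : ∀ n : Over i₀, QuasiSeparatedSpace ((BC.diag (diagram B Λ) xi).obj n) :=
    fun n => BC.quasiSeparatedSpace_obj _ xi n
  obtain ⟨n, Wn, ⟨en⟩⟩ := exists_fet_stage (BC.isLimitCone (diagram B Λ) xi hX (isLimit B Λ)) Wh
  let R := Algebra.adjoin B ((n.left.unop : Finset Λ) : Set Λ)
  haveI : Algebra.FiniteType B R := (Subalgebra.fg_iff_finiteType R).1 (Subalgebra.fg_adjoin_finset _)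
  haveI : Algebra.FinitePresentation B R := Algebra.FinitePresentation.of_finiteType.1 inferInstance
  obtain ⟨C, _, _, hC, g, h, hgh⟩ := hind R inferInstance R.val
  haveI := hC
  obtain ⟨τ, hτ⟩ := Groth.Agent.S0536.result B C B J (π.comp h)
  let aC := Spec.map (CommRingCat.ofHom (algebraMap B C))
  let gS : Spec (CommRingCat.of C) ⟶ (diagram B Λ).obj n.left := Spec.map (CommRingCat.ofHom g.toRingHom)
  have hgS : gS ≫ alg n.left = aC :=
    (Spec.map_comp _ _).symm.trans (congrArg (fun k => Spec.map (CommRingCat.ofHom k)) g.comp_algebraMap)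
  let b : pullback f aC ⟶ (BC.diag (diagram B Λ) xi).obj n :=
    pullback.lift (pullback.lift (pullback.fst f aC) (pullback.snd f aC ≫ gS ≫ (diagram B Λ).map n.hom)
        (by
          rw [Category.assoc, Category.assoc]
          erw [algebraMap_comp B Λ n.hom, hgS]
          exact pullback.condition))
      (pullback.snd f aC ≫ gS) (by simp [xi])
  let s : X ⟶ pullback f aC := pullback.lift (𝟙 X) (f ≫ Spec.map (CommRingCat.ofHom τ.toRingHom)) (by
    rw [Category.id_comp, Category.assoc, ← Spec.map_comp, ← CommRingCat.ofHom_comp]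
    erw [τ.comp_algebraMap]
    simp)
  let mk := Spec.map (CommRingCat.ofHom (Ideal.Quotient.mk J))
  refine ⟨(FEt.restrict (s ≫ b)).obj Wn, ⟨?_⟩⟩
  refine Pi1Ext.Spread.restrictSquare (inc J f) (s ≫ b)
    (pullback.lift (inc J f) (pullback.snd f mk ≫ Spec.map (CommRingCat.ofHom π.toRingHom)) _)
    ((BC.cone (diagram B Λ) xi hX).π.app n) ?_ Wn ≪≫ (FEt.restrict _).mapIso en ≪≫ eh
  have hring : (Ideal.Quotient.mk J).comp (τ.toRingHom.comp g.toRingHom) =
      π.toRingHom.comp R.val.toRingHom := by
    rw [← hgh]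
    ext r
    exact AlgHom.congr_fun hτ (g r)
  have hsnd : mk ≫ Spec.map (CommRingCat.ofHom τ.toRingHom) ≫ gS =
      Spec.map (CommRingCat.ofHom π.toRingHom) ≫ (cone B Λ).π.app n.left := by
    show _ = Spec.map _ ≫ Spec.map (CommRingCat.ofHom R.val.toRingHom)
    erw [← Spec.map_comp, ← Spec.map_comp, ← Spec.map_comp]
    exact congrArg (fun k => Spec.map (CommRingCat.ofHom k)) hring
  have hs : inc J f ≫ s ≫ pullback.snd f aC ≫ gS =
      pullback.snd f mk ≫ Spec.map (CommRingCat.ofHom π.toRingHom) ≫ (cone B Λ).π.app n.left := by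
    rw [← hsnd]
    simp only [s, pullback.lift_snd_assoc, Category.assoc]
    exact pullback.condition_assoc _
  show inc J f ≫ s ≫ b = _ ≫ BC.proj _ xi hX n
  apply pullback.hom_ext
  · simp only [Category.assoc, b, pullback.lift_fst, BC.proj_fst]
    apply pullback.hom_ext
    · simp [s, qX]
    · simp only [Category.assoc, qX, pullback.lift_snd, pullback.lift_snd_assoc]
      rw [reassoc_of% hs]
      congr 2
      exact (cone B Λ).w n.hom
  · simp only [Category.assoc, b, pullback.lift_snd, BC.proj_snd, pullback.lift_snd_assoc]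
    exact hs

/-- Covers lift over a Noetherian henselian pair with regular completion map. -/
theorem liftsFEt_of_regular_completion {B : Type u} [CommRing B] [IsNoetherianRing B] (J : Ideal B)
    [HenselianRing B J] (hreg : CAlg.IsRegularHom B (AdicCompletion J B)) {X : Scheme.{u}}
    (f : X ⟶ Spec (CommRingCat.of B)) [IsProper f] : LiftsFEt (inc J f) := by
  let Λ := AdicCompletion J B
  haveI : IsNoetherianRing Λ := FormalFib6.isNoetherianRing_adicCompletion B J
  have hfg : J.FG := IsNoetherian.noetherian J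
  haveI : IsAdicComplete (J.map (algebraMap B Λ)) Λ := Adic7.isAdicComplete_completion J hfg
  let π : Λ →ₐ[B] B ⧸ J :=
    (Ideal.Quotient.factorₐ B (le_of_eq (pow_one J))).comp (AdicCompletion.evalₐ J 1)
  have hπ : Function.Surjective π :=
    (Ideal.Quotient.factor_surjective (le_of_eq (pow_one J))).comp (AdicCompletion.surjective_evalₐ J 1)
  have hker : RingHom.ker π.toRingHom = J.map (algebraMap B Λ) := by
    refine le_antisymm (fun x hx => ?_) (Ideal.map_le_iff_le_comap.2 fun b hb => ?_)
    · have h1 : AdicCompletion.evalₐ J 1 x = 0 := by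
        obtain ⟨b, hb⟩ := Ideal.Quotient.mk_surjective (AdicCompletion.evalₐ J 1 x)
        have h2 : Ideal.Quotient.mk J b = 0 := by
          have hx' : π x = 0 := hx
          rw [← hx']
          show _ = Ideal.Quotient.factor (le_of_eq (pow_one J)) (AdicCompletion.evalₐ J 1 x)
          rw [← hb]
          exact (Ideal.Quotient.factor_mk (le_of_eq (pow_one J)) b).symm
        rw [← hb, Ideal.Quotient.eq_zero_iff_mem, pow_one]
        exact Ideal.Quotient.eq_zero_iff_mem.1 h2
      simpa using PopescuLib.mem_map_of_evalₐ_eq_zero J hfg 1 h1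
    · show π (algebraMap B Λ b) = 0
      rw [π.commutes]
      exact Ideal.Quotient.eq_zero_iff_mem.2 hb
  refine liftsFEt_of_regular J (PopescuLib.indSmooth_of_isRegularHom hreg) π f ?_
  let fΛ := pullback.snd f (Spec.map (CommRingCat.ofHom (algebraMap B Λ)))
  haveI : IsProper fΛ := MorphismProperty.pullback_snd (P := @IsProper) _ _ ‹_›
  haveI := restrict_inc_isEquivalence_of_complete (J.map (algebraMap B Λ)) fΛ
  refine LiftsFEt.of_isPullback (liftsFEt_of_essSurj (inc (J.map (algebraMap B Λ)) fΛ)) π.toRingHom hπ hker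
    (q := pullback.snd f (Spec.map (CommRingCat.ofHom (Ideal.Quotient.mk J)))) ?_
  refine IsPullback.of_right ?_ (pullback.lift_snd _ _ _) (IsPullback.of_hasPullback _ _)
  rw [pullback.lift_fst, ← Spec.map_comp, ← CommRingCat.ofHom_comp]
  erw [π.comp_algebraMap]
  exact IsPullback.of_hasPullback _ _

end Groth.Agent.H9PiOne

end
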