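import Groth.Agent.InertiaEtale.Main
import Groth.Agent.IndEtLib.Sys
import Groth.Prelude.Def_PBC
import Mathlib.FieldTheory.Galois.Profinite
import Mathlib.FieldTheory.Galois.Infinite
import Mathlib.RingTheory.IntegralClosure.IsIntegralClosure.Basic
import Mathlib.RingTheory.IntegralClosure.IntegrallyClosed
import Mathlib.RingTheory.RingHom.Etale

/-!
# Inertia invariants of an infinite Galois extension are ind-étale

The localization of the ring of invariants under an inertia group at the prime below is the
filtered union of the corresponding rings of the finite Galois sub-extensions.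
-/

universe u

set_option autoImplicit false
set_option linter.style.haveILetI false

namespace Groth.Agent.H9PiOne.InertiaInd

variable {A K L : Type u} [CommRing A] [Field K] [Field L] [Algebra A K] [Algebra K L] [Algebra A L]
  [IsScalarTower A K L]

instance smulComm (E : IntermediateField K L) : SMulCommClass (E ≃ₐ[K] E) A E :=
  ⟨fun g a x => by
    simp only [Algebra.smul_def, AlgEquiv.smul_def, map_mul]
    rw [IsScalarTower.algebraMap_apply A K E, AlgEquiv.commutes]⟩

/-- the integral elements of a subfield inside all the integral elements -/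
noncomputable def toBig (E : IntermediateField K L) : integralClosure A E →ₐ[A] integralClosure A L :=
  ((E.val.restrictScalars A).comp (integralClosure A E).val).codRestrict _ fun x =>
    IsIntegral.map (E.val.restrictScalars A) x.2

theorem coe_toBig (E : IntermediateField K L) (x : integralClosure A E) :
    (toBig E x : L) = ((x : E) : L) := rfl

/-- `σ` acts trivially modulo `q` on the integral elements lying in `E` -/
def Triv (q : Ideal (integralClosure A L)) (E : IntermediateField K L) (σ : L ≃ₐ[K] L) : Prop :=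
  ∀ b : integralClosure A L, (b : L) ∈ E → ∃ c ∈ q, (c : L) = σ b - b

theorem Triv.anti {q : Ideal (integralClosure A L)} {E F : IntermediateField K L} (h : E ≤ F)
    {σ : L ≃ₐ[K] L} (hσ : Triv q F σ) : Triv q E σ :=
  fun b hb => hσ b (h hb)

/-- an integral element of `L` lying in `E`, as an integral element of `E` -/
def ofMem (E : IntermediateField K L) (b : integralClosure A L) (hb : (b : L) ∈ E) : integralClosure A E :=
  ⟨⟨b, hb⟩, (isIntegral_algHom_iff (E.val.restrictScalars A) Subtype.val_injective).1 b.2⟩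

theorem mem_inertia_iff (q : Ideal (integralClosure A L)) (E : IntermediateField K L) [Normal K E]
    (σ : L ≃ₐ[K] L) :
    σ.restrictNormal E ∈ (q.comap (toBig (A := A) E)).inertia (E ≃ₐ[K] E) ↔ Triv q E σ := by
  have hc : ∀ x : integralClosure A E, (toBig E (σ.restrictNormal E • x - x) : L) =
      σ ((x : E) : L) - ((x : E) : L) := fun x => by
    rw [map_sub, AddSubgroupClass.coe_sub, coe_toBig, coe_toBig, integralClosure.coe_smul]
    exact congrArg (· - ((x : E) : L)) (AlgEquiv.restrictNormal_commutes σ E (x : E))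
  constructor
  · intro h b hb
    exact ⟨_, h (ofMem E b hb), hc _⟩
  · intro h x
    obtain ⟨c, hcq, hcx⟩ := h (toBig E x) (x : E).2
    have he : toBig E (σ.restrictNormal E • x - x) = c := Subtype.ext ((hc x).trans hcx.symm)
    exact Ideal.mem_comap.2 (he.symm ▸ hcq)

variable [IsGalois K L]

theorem exists_level (q : Ideal (integralClosure A L)) (I : Subgroup (L ≃ₐ[K] L))
    (hI : ∀ σ : L ≃ₐ[K] L, σ ∈ I ↔ ∀ b : integralClosure A L, ∃ c ∈ q, (c : L) = σ b - b)
    (y : L) (hfix : ∀ σ ∈ I, σ y = y) :
    ∃ E : FiniteGaloisIntermediateField K L, ∀ F, E ≤ F →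
      y ∈ F.toIntermediateField ∧ ∀ σ, Triv q F.toIntermediateField σ → σ y = y := by
  classical
  let E₀ := FiniteGaloisIntermediateField.adjoin K ({y} : Set L)
  have hyE : y ∈ E₀.toIntermediateField := FiniteGaloisIntermediateField.subset_adjoin K _ rfl
  suffices h : ∃ E, E₀ ≤ E ∧ ∀ σ, Triv q E.toIntermediateField σ → σ y = y by
    obtain ⟨E, hE, h⟩ := h
    exact ⟨E, fun F hF => ⟨(hE.trans hF) hyE, fun σ hσ => h σ (hσ.anti hF)⟩⟩
  by_contra hcon
  push_neg at hcon
  haveI : Nonempty {F : FiniteGaloisIntermediateField K L // E₀ ≤ F} := ⟨⟨E₀, le_rfl⟩⟩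
  let C : {F : FiniteGaloisIntermediateField K L // E₀ ≤ F} → Set (L ≃ₐ[K] L) := fun F =>
    {σ | Triv q F.1.toIntermediateField σ ∧ σ y ≠ y}
  have hclosed : ∀ F, IsClosed (C F) := by
    intro F
    have hpre : C F = (AlgEquiv.restrictNormalHom (F := K) F.1.toIntermediateField) ⁻¹'
        ((AlgEquiv.restrictNormalHom (F := K) (K₁ := L) F.1.toIntermediateField) '' C F) := by
      refine Set.Subset.antisymm (Set.subset_preimage_image _ _) ?_
      rintro σ ⟨σ', ⟨hσ'1, hσ'2⟩, hσ'⟩
      have heq : ∀ z ∈ F.1.toIntermediateField, σ' z = σ z := fun z hz => by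
        have h1 := AlgEquiv.restrictNormal_commutes σ' F.1.toIntermediateField ⟨z, hz⟩
        have h2 := AlgEquiv.restrictNormal_commutes σ F.1.toIntermediateField ⟨z, hz⟩
        exact h1.symm.trans ((congrArg (fun τ => algebraMap F.1.toIntermediateField L (τ ⟨z, hz⟩)) hσ').trans h2)
      refine ⟨fun b hb => ?_, ?_⟩
      · rw [← heq _ hb]; exact hσ'1 b hb
      · rw [← heq _ (F.2 hyE)]; exact hσ'2
    rw [hpre]
    exact (isClosed_discrete _).preimage (InfiniteGalois.restrictNormalHom_continuous _)
  obtain ⟨σ, hσ⟩ := IsCompact.nonempty_iInter_of_directed_nonempty_isCompact_isClosed C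
    (fun F G => ⟨⟨F.1 ⊔ G.1, F.2.trans le_sup_left⟩,
      fun τ hτ => ⟨hτ.1.anti (le_sup_left : F.1 ≤ F.1 ⊔ G.1), hτ.2⟩,
      fun τ hτ => ⟨hτ.1.anti (le_sup_right : G.1 ≤ F.1 ⊔ G.1), hτ.2⟩⟩)
    (fun F => by obtain ⟨σ, h1, h2⟩ := hcon F.1 F.2; exact ⟨σ, h1, h2⟩)
    (fun F => (hclosed F).isCompact) hclosed
  rw [Set.mem_iInter] at hσ
  refine (hσ ⟨E₀, le_rfl⟩).2 (hfix σ ((hI σ).2 fun b => ?_))
  exact (hσ ⟨E₀ ⊔ FiniteGaloisIntermediateField.adjoin K ({(b : L)} : Set L), le_sup_left⟩).1 b
    ((le_sup_right : FiniteGaloisIntermediateField.adjoin K ({(b : L)} : Set L) ≤ _)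
      (FiniteGaloisIntermediateField.subset_adjoin K _ rfl))

variable [IsDomain A] [IsIntegrallyClosed A] [IsFractionRing A K]

/-- the Galois invariants of the integral elements of a finite Galois subfield are `A` -/
theorem bijective_toFixed (E : IntermediateField K L) [FiniteDimensional K E] [IsGalois K E] :
    Function.Bijective ((algebraMap A (integralClosure A E)).codRestrict
      (FixedPoints.subring (integralClosure A E) (E ≃ₐ[K] E)) fun a g => smul_algebraMap g a) := by
  refine ⟨fun a b h => ?_, fun x => ?_⟩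
  · have h' : algebraMap A E a = algebraMap A E b :=
      congrArg (fun z : FixedPoints.subring (integralClosure A E) (E ≃ₐ[K] E) => ((z : integralClosure A E) : E)) h
    rw [IsScalarTower.algebraMap_apply A K E, IsScalarTower.algebraMap_apply A K E] at h'
    exact IsFractionRing.injective A K ((algebraMap K E).injective h')
  · obtain ⟨k, hk⟩ : ((x : integralClosure A E) : E) ∈ Set.range (algebraMap K E) :=
      (IsGalois.mem_range_algebraMap_iff_fixed _).2 fun g => congrArg Subtype.val (x.2 g)
    have hint : IsIntegral A k := by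
      refine (isIntegral_algHom_iff (IsScalarTower.toAlgHom A K E) (algebraMap K E).injective).1 ?_
      rw [IsScalarTower.toAlgHom_apply, hk]; exact x.1.2
    obtain ⟨a, rfl⟩ := IsIntegrallyClosed.isIntegral_iff.1 hint
    refine ⟨a, Subtype.ext (Subtype.ext ?_)⟩
    rw [← hk, ← IsScalarTower.algebraMap_apply]
    rfl

omit [IsGalois K L] [IsDomain A] [IsIntegrallyClosed A] [IsFractionRing A K] in
/-- factorisation of a map from a finitely generated algebra through an étale localization -/
theorem exists_factor {A G₀ T Q P : Type u} [CommRing A] [CommRing G₀] [CommRing T] [CommRing Q]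
    [IsDomain Q] [CommRing P] [Algebra G₀ T] [Algebra A Q] [Algebra A P]
    (κ : A →+* G₀) (hκ : Function.Bijective κ) (j₀ : T →+* Q) (hj₀ : Function.Injective j₀)
    (hcomm : ∀ a, j₀ (algebraMap G₀ T (κ a)) = algebraMap A Q a)
    (g : T) (hget : Algebra.Etale G₀ (Localization.Away g)) (hgu : IsUnit (j₀ g))
    (φ : P →ₐ[A] Q) (gens : Finset P) (hgens : Algebra.adjoin A (gens : Set P) = ⊤)
    (num den : gens → T) (hdu : ∀ p, IsUnit (j₀ (den p)))
    (heq : ∀ p : gens, φ p * j₀ (den p) = j₀ (num p)) :
    ∃ (N : Type u) (_ : CommRing N) (_ : Algebra A N) (_ : Algebra.Etale A N)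
      (α : P →ₐ[A] N) (β : N →ₐ[A] Q), β.comp α = φ := by
  classical
  haveI : IsDomain T := hj₀.isDomain
  let Tg := Localization.Away g
  let j₁ : Tg →+* Q := IsLocalization.Away.lift g hgu
  have hj₁e : ∀ t, j₁ (algebraMap T Tg t) = j₀ t := IsLocalization.Away.lift_eq g hgu
  have hg0 : g ≠ 0 := fun h => hgu.ne_zero (by rw [h, map_zero])
  have hTg : Function.Injective (algebraMap T Tg) := IsLocalization.injective Tg
    (Submonoid.powers_le.2 (mem_nonZeroDivisors_of_ne_zero hg0))
  have hj₁ : Function.Injective j₁ :=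
    (IsLocalization.lift_injective_iff _).2 fun x y => hTg.eq_iff.trans hj₀.eq_iff.symm
  haveI : IsDomain Tg := hj₁.isDomain
  let s : T := ∏ p : gens, den p
  let s' : Tg := algebraMap T Tg s
  let N := Localization.Away s'
  have hsu : IsUnit (j₁ s') := by
    rw [hj₁e, map_prod]
    exact (IsUnit.prod_iff).2 fun p _ => hdu p
  let j₂ : N →+* Q := IsLocalization.Away.lift s' hsu
  have hj₂e : ∀ t, j₂ (algebraMap Tg N t) = j₁ t := IsLocalization.Away.lift_eq s' hsu
  have hs0 : s' ≠ 0 := fun h => hsu.ne_zero (by rw [h, map_zero])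
  have hN : Function.Injective (algebraMap Tg N) := IsLocalization.injective N
    (Submonoid.powers_le.2 (mem_nonZeroDivisors_of_ne_zero hs0))
  have hj₂ : Function.Injective j₂ :=
    (IsLocalization.lift_injective_iff _).2 fun x y => hN.eq_iff.trans hj₁.eq_iff.symm
  let fA : A →+* N := (algebraMap Tg N).comp ((algebraMap G₀ Tg).comp κ)
  letI : Algebra A N := fA.toAlgebra
  have hfA : fA.Etale := RingHom.Etale.stableUnderComposition _ _
    (RingHom.Etale.stableUnderComposition _ _ (RingHom.Etale.of_bijective hκ)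
      (RingHom.etale_algebraMap.2 hget))
    (RingHom.etale_algebraMap.2 (Algebra.Etale.of_isLocalizationAway s'))
  haveI : Algebra.Etale A N := RingHom.etale_algebraMap.1 hfA
  let β : N →ₐ[A] Q :=
    { j₂ with
      commutes' := fun a => by
        show j₂ (algebraMap Tg N (algebraMap G₀ Tg (κ a))) = algebraMap A Q a
        rw [hj₂e, IsScalarTower.algebraMap_apply G₀ T Tg, hj₁e, hcomm] }
  have hβt : ∀ t : T, β (algebraMap Tg N (algebraMap T Tg t)) = j₀ t := fun t =>
    (hj₂e _).trans (hj₁e t)
  have hrange : ∀ x, φ x ∈ β.range := by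
    have htop : Algebra.adjoin A (gens : Set P) ≤ β.range.comap φ := by
      refine Algebra.adjoin_le fun p hp => ?_
      have hu : IsUnit (algebraMap Tg N (algebraMap T Tg (den ⟨p, hp⟩))) :=
        isUnit_of_dvd_unit (map_dvd (algebraMap Tg N) (map_dvd (algebraMap T Tg)
          (Finset.dvd_prod_of_mem _ (Finset.mem_univ _))))
          (IsLocalization.Away.algebraMap_isUnit (S := N) s')
      refine ⟨algebraMap Tg N (algebraMap T Tg (num ⟨p, hp⟩)) * ↑hu.unit⁻¹, ?_⟩
      refine (hu.map β).mul_right_cancel ?_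
      show β _ * β _ = φ p * β _
      rw [← map_mul, mul_assoc, IsUnit.val_inv_mul, mul_one, hβt, hβt]
      exact (heq ⟨p, hp⟩).symm
    intro x
    exact htop (hgens ▸ Algebra.mem_top)
  exact ⟨N, inferInstance, inferInstance, inferInstance,
    (AlgEquiv.ofInjective β hj₂).symm.toAlgHom.comp (φ.codRestrict β.range hrange), β,
    AlgHom.ext fun x =>
      congrArg Subtype.val ((AlgEquiv.ofInjective β hj₂).apply_symm_apply ⟨φ x, hrange x⟩)⟩

set_option maxHeartbeats 800000 in
theorem main (q : Ideal (integralClosure A L)) [q.IsPrime] (I : Subgroup (L ≃ₐ[K] L))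
    (hI : ∀ σ : L ≃ₐ[K] L, σ ∈ I ↔ ∀ b : integralClosure A L, ∃ c ∈ q, (c : L) = σ b - b) :
    EtPBC.IsIndEtale A (Localization.AtPrime
      (q.comap (Subalgebra.inclusion
        (inf_le_left : integralClosure A L ⊓ (IntermediateField.fixedField I).toSubalgebra.restrictScalars A ≤
          integralClosure A L)))) := by
  classical
  let S := integralClosure A L ⊓ (IntermediateField.fixedField I).toSubalgebra.restrictScalars A
  let q' : Ideal S := q.comap (Subalgebra.inclusion (inf_le_left : S ≤ integralClosure A L))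
  haveI : q'.IsPrime := Ideal.IsPrime.comap _
  let Q := Localization.AtPrime q'
  show EtPBC.IsIndEtale A Q
  refine Groth.Agent.IndEtLib.isIndEtale_of_factor fun P _ _ _ φ => ?_
  obtain ⟨gens, hgens⟩ := Algebra.FiniteType.out (R := A) (A := P)
  choose fr hfr using fun p : P => IsLocalization.surj q'.primeCompl (φ p)
  -- a level containing all numerators and denominators
  choose lev hlev using fun y : S => exists_level q I hI (y : L)
    (fun σ hσ => (IntermediateField.mem_fixedField_iff _ _).1 y.2.2 σ hσ)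
  let E' : FiniteGaloisIntermediateField K L :=
    gens.sup fun p => lev (fr p).1 ⊔ lev ((fr p).2 : S)
  let E := E'.toIntermediateField
  let R := integralClosure A E
  let qE : Ideal R := q.comap (toBig E)
  haveI : qE.IsPrime := Ideal.IsPrime.comap _
  let T := FixedPoints.subring R (qE.inertia (E ≃ₐ[K] E))
  have hTS : ∀ x : T, (toBig E (x : R) : L) ∈ S := fun x => by
    refine ⟨(toBig E (x : R)).2, (IntermediateField.mem_fixedField_iff _ _).2 fun σ hσ => ?_⟩
    have hτ : σ.restrictNormal E ∈ qE.inertia (E ≃ₐ[K] E) :=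
      (mem_inertia_iff q E σ).2 fun b _ => (hI σ).1 hσ b
    have h := congrArg (fun z : R => ((z : E) : L)) (x.2 ⟨_, hτ⟩)
    exact (AlgEquiv.restrictNormal_commutes σ E ((x : R) : E)).symm.trans h
  let toS : T →+* S := RingHom.codRestrict
    ((integralClosure A L).val.toRingHom.comp ((toBig (A := A) E).toRingHom.comp T.subtype)) S hTS
  have hlift : ∀ y : S, lev y ≤ E' → ∃ x : T, toS x = y := by
    intro y hy
    obtain ⟨hyE, hyfix⟩ := hlev y E' hy
    refine ⟨⟨ofMem E ⟨y, y.2.1⟩ hyE, fun τ => ?_⟩, rfl⟩
    obtain ⟨σ, hσ⟩ := AlgEquiv.restrictNormalHom_surjective (F := K) (K₁ := E) L τ.1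
    have hτ : σ.restrictNormal E ∈ qE.inertia (E ≃ₐ[K] E) := by
      have := τ.2
      rw [← hσ] at this
      exact this
    refine Subtype.ext (Subtype.ext ?_)
    change ((τ.1 (⟨(y : L), hyE⟩ : E) : E) : L) = (y : L)
    rw [← hσ]
    exact (AlgEquiv.restrictNormal_commutes σ E ⟨(y : L), hyE⟩).trans (hyfix σ ((mem_inertia_iff q E σ).1 hτ))
  have hle : ∀ p ∈ gens, lev (fr p).1 ≤ E' ∧ lev ((fr p).2 : S) ≤ E' := fun p hp =>
    ⟨(le_sup_left).trans (Finset.le_sup (f := fun p => lev (fr p).1 ⊔ lev ((fr p).2 : S)) hp),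
      (le_sup_right).trans (Finset.le_sup (f := fun p => lev (fr p).1 ⊔ lev ((fr p).2 : S)) hp)⟩
  choose num hnum using fun p : gens => hlift _ (hle p p.2).1
  choose den hden using fun p : gens => hlift _ (hle p p.2).2
  obtain ⟨g, hg, hget⟩ := Groth.Agent.InertiaEtale.main (G := E ≃ₐ[K] E) qE
  let j₀ : T →+* Q := (algebraMap S Q).comp toS
  have hj₀ : Function.Injective j₀ :=
    (IsLocalization.injective Q q'.primeCompl_le_nonZeroDivisors).comp fun x x' h =>
      Subtype.ext (Subtype.ext (Subtype.ext (congrArg (fun z : S => (z : L)) h)))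
  have hgq : toS g ∈ q'.primeCompl := fun hmem => hg hmem
  have hgu : IsUnit (j₀ g) := IsLocalization.map_units Q ⟨_, hgq⟩
  refine exists_factor _ (bijective_toFixed E) j₀ hj₀ (fun a => ?_) g hget hgu φ gens hgens num den
    (fun p => ?_) fun p => ?_
  · rw [IsScalarTower.algebraMap_apply A S Q]; rfl
  · show IsUnit (algebraMap S Q (toS (den p)))
    rw [hden]; exact IsLocalization.map_units Q _
  · show φ p * algebraMap S Q (toS (den p)) = algebraMap S Q (toS (num p))
    rw [hnum, hden]
    exact hfr p

end Groth.Agent.H9PiOne.InertiaInd
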