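import Groth.Agent.H9PiOne.Splitting
import Groth.Agent.AVTorsLib.Count
import Groth.Prelude.Def_PiSp

/-!
# Multiplication by `n` on an abelian variety is a Galois cover with group the `n`-torsion points
-/

set_option autoImplicit false
set_option linter.style.haveILetI false
set_option linter.unusedSectionVars false
set_option backward.isDefEq.respectTransparency false
set_option backward.isDefEq.respectTransparency.types false

universe u

open CategoryTheory CategoryTheory.Limits MonoidalCategory CartesianMonoidalCategory MonObj AlgebraicGeometry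
  TopologicalSpace

noncomputable section

namespace Groth.Agent.H9PiOne

open Groth.Agent

attribute [-instance] CategoryTheory.catToReflQuiver

variable {k : Type u} [Field k] [IsAlgClosed k] {A : Over (Spec (CommRingCat.of k))} [GrpObj A]

/-- A morphism from a connected scheme killed by a finite étale endomorphism is constant. -/
theorem exists_const_of_comp_eq_one (ν : A ⟶ A) [IsFinite ν.left] [Etale ν.left]
    {T : Over (Spec (CommRingCat.of k))} [ConnectedSpace ↥T.left] (δ : T ⟶ A) (hδ : δ ≫ ν = 1) :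
    ∃ a : 𝟙_ (Over (Spec (CommRingCat.of k))) ⟶ A, a ≫ ν = 1 ∧ δ = toUnit T ≫ a := by
  let η₀ : Spec (CommRingCat.of k) ⟶ A.left := (η[A] : 𝟙_ (Over (Spec (CommRingCat.of k))) ⟶ A).left
  let q : pullback ν.left η₀ ⟶ Spec (CommRingCat.of k) := pullback.snd ν.left η₀
  haveI : IsFinite q := MorphismProperty.pullback_snd (P := @IsFinite) _ _ ‹_›
  haveI : Etale q := MorphismProperty.pullback_snd (P := @Etale) _ _ ‹_›
  obtain ⟨J, _, τ, h1, h2, h3⟩ := hasSplitting_spec_sepClosed (MorphismProperty.Over.mk ⊤ q ⟨‹_›, ‹_›⟩)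
  let τ' : J → (Spec (CommRingCat.of k) ⟶ pullback ν.left η₀) := τ
  have h1' : ∀ i, τ' i ≫ q = 𝟙 _ := h1
  have e0 : (1 : T ⟶ A).left = T.hom ≫ η₀ := rfl
  let g : T.left ⟶ pullback ν.left η₀ :=
    pullback.lift δ.left T.hom ((congrArg CommaMorphism.left hδ).trans e0)
  have hclop : ∀ i, IsOpenImmersion (τ' i) ∧ IsClopen (Set.range (τ' i)) := fun i => by
    obtain ⟨hO, hC⟩ := isClopenEmbedding_section (MorphismProperty.Over.mk ⊤ q ⟨‹_›, ‹_›⟩) (τ i) (h1 i)
    haveI : IsOpenImmersion (τ' i) := hO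
    haveI : IsClosedImmersion (τ' i) := hC
    exact ⟨hO, (τ' i).isClosedEmbedding.isClosed_range, (τ' i).isOpenEmbedding.isOpen_range⟩
  obtain ⟨t⟩ := (inferInstance : Nonempty T.left)
  obtain ⟨i, z, hz⟩ := h3 (g t)
  have hall : g ⁻¹' Set.range (τ' i) = Set.univ :=
    ((hclop i).2.preimage g.continuous).eq_univ ⟨t, z, hz⟩
  haveI := (hclop i).1
  let l : T.left ⟶ Spec (CommRingCat.of k) :=
    IsOpenImmersion.lift (τ' i) g (by rintro _ ⟨x, rfl⟩; exact (Set.ext_iff.1 hall x).2 trivial)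
  have hl : l = T.hom := by
    rw [← Category.comp_id l, ← h1' i, ← Category.assoc, IsOpenImmersion.lift_fac, pullback.lift_snd]
  let a : 𝟙_ (Over (Spec (CommRingCat.of k))) ⟶ A := Over.homMk (τ' i ≫ pullback.fst ν.left η₀) (by
    show (τ' i ≫ pullback.fst ν.left η₀) ≫ A.hom = 𝟙 _
    rw [← Over.w ν, Category.assoc, pullback.condition_assoc, ← Category.assoc, h1' i, Category.id_comp]
    exact Over.w (η[A] : 𝟙_ (Over (Spec (CommRingCat.of k))) ⟶ A))
  refine ⟨a, Over.OverMorphism.ext ?_, Over.OverMorphism.ext ?_⟩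
  · show (τ' i ≫ pullback.fst ν.left η₀) ≫ ν.left = (1 : 𝟙_ (Over (Spec (CommRingCat.of k))) ⟶ A).left
    rw [Category.assoc, pullback.condition, ← Category.assoc, h1' i, Category.id_comp]
    exact (Category.id_comp _).symm
  · show δ.left = T.hom ≫ τ' i ≫ pullback.fst ν.left η₀
    rw [← hl, ← Category.assoc, IsOpenImmersion.lift_fac, pullback.lift_fst]

/-- Translation by an `n`-torsion point commutes with multiplication by `n`. -/
theorem translation_comp_zpow [IsCommMonObj A] (n : ℤ) (a : 𝟙_ (Over (Spec (CommRingCat.of k))) ⟶ A)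
    (ha : a ^ n = 1) : ((𝟙 A) * (toUnit A ≫ a)) ≫ (𝟙 A) ^ n = (𝟙 A) ^ n := by
  rw [GrpObj.comp_zpow, Category.comp_id, mul_zpow, ← GrpObj.comp_zpow, ha, MonObj.comp_one, _root_.mul_one]

theorem translation_mul (a b : 𝟙_ (Over (Spec (CommRingCat.of k))) ⟶ A) :
    ((𝟙 A) * (toUnit A ≫ a)) ≫ ((𝟙 A) * (toUnit A ≫ b)) = (𝟙 A) * (toUnit A ≫ (a * b)) := by
  rw [MonObj.comp_mul, Category.comp_id, ← Category.assoc, comp_toUnit, _root_.mul_assoc, MonObj.comp_mul]

set_option maxHeartbeats 1000000 in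
/-- Multiplication by `n` is Galois with group the `n`-torsion points acting by translation. -/
theorem zpow_galois [IsProper A.hom] [GeometricallyIntegral A.hom] (n : ℕ)
    [hF : IsFinite ((𝟙 A) ^ (n : ℤ)).left] [hE : Etale ((𝟙 A) ^ (n : ℤ)).left] :
    PiSp.IsGaloisCover (MorphismProperty.Over.mk ⊤ ((𝟙 A) ^ (n : ℤ)).left ⟨hF, hE⟩ : FEt.Cat A.left) ∧
      (∀ θ : Aut (MorphismProperty.Over.mk ⊤ ((𝟙 A) ^ (n : ℤ)).left ⟨hF, hE⟩ : FEt.Cat A.left),
        ∃! a : 𝟙_ (Over (Spec (CommRingCat.of k))) ⟶ A, a ^ (n : ℤ) = 1 ∧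
          θ.hom.left = ((𝟙 A) * (toUnit A ≫ a)).left) ∧
      (∀ a : 𝟙_ (Over (Spec (CommRingCat.of k))) ⟶ A, a ^ (n : ℤ) = 1 →
        ∃ θ : Aut (MorphismProperty.Over.mk ⊤ ((𝟙 A) ^ (n : ℤ)).left ⟨hF, hE⟩ : FEt.Cat A.left),
          θ.hom.left = ((𝟙 A) * (toUnit A ≫ a)).left) := by
  haveI : IsCommMonObj A := isCommMonObj_of_isProper_of_geometricallyIntegral A
  haveI : IsIntegral A.left := GeometricallyIntegral.isIntegral_of_subsingleton A.hom
  let ν : A ⟶ A := (𝟙 A) ^ (n : ℤ)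
  have hν : ∀ {T : Over (Spec (CommRingCat.of k))} (x : T ⟶ A), x ≫ ν = x ^ (n : ℤ) := fun x => by
    rw [GrpObj.comp_zpow, Category.comp_id]
  have hmk : ∀ a : 𝟙_ (Over (Spec (CommRingCat.of k))) ⟶ A, a ^ (n : ℤ) = 1 →
      ∃ θ : Aut (MorphismProperty.Over.mk ⊤ ν.left ⟨hF, hE⟩ : FEt.Cat A.left),
        θ.hom.left = ((𝟙 A) * (toUnit A ≫ a)).left := fun a ha => by
    let t : A ≅ A :=
      { hom := (𝟙 A) * (toUnit A ≫ a)
        inv := (𝟙 A) * (toUnit A ≫ a⁻¹)
        hom_inv_id := by rw [translation_mul, mul_inv_cancel, MonObj.comp_one, _root_.mul_one]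
        inv_hom_id := by rw [translation_mul, inv_mul_cancel, MonObj.comp_one, _root_.mul_one] }
    exact ⟨MorphismProperty.Over.isoMk ((Over.forget _).mapIso t)
      (congrArg CommaMorphism.left (translation_comp_zpow (n : ℤ) a ha)), rfl⟩
  refine ⟨⟨inferInstanceAs (ConnectedSpace A.left), fun Ω _ _ ξ s t => ?_⟩, fun θ => ?_, hmk⟩
  · let T : Over (Spec (CommRingCat.of k)) := Over.mk (ξ ≫ A.hom)
    haveI : ConnectedSpace ↥T.left := inferInstanceAs (ConnectedSpace (PrimeSpectrum Ω))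
    have hw : ∀ x : FEt.fiberObj ξ (MorphismProperty.Over.mk ⊤ ν.left ⟨hF, hE⟩ : FEt.Cat A.left),
        x.1 ≫ A.hom = T.hom := fun x =>
      (congrArg (x.1 ≫ ·) (Over.w ν).symm).trans ((Category.assoc _ _ _).symm.trans (congrArg (· ≫ A.hom) x.2))
    let s' : T ⟶ A := Over.homMk s.1 (hw s)
    let t' : T ⟶ A := Over.homMk t.1 (hw t)
    have hst : s' ≫ ν = t' ≫ ν := Over.OverMorphism.ext (s.2.trans t.2.symm)
    rw [hν, hν] at hst
    obtain ⟨a, ha, hd⟩ := exists_const_of_comp_eq_one ν (t' * s'⁻¹) (by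
      rw [hν, mul_zpow, inv_zpow, hst, mul_inv_cancel])
    rw [hν] at ha
    obtain ⟨θ, hθ⟩ := hmk a ha
    refine ⟨θ, Subtype.ext ?_⟩
    show s.1 ≫ θ.hom.left = t.1
    rw [hθ]
    have : s' ≫ ((𝟙 A) * (toUnit A ≫ a)) = t' := by
      rw [MonObj.comp_mul, Category.comp_id, ← Category.assoc, comp_toUnit, ← hd, mul_comm, inv_mul_cancel_right]
    exact congrArg CommaMorphism.left this
  · let θ' : A ⟶ A := Over.homMk θ.hom.left (by
      conv_lhs => rw [← Over.w ν]
      rw [← Category.assoc]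
      exact (congrArg (· ≫ A.hom) (Over.w θ.hom.hom)).trans (Over.w ν))
    have hθ : θ' ≫ ν = ν := Over.OverMorphism.ext (Over.w θ.hom.hom)
    rw [hν] at hθ
    obtain ⟨a, ha, hd⟩ := exists_const_of_comp_eq_one ν (θ' * (𝟙 A)⁻¹) (by
      rw [hν, mul_zpow, inv_zpow, hθ, mul_inv_cancel])
    rw [hν] at ha
    have hθa : θ' = (𝟙 A) * (toUnit A ≫ a) := by rw [← hd, mul_comm, inv_mul_cancel_right]
    refine ⟨a, ⟨ha, congrArg CommaMorphism.left hθa⟩, fun b ⟨_, hb⟩ => ?_⟩
    have h2 : toUnit A ≫ b = toUnit A ≫ a :=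
      mul_left_cancel ((Over.OverMorphism.ext hb : θ' = _).symm.trans hθa)
    have h3 := congrArg ((η[A] : 𝟙_ _ ⟶ A) ≫ ·) h2
    simp only [← Category.assoc] at h3
    rwa [show (η[A] : 𝟙_ _ ⟶ A) ≫ toUnit A = 𝟙 _ from toUnit_unique _ _, Category.id_comp, Category.id_comp] at h3

end Groth.Agent.H9PiOne

end
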