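import Groth.Agent.H9PiOne.RegFull
import Groth.Agent.Pi1Ext.Spread
import Groth.Agent.Pi1Ext.PuritySch
import Groth.Agent.StalkLoc7.Basic
import Mathlib.AlgebraicGeometry.Morphisms.Flat

/-!
# Extension of covers across a regular complement, unramified in codimension one: Noetherian case
-/

set_option autoImplicit false
set_option linter.style.haveILetI false
set_option backward.isDefEq.respectTransparency false
set_option backward.isDefEq.respectTransparency.types false

universe u

open CategoryTheory CategoryTheory.Limits AlgebraicGeometry TopologicalSpace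

noncomputable section

namespace Groth.Agent.H9PiOne.RegExtend

open Groth.Agent.Pi1Ext

/-- extension data at the codimension one points -/
def Unr {X : Scheme.{u}} (U : X.Opens) (Y : FEt.Cat (U : Scheme.{u})) : Prop :=
  ∀ ξ : X, ξ ∉ U → ringKrullDim (X.presheaf.stalk ξ) = 1 →
    ∃ Yξ : FEt.Cat (Spec (X.presheaf.stalk ξ)),
      Nonempty ((FEt.restrict (pullback.snd U.ι (X.fromSpecStalk ξ))).obj Yξ ≅
        (FEt.restrict (pullback.fst U.ι (X.fromSpecStalk ξ))).obj Y)

theorem range_pullback_snd_eq {X : Scheme.{u}} [IsLocallyNoetherian X] {U U' : X.Opens} (hU : Dense (U : Set X))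
    (hle : U ≤ U') (x : X) (hx : x ∉ U') (hdim : ringKrullDim (X.presheaf.stalk x) ≤ 1) :
    Set.range (pullback.snd U.ι (X.fromSpecStalk x)).base = Set.range (pullback.snd U'.ι (X.fromSpecStalk x)).base := by
  rw [Scheme.Pullback.range_snd, Scheme.Pullback.range_snd, Scheme.Opens.range_ι, Scheme.Opens.range_ι]
  refine Set.Subset.antisymm (Set.preimage_mono hle) fun q hq => ?_
  obtain ⟨z, hz, hzq⟩ := RegFull.exists_specializes U (hU ((X.fromSpecStalk x).base q))
  obtain ⟨P, rfl⟩ : z ∈ Set.range (X.fromSpecStalk x).base := by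
    rw [Scheme.range_fromSpecStalk]
    exact hzq.trans ((Scheme.range_fromSpecStalk (X := X)).subset ⟨q, rfl⟩)
  have hPq : P.asIdeal ≤ q.asIdeal :=
    (PrimeSpectrum.le_iff_specializes P q).2 ((X.fromSpecStalk x).isEmbedding.isInducing.specializes_iff.1 hzq)
  rcases eq_or_lt_of_le hPq with e | hlt
  · rw [← (PrimeSpectrum.ext e : P = q)]; exact hz
  · exfalso
    haveI := P.isPrime
    haveI := q.isPrime
    have hqm : q.asIdeal < IsLocalRing.maximalIdeal _ := by
      refine lt_of_le_of_ne (IsLocalRing.le_maximalIdeal q.isPrime.ne_top) fun e => hx ?_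
      have : q = IsLocalRing.closedPoint (X.presheaf.stalk x) := PrimeSpectrum.ext e
      have hq' : (X.fromSpecStalk x).base q ∈ U' := hq
      rwa [this, Scheme.fromSpecStalk_closedPoint] at hq'
    have e1 := Ideal.height_add_one_le_of_lt_of_isPrime hlt
    have e2 := Ideal.height_add_one_le_of_lt_of_isPrime hqm
    rw [← IsLocalRing.maximalIdeal_height_eq_ringKrullDim] at hdim
    have hdim' : (IsLocalRing.maximalIdeal (X.presheaf.stalk x)).height ≤ 1 := by exact_mod_cast hdim
    have : (1 : ℕ∞) + 1 ≤ 1 := calc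
      (1 : ℕ∞) + 1 ≤ P.asIdeal.height + 1 + 1 := by gcongr; exact le_add_self
      _ ≤ q.asIdeal.height + 1 := by gcongr
      _ ≤ _ := e2
      _ ≤ 1 := hdim'
    norm_num at this

theorem exists_extend {X : Scheme.{u}} [IsNoetherian X] (U : X.Opens) (hU : Dense (U : Set X))
    (V : FEt.Cat (U : Scheme.{u}))
    (hreg : ∀ x : X, x ∉ U → IsRegularLocalRing (X.presheaf.stalk x))
    (hunr : Unr U V) :
    ∃ Y : FEt.Cat X, Nonempty ((FEt.restrict U.ι).obj Y ≅ V) := by
  suffices main : ∀ (U' : X.Opens) (hle : U ≤ U') (V' : FEt.Cat (U' : Scheme.{u}))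
      (_ : (FEt.restrict (X.homOfLE hle)).obj V' ≅ V),
      ∃ Y : FEt.Cat X, Nonempty ((FEt.restrict U'.ι).obj Y ≅ V') by
    haveI : IsIso (X.homOfLE (le_refl U)) := by rw [X.homOfLE_rfl]; infer_instance
    exact main U le_rfl V (MorphismProperty.Over.isoMk (asIso (pullback.fst V.hom (X.homOfLE (le_refl U))))
      (pullback.condition.trans (by rw [X.homOfLE_rfl]; exact Category.comp_id _)))
  intro U'
  induction U' using WellFoundedGT.induction with
  | _ U' ih =>
    intro hle V' e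
    by_cases hT : U' = ⊤
    · subst hT
      haveI : IsIso (⊤ : X.Opens).ι := by rw [← Scheme.topIso_hom]; infer_instance
      exact ⟨(FEt.restrict (inv (⊤ : X.Opens).ι)).obj V',
        ⟨(Spread.restrictComp (⊤ : X.Opens).ι (inv (⊤ : X.Opens).ι) (𝟙 _) (IsIso.hom_inv_id _).symm V').symm ≪≫
          Spread.restrictId V'⟩⟩
    · obtain ⟨x, hx, hmin⟩ := Spread.exists_min_point U' hT
      have hxU : x ∉ U := fun h => hx (hle h)
      have hloc : ∃ Ex : FEt.Cat (Spec (X.presheaf.stalk x)),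
          Nonempty ((FEt.restrict (pullback.snd U'.ι (X.fromSpecStalk x))).obj Ex ≅
            (FEt.restrict (pullback.fst U'.ι (X.fromSpecStalk x))).obj V') := by
        haveI := hreg x hxU
        by_cases h2 : (2 : WithBot ℕ∞) ≤ ringKrullDim (X.presheaf.stalk x)
        · exact Spread.exists_local_extension U' V' x (PuritySch.purityHolds_of_regular _ h2) hx hmin
        have h1 : ringKrullDim (X.presheaf.stalk x) = 1 := by
          have h0 : ¬ ringKrullDim (X.presheaf.stalk x) ≤ 0 := fun h0 => hxU (RegFull.mem_of_dim_zero hU h0)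
          rw [← IsLocalRing.maximalIdeal_height_eq_ringKrullDim] at h0 h2 ⊢
          generalize (IsLocalRing.maximalIdeal (X.presheaf.stalk x)).height = n at h0 h2 ⊢
          have h0' : ¬ n ≤ 0 := fun h => h0 (WithBot.coe_le_coe.2 h)
          have h2' : ¬ (2 : ℕ∞) ≤ n := fun h => h2 (WithBot.coe_le_coe.2 h)
          refine congrArg WithBot.some (le_antisymm ?_ (Order.one_le_iff_ne_zero.2 fun e => h0' e.le))
          refine Order.le_of_lt_succ ((not_le.1 h2').trans_eq ?_)
          rfl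
        obtain ⟨Yξ, ⟨eξ⟩⟩ := hunr x hxU h1
        let s := X.fromSpecStalk x
        have hr := range_pullback_snd_eq hU hle x hx h1.le
        let κ : pullback U.ι s ≅ pullback U'.ι s :=
          IsOpenImmersion.isoOfRangeEq (pullback.snd U.ι s) (pullback.snd U'.ι s) hr
        have hκ : κ.hom ≫ pullback.snd U'.ι s = pullback.snd U.ι s := IsOpenImmersion.isoOfRangeEq_hom_fac _ _ hr
        have hκ' : κ.inv ≫ pullback.snd U.ι s = pullback.snd U'.ι s := IsOpenImmersion.isoOfRangeEq_inv_fac _ _ hr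
        have hfst : pullback.fst U'.ι s = κ.inv ≫ pullback.fst U.ι s ≫ X.homOfLE hle := by
          rw [← cancel_mono U'.ι, Category.assoc, Category.assoc, X.homOfLE_ι, pullback.condition,
            pullback.condition, reassoc_of% hκ']
        refine ⟨Yξ, ⟨Spread.restrictComp κ.inv (pullback.snd U.ι s) _ hκ'.symm Yξ ≪≫
          (FEt.restrict κ.inv).mapIso (eξ ≪≫ (FEt.restrict (pullback.fst U.ι s)).mapIso e.symm ≪≫
            (Spread.restrictComp (pullback.fst U.ι s) (X.homOfLE hle) _ rfl V').symm) ≪≫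
          (Spread.restrictComp κ.inv (pullback.fst U.ι s ≫ X.homOfLE hle) _ hfst V').symm⟩⟩
      obtain ⟨Ex, ⟨ex⟩⟩ := hloc
      obtain ⟨U'', hle', V'', hxU'', ⟨eV⟩⟩ := Spread.exists_extend_nbhd U' V' x Ex ex
      obtain ⟨Y, ⟨eY⟩⟩ := ih U'' (lt_of_le_of_ne hle' fun he => hx (he ▸ hxU'')) (hle.trans hle') V''
        (Spread.restrictComp (X.homOfLE hle) (X.homOfLE hle') _ (X.homOfLE_homOfLE hle hle').symm V'' ≪≫
          (FEt.restrict (X.homOfLE hle)).mapIso eV ≪≫ e)
      exact ⟨Y, ⟨Spread.restrictComp (X.homOfLE hle') U''.ι U'.ι (X.homOfLE_ι hle').symm Y ≪≫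
        (FEt.restrict (X.homOfLE hle')).mapIso eY ≪≫ eV⟩⟩

/-- extension over an affine open -/
theorem exists_extend_open {X : Scheme.{u}} [IsLocallyNoetherian X] (U : X.Opens) (hU : Dense (U : Set X))
    (V : FEt.Cat (U : Scheme.{u}))
    (hreg : ∀ x : X, x ∉ U → IsRegularLocalRing (X.presheaf.stalk x))
    (hunr : Unr U V) (W : X.Opens) (hW : IsAffineOpen W) :
    ∃ Y : FEt.Cat (W : Scheme.{u}), Nonempty ((FEt.restrict (W.ι ⁻¹ᵁ U).ι).obj Y ≅
      (FEt.restrict (W.ι ∣_ U)).obj V) := by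
  haveI : IsAffine (W : Scheme.{u}) := hW
  haveI : IsNoetherian (W : Scheme.{u}) := {}
  have hreg' : ∀ x : (W : Scheme.{u}), x ∉ W.ι ⁻¹ᵁ U → IsRegularLocalRing ((W : Scheme.{u}).presheaf.stalk x) :=
    fun x hx => by
      haveI := hreg (W.ι.base x) hx
      exact IsRegularLocalRing.of_ringEquiv (asIso (W.ι.stalkMap x)).commRingCatIsoToRingEquiv
  refine exists_extend (W.ι ⁻¹ᵁ U) ?_ _ hreg' fun ξ hξ hdim => ?_
  · exact hU.preimage W.ι.isOpenEmbedding.isOpenMap
  · have hdim' : ringKrullDim (X.presheaf.stalk (W.ι.base ξ)) = 1 := by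
      rw [← hdim]; exact ringKrullDim_eq_of_ringEquiv (asIso (W.ι.stalkMap ξ)).commRingCatIsoToRingEquiv
    obtain ⟨Yξ, ⟨eξ⟩⟩ := hunr (W.ι.base ξ) hξ hdim'
    let σ := Spec.map (W.ι.stalkMap ξ)
    let s := X.fromSpecStalk (W.ι.base ξ)
    let s' := (W : Scheme.{u}).fromSpecStalk ξ
    have hσ : σ ≫ s = s' ≫ W.ι := Scheme.SpecMap_stalkMap_fromSpecStalk W.ι
    let a := pullback.fst (W.ι ⁻¹ᵁ U).ι s'
    let b := pullback.snd (W.ι ⁻¹ᵁ U).ι s'
    have hab : (a ≫ W.ι ∣_ U) ≫ U.ι = (b ≫ σ) ≫ s := by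
      rw [Category.assoc, Category.assoc, morphismRestrict_ι, hσ, pullback.condition_assoc]
    let θ := pullback.lift (a ≫ W.ι ∣_ U) (b ≫ σ) hab
    refine ⟨(FEt.restrict σ).obj Yξ, ⟨Spread.restrictSquare b σ θ (pullback.snd U.ι s) (pullback.lift_snd _ _ _).symm Yξ ≪≫
      (FEt.restrict θ).mapIso eξ ≪≫
      Spread.restrictSquare θ (pullback.fst U.ι s) a (W.ι ∣_ U) (pullback.lift_fst _ _ _) V⟩⟩

end Groth.Agent.H9PiOne.RegExtend
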