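import Groth.Agent.Pi1X.FEtFull
import Groth.Agent.Pi1X.FEtBasic
import Groth.Agent.AffineNhd.Glue
import Groth.Agent.EtStalk.Basic
import Groth.Agent.RegLoc6.RegEtale
import Mathlib.AlgebraicGeometry.Noetherian

/-!
# Restriction to a dense open with regular complement is fully faithful
-/

set_option autoImplicit false
set_option linter.style.haveILetI false

universe u

open CategoryTheory CategoryTheory.Limits AlgebraicGeometry TopologicalSpace

noncomputable section

namespace Groth.Agent.H9PiOne.RegFull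

/-- A point in the closure of an open of a locally Noetherian scheme has a generization in it. -/
theorem exists_specializes {X : Scheme.{u}} [IsLocallyNoetherian X] (A : X.Opens) {w : X}
    (hw : w ∈ closure (A : Set X)) : ∃ z ∈ A, z ⤳ w := by
  obtain ⟨W, hW, hwW, -⟩ := exists_isAffineOpen_mem_and_subset (x := w) (U := ⊤) trivial
  haveI : IsNoetherianRing Γ(X, W) := IsLocallyNoetherian.component_noetherian ⟨W, hW⟩
  haveI : NoetherianSpace (W : Set X) := noetherianSpace_of_isAffineOpen W hW
  let O : X.Opens := A ⊓ W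
  have hO : IsCompact (O : Set X) := by
    have h := (NoetherianSpace.isCompact (α := (W : Set X)) (Subtype.val ⁻¹' (A : Set X))).image continuous_subtype_val
    rw [Subtype.image_preimage_coe, Set.inter_comm] at h
    exact h
  have hw' : w ∈ closure ((O : Set X) \ ((⊥ : X.Opens) : Set X)) := by
    rw [Opens.coe_bot, Set.sdiff_empty]
    refine mem_closure_iff.2 fun o ho hwo => ?_
    obtain ⟨z, ⟨hz1, hz2⟩, hz3⟩ := mem_closure_iff.1 hw (o ∩ W) (ho.inter W.isOpen) ⟨hwo, hwW⟩
    exact ⟨z, hz1, hz3, hz2⟩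
  obtain ⟨z, hz, -, hzw⟩ := AffineNhd.exists_specializes_of_mem_closure_diff hO hw'
  exact ⟨z, hz.1, hzw⟩

/-- A point with zero-dimensional local ring lies in every dense open. -/
theorem mem_of_dim_zero {X : Scheme.{u}} [IsLocallyNoetherian X] {U : X.Opens} (hU : Dense (U : Set X))
    {y : X} (hy : ringKrullDim (X.presheaf.stalk y) ≤ 0) : y ∈ U := by
  obtain ⟨z, hz, hzy⟩ := exists_specializes U (hU y)
  obtain ⟨P, rfl⟩ : z ∈ Set.range (X.fromSpecStalk y).base := by
    rw [Scheme.range_fromSpecStalk]; exact hzy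
  haveI : Ring.KrullDimLE 0 (X.presheaf.stalk y) := Ring.krullDimLE_iff.2 hy
  have hP : P = IsLocalRing.closedPoint (X.presheaf.stalk y) :=
    PrimeSpectrum.ext (IsLocalRing.eq_maximalIdeal (Ideal.IsPrime.isMaximal' (I := P.asIdeal) (hI := P.isPrime)))
  rwa [hP, Scheme.fromSpecStalk_closedPoint] at hz

/-- Opens that are disjoint have closures meeting only at points whose local ring is not a domain. -/
theorem not_mem_closure_of_isDomain {X : Scheme.{u}} [IsLocallyNoetherian X] (A B : X.Opens)
    (hAB : ∀ z, z ∈ A → z ∉ B) {w : X} [IsDomain (X.presheaf.stalk w)]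
    (hwA : w ∈ closure (A : Set X)) : w ∉ closure (B : Set X) := by
  intro hwB
  obtain ⟨a, ha, haw⟩ := exists_specializes A hwA
  obtain ⟨b, hb, hbw⟩ := exists_specializes B hwB
  obtain ⟨P, rfl⟩ : a ∈ Set.range (X.fromSpecStalk w).base := by rw [Scheme.range_fromSpecStalk]; exact haw
  obtain ⟨Q, rfl⟩ : b ∈ Set.range (X.fromSpecStalk w).base := by rw [Scheme.range_fromSpecStalk]; exact hbw
  let η : Spec (X.presheaf.stalk w) := (⟨⊥, Ideal.isPrime_bot⟩ : PrimeSpectrum (X.presheaf.stalk w))
  have h : ∀ P : Spec (X.presheaf.stalk w), (X.fromSpecStalk w).base η ⤳ (X.fromSpecStalk w).base P := fun P =>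
    ((PrimeSpectrum.le_iff_specializes η P).1 bot_le).map (X.fromSpecStalk w).continuous
  exact hAB _ ((h P).mem_open A.isOpen ha) ((h Q).mem_open B.isOpen hb)

/-- Restriction to a dense open with regular complement is fully faithful. -/
theorem full_faithful {X : Scheme.{u}} [IsLocallyNoetherian X] (U : X.Opens) (hU : Dense (U : Set X))
    (h : ∀ x : X, x ∉ U → IsRegularLocalRing (X.presheaf.stalk x)) :
    (FEt.restrict U.ι).Full ∧ (FEt.restrict U.ι).Faithful := by
  have hC : ∀ C : Set X, IsClopen C → C.Nonempty → (C ∩ Set.range U.ι.base).Nonempty := fun C hC hne => by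
    rw [Scheme.Opens.range_ι]
    exact hU.inter_open_nonempty C hC.2 hne
  refine ⟨Pi1X.restrict_full _ hC fun W C hWC => ?_, Pi1X.restrict_faithful _ hC⟩
  let g : W.left ⟶ X := W.hom
  haveI : Etale g := W.prop.2
  haveI : IsLocallyNoetherian W.left := LocallyOfFiniteType.isLocallyNoetherian g
  let j : pullback g U.ι ⟶ W.left := pullback.fst g U.ι
  have hrange : Set.range j.base = g.base ⁻¹' (U : Set X) :=
    (Scheme.Pullback.range_fst g U.ι).trans (by rw [Scheme.Opens.range_ι])
  have hdense : closure (Set.range j.base) = Set.univ := by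
    rw [hrange, ← (g.isOpenMap).preimage_closure_eq_closure_preimage g.continuous, hU.closure_eq, Set.preimage_univ]
  let A : W.left.Opens := ⟨j.base '' C, j.isOpenEmbedding.isOpenMap _ hWC.2⟩
  let B : W.left.Opens := ⟨j.base '' Cᶜ, j.isOpenEmbedding.isOpenMap _ hWC.compl.2⟩
  have hAB : ∀ z, z ∈ A → z ∉ B := by
    rintro _ ⟨c, hc, rfl⟩ ⟨d, hd, hdc⟩
    exact hd (j.isOpenEmbedding.injective hdc ▸ hc)
  have hcov : closure (A : Set W.left) ∪ closure (B : Set W.left) = Set.univ := by
    rw [← closure_union, ← hdense]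
    exact congrArg closure ((Set.image_union _ _ _).symm.trans (by rw [Set.union_compl_self, Set.image_univ]))
  have hsep : ∀ w, w ∈ closure (A : Set W.left) → w ∉ closure (B : Set W.left) := by
    intro w hwA hwB
    by_cases hw : w ∈ Set.range j.base
    · obtain ⟨c, rfl⟩ := hw
      by_cases hc : c ∈ C
      · obtain ⟨z, hzA, hzB⟩ := mem_closure_iff.1 hwB A A.isOpen ⟨c, hc, rfl⟩
        exact hAB z hzA hzB
      · obtain ⟨z, hzB, hzA⟩ := mem_closure_iff.1 hwA B B.isOpen ⟨c, hc, rfl⟩
        exact hAB z hzA hzB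
    · rw [hrange] at hw
      haveI : IsRegularLocalRing (W.left.presheaf.stalk w) :=
        (EtStalk.regular_stalk_iff g w).2 (h (g.base w) hw)
      haveI : IsDomain (W.left.presheaf.stalk w) := RegLoc6.isDomain_of_isRegularLocalRing _
      exact not_mem_closure_of_isDomain A B hAB hwA hwB
  refine ⟨closure (A : Set W.left), ⟨isClosed_closure, ?_⟩, ?_⟩
  · rw [← isClosed_compl_iff]
    convert isClosed_closure (s := (B : Set W.left)) using 1
    ext w
    exact ⟨fun hw => ((hcov.ge (Set.mem_univ w)).resolve_left hw), fun hw hA => hsep w hA hw⟩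
  · refine Set.ext fun c => ⟨fun hc => ?_, fun hc => subset_closure ⟨c, hc, rfl⟩⟩
    by_contra hcC
    exact hsep _ hc (subset_closure ⟨c, hcC, rfl⟩)

end Groth.Agent.H9PiOne.RegFull
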