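import Groth.Agent.H9PiOne.ClopenFibre
import Groth.Agent.H9PiOne.FEtAffineBC
import Groth.Agent.H9PiOne.FamilyConst

/-!
# Proper flat schemes with reduced geometric fibres split étale locally into geometrically connected pieces
-/

set_option autoImplicit false
set_option linter.style.haveILetI false
set_option linter.unusedSectionVars false
set_option backward.isDefEq.respectTransparency false
set_option backward.isDefEq.respectTransparency.types false

universe u

open CategoryTheory CategoryTheory.Limits AlgebraicGeometry TopologicalSpace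

noncomputable section

namespace Groth.Agent.H9PiOne

open Groth.Agent Groth.Agent.MorLib Groth.Agent.Hensel

attribute [-instance] CategoryTheory.catToReflQuiver

/-- The henselization at a point with values in a field, onto which it maps, is henselian local with that
residue field. -/
theorem henselianLocalRing_henz_field (R K : Type u) [CommRing R] [Field K] [Algebra R K]
    (hs : Function.Surjective (Henz.proj R K)) :
    ∃ _ : HenselianLocalRing (Henz R K),
      IsLocalRing.maximalIdeal (Henz R K) = RingHom.ker (Henz.proj R K).toRingHom ∧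
        Nonempty (K ≃+* IsLocalRing.ResidueField (Henz R K)) := by
  haveI : Nontrivial (Henz R K) := (Henz.proj R K).toRingHom.domain_nontrivial
  haveI : IsLocalRing (Henz R K) := .of_nonunits_add fun a b ha hb => by
    simp only [mem_nonunits_iff, Henz.isUnit_iff, isUnit_iff_ne_zero, not_not] at ha hb ⊢
    rw [map_add, ha, hb, add_zero]
  have hm : IsLocalRing.maximalIdeal (Henz R K) = RingHom.ker (Henz.proj R K).toRingHom := by
    ext x
    rw [IsLocalRing.mem_maximalIdeal, mem_nonunits_iff, Henz.isUnit_iff, isUnit_iff_ne_zero, not_not]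
    rfl
  haveI : HenselianRing (Henz R K) (IsLocalRing.maximalIdeal (Henz R K)) := by
    rw [hm]; exact Henz.henselianRing
  exact ⟨henselianLocalRing_of_henselianRing _, hm,
    ⟨(RingHom.quotientKerEquivOfSurjective (f := (Henz.proj R K).toRingHom) hs).symm.trans
      (Ideal.quotEquivOfEq hm.symm)⟩⟩

variable {B : Type u} [CommRing B] {X : Scheme.{u}} (f : X ⟶ Spec (CommRingCat.of B)) [IsProper f] [Flat f]
  [LocallyOfFinitePresentation f] [GeometricallyReduced f]

set_option maxHeartbeats 2000000 in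
/-- Near every prime, a proper flat scheme with reduced geometric fibres splits étale locally into finitely many
clopen pieces with geometrically connected fibres. -/
theorem exists_etale_decomposition (p : PrimeSpectrum B) :
    ∃ (C : Type u) (_ : CommRing C) (_ : Algebra B C) (_ : Algebra.Etale B C)
      (_ : p ∈ Set.range (PrimeSpectrum.comap (algebraMap B C)))
      (ι : Type u) (_ : Finite ι) (G : ι → (bcA f C).Opens),
      (∀ c d, c ≠ d → G c ⊓ G d = ⊥) ∧ ⨆ c, G c = ⊤ ∧ ∀ c, GeometricallyConnected ((G c).ι ≫ bcA.snd f C) := by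
  classical
  let κ := p.asIdeal.ResidueField
  let L := SeparableClosure κ
  letI : Algebra B L := ((algebraMap κ L).comp (algebraMap B κ)).toAlgebra
  haveI : IsScalarTower B κ L := IsScalarTower.of_algebraMap_eq fun _ => rfl
  let H := Henz B L
  have hpr : Function.Surjective (Henz.proj B L) := henz_proj_surjective p.asIdeal L
  obtain ⟨_, hm, ⟨eL⟩⟩ := henselianLocalRing_henz_field B L hpr
  haveI : IsSepClosed (IsLocalRing.ResidueField H) := isSepClosed_of_ringEquiv eL
  let fH : bcA f H ⟶ Spec (CommRingCat.of H) := bcA.snd f H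
  haveI : IsProper fH := MorphismProperty.pullback_snd (P := @IsProper) _ _ ‹_›
  haveI : Flat fH := MorphismProperty.pullback_snd (P := @Flat) _ _ ‹_›
  haveI : LocallyOfFinitePresentation fH := MorphismProperty.pullback_snd (P := @LocallyOfFinitePresentation) _ _ ‹_›
  haveI : GeometricallyReduced fH := MorphismProperty.pullback_snd (P := @GeometricallyReduced) _ _ ‹_›
  obtain ⟨ι, _, G, hdis, hcov, hcl, hgc⟩ := exists_geomConnected_pieces fH
  haveI : CompactSpace ↥(bcA f H) := QuasiCompact.compactSpace_of_compactSpace fH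
  -- the limit presentation
  let D := HenzLim.diagram B L
  obtain ⟨i₀⟩ := IsCofiltered.nonempty (C := (NbhdCat B L)ᵒᵖ)
  let xi : bcA f i₀.unop.N.B ⟶ D.obj i₀ := bcA.snd f _
  have hX := isPullback_bcMap f (Henz.ofB i₀.unop.N)
  haveI : CompactSpace X := QuasiCompact.compactSpace_of_compactSpace f
  haveI : QuasiSeparatedSpace X := quasiSeparatedSpace_of_quasiSeparated f
  haveI : CompactSpace ↥(bcA f i₀.unop.N.B) := QuasiCompact.compactSpace_of_compactSpace xi
  haveI : QuasiSeparatedSpace ↥(bcA f i₀.unop.N.B) := quasiSeparatedSpace_of_quasiSeparated xi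
  haveI : ∀ n : Over i₀, CompactSpace ((BC.diag D xi).obj n) := fun n => BC.compactSpace_obj _ xi n
  haveI : ∀ n : Over i₀, QuasiSeparatedSpace ((BC.diag D xi).obj n) :=
    fun n => BC.quasiSeparatedSpace_obj _ xi n
  let c' := BC.cone D xi (c := HenzLim.cone B L) hX
  have hc' : IsLimit c' := BC.isLimitCone D xi (c := HenzLim.cone B L) hX (HenzLim.isLimit B L)
  -- the pieces at a stage
  choose j V hV hVG using fun c => exists_preimage_eq (BC.diag D xi) c' hc' (G c) (hcl c).isCompact
  letI := Fintype.ofFinite ι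
  obtain ⟨k, hk⟩ := IsCofiltered.inf_objs_exists (Finset.univ.image j)
  have φ : ∀ c, k ⟶ j c := fun c => (hk (Finset.mem_image_of_mem j (Finset.mem_univ c))).some
  let U : ι → ((BC.diag D xi).obj k).Opens := fun c => (BC.diag D xi).map (φ c) ⁻¹ᵁ V c
  have hU : ∀ c, IsCompact (U c : Set ((BC.diag D xi).obj k)) := fun c =>
    ((BC.diag D xi).map (φ c)).isCompact_preimage (hV c)
  have hUG : ∀ c, c'.π.app k ⁻¹ᵁ U c = G c := fun c => by
    rw [← hVG c, ← Scheme.Hom.comp_preimage, c'.w]
  let P : ((BC.diag D xi).obj k).Opens := ⨆ z : {z : ι × ι // z.1 ≠ z.2}, U z.1.1 ⊓ U z.1.2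
  have hP : IsCompact (P : Set ((BC.diag D xi).obj k)) := by
    rw [Opens.coe_iSup]
    exact isCompact_iUnion fun z => (hU _).inter_of_isOpen (hU _) (U _).isOpen (U _).isOpen
  have hPG : c'.π.app k ⁻¹ᵁ P = c'.π.app k ⁻¹ᵁ ⊥ := by
    simp only [P, Scheme.Hom.preimage_iSup, Scheme.Hom.preimage_inf, hUG, Scheme.Hom.preimage_bot]
    exact iSup_eq_bot.2 fun z => hdis _ _ z.2
  obtain ⟨k₁, ψ₁, h₁⟩ := exists_map_preimage_eq_map_preimage (BC.diag D xi) c' hc' hP (by simp) hPG
  have hS : IsCompact ((⨆ c, U c : ((BC.diag D xi).obj k).Opens) : Set ((BC.diag D xi).obj k)) := by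
    rw [Opens.coe_iSup]
    exact isCompact_iUnion hU
  obtain ⟨k₂, ψ₂, h₂⟩ := exists_map_preimage_eq_map_preimage (BC.diag D xi) c' hc' hS
    (V := ⊤) isCompact_univ (by simp [Scheme.Hom.preimage_iSup, hUG, hcov])
  obtain ⟨m, a₁, a₂, ha⟩ := IsCofiltered.cospan ψ₁ ψ₂
  let ψ := a₁ ≫ ψ₁
  let N := m.left.unop.N
  let α : i₀.unop.N.B →ₐ[B] N.B := m.hom.unop.1
  let b : bcA f N.B ⟶ (BC.diag D xi).obj m :=
    pullback.lift (bcMap f α) (bcA.snd f N.B) (bcMap_snd f α)
  let O : ι → (bcA f N.B).Opens := fun c => b ⁻¹ᵁ (BC.diag D xi).map ψ ⁻¹ᵁ U c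
  have hOdis : ∀ c d, c ≠ d → O c ⊓ O d = ⊥ := fun c d h => by
    have h0 : (BC.diag D xi).map ψ ⁻¹ᵁ P = ⊥ := by
      rw [Functor.map_comp, Scheme.Hom.comp_preimage, h₁]
      simp
    have : O c ⊓ O d ≤ b ⁻¹ᵁ (BC.diag D xi).map ψ ⁻¹ᵁ P := by
      simp only [O, ← Scheme.Hom.preimage_inf]
      exact Scheme.Hom.preimage_mono _ (Scheme.Hom.preimage_mono _
        (le_iSup (fun z : {z : ι × ι // z.1 ≠ z.2} => U z.1.1 ⊓ U z.1.2) ⟨(c, d), h⟩))
    rw [h0, Scheme.Hom.preimage_bot] at this
    exact le_bot_iff.1 this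
  have hOcov : ⨆ c, O c = ⊤ := by
    have h0 : (BC.diag D xi).map ψ ⁻¹ᵁ (⨆ c, U c) = ⊤ := by
      rw [show ψ = a₂ ≫ ψ₂ from ha, Functor.map_comp, Scheme.Hom.comp_preimage, h₂]
      simp
    simp only [O, ← Scheme.Hom.preimage_iSup, h0]
    simp
  let β := bcMap f (Henz.ofB N)
  have hb : β ≫ b = c'.π.app m := by
    show _ = BC.proj D xi (c := HenzLim.cone B L) hX m
    have hsnd : bcA.snd f H ≫ (HenzLim.cone B L).π.app m.left ≫ D.map m.hom =
        bcA.snd f H ≫ (HenzLim.cone B L).π.app i₀ := by rw [(HenzLim.cone B L).w]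
    refine pullback.hom_ext ?_ ?_
    · rw [BC.proj_fst, Category.assoc, pullback.lift_fst]
      refine pullback.hom_ext ?_ ?_
      · rw [Category.assoc, bcMap_fst, bcMap_fst, bcMap_fst]
      · calc (β ≫ bcMap f α) ≫ bcA.snd f _
            = β ≫ bcA.snd f N.B ≫ Spec.map (CommRingCat.ofHom α.toRingHom) := by
              rw [Category.assoc, bcMap_snd]
          _ = bcA.snd f H ≫ Spec.map (CommRingCat.ofHom (Henz.ofB N).toRingHom) ≫
                Spec.map (CommRingCat.ofHom α.toRingHom) := by rw [← Category.assoc, bcMap_snd, Category.assoc]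
          _ = bcA.snd f H ≫ Spec.map (CommRingCat.ofHom (Henz.ofB i₀.unop.N).toRingHom) := hsnd
          _ = _ := (bcMap_snd f _).symm
    · rw [BC.proj_snd, Category.assoc, pullback.lift_snd]
      exact bcMap_snd f _
  have hOG : ∀ c, β ⁻¹ᵁ O c = G c := fun c => by
    show β ⁻¹ᵁ b ⁻¹ᵁ (BC.diag D xi).map ψ ⁻¹ᵁ U c = G c
    rw [← Scheme.Hom.comp_preimage, hb, ← Scheme.Hom.comp_preimage, c'.w, hUG]
  have hOcl : ∀ c, IsClosed (O c : Set (bcA f N.B)) := fun c => by
    have : (O c : Set (bcA f N.B)) = (⋃ d ∈ {d | d ≠ c}, (O d : Set (bcA f N.B)))ᶜ := by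
      ext x
      simp only [Set.mem_compl_iff, Set.mem_iUnion, not_exists]
      refine ⟨fun hx d hd hxd => ?_, fun hx => ?_⟩
      · exact ((hOdis d c hd).le ⟨hxd, hx⟩ : x ∈ (⊥ : (bcA f N.B).Opens))
      · obtain ⟨d, hd⟩ := Opens.mem_iSup.1 (hOcov.ge (Opens.mem_top x))
        by_cases h : d = c
        · exact h ▸ hd
        · exact (hx d h hd).elim
    rw [this]
    exact (isOpen_biUnion fun d _ => (O d).isOpen).isClosed_compl
  -- counting components at the marked point
  let fN : bcA f N.B ⟶ Spec (CommRingCat.of N.B) := bcA.snd f N.B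
  haveI : IsProper fN := MorphismProperty.pullback_snd (P := @IsProper) _ _ ‹_›
  haveI : Flat fN := MorphismProperty.pullback_snd (P := @Flat) _ _ ‹_›
  haveI : LocallyOfFinitePresentation fN := MorphismProperty.pullback_snd (P := @LocallyOfFinitePresentation) _ _ ‹_›
  haveI : GeometricallyReduced fN := MorphismProperty.pullback_snd (P := @GeometricallyReduced) _ _ ‹_›
  have hprop : ∀ c, IsProper ((O c).ι ≫ fN) := fun c => by
    haveI : IsClosedImmersion (O c).ι := IsClosedImmersion.of_isPreimmersion _ (by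
      rw [Scheme.Opens.range_ι]; exact hOcl c)
    infer_instance
  let q : PrimeSpectrum N.B := ⟨RingHom.ker N.toK.toRingHom, RingHom.ker_isPrime _⟩
  let r := Spec.map (CommRingCat.ofHom (Henz.ofB N).toRingHom)
  have hrq : r (IsLocalRing.closedPoint H) = q := by
    refine PrimeSpectrum.ext ?_
    show (IsLocalRing.maximalIdeal H).comap (Henz.ofB N).toRingHom = RingHom.ker N.toK.toRingHom
    rw [hm, RingHom.comap_ker]
    congr 1
    exact RingHom.ext fun x => Henz.proj_ofB N x
  have hone : ∀ c, MoreMor.nGeomConnComp ((O c).ι ≫ fN) q = 1 := fun c => by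
    have sq : IsPullback (β ∣_ O c) ((β ⁻¹ᵁ O c).ι ≫ fH) ((O c).ι ≫ fN) r :=
      (isPullback_morphismRestrict β (O c)).flip.flip.paste_vert (isPullback_bcMap f (Henz.ofB N))
    haveI : GeometricallyConnected ((β ⁻¹ᵁ O c).ι ≫ fH) := by rw [hOG c]; exact hgc c
    rw [← hrq, ← Groth.Agent.S1335.result _ _ _ _ sq]
    exact GeomLoci.nGeomConnComp_eq_one (f := (β ⁻¹ᵁ O c).ι ≫ fH) _
  have hopen : IsOpen (⋂ c, {s | MoreMor.nGeomConnComp ((O c).ι ≫ fN) s = 1}) :=
    isOpen_iInter_of_finite fun c => by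
      haveI := hprop c
      haveI : GeometricallyReduced ((O c).ι ≫ fN) := geometricallyReduced_ι_comp fN (O c)
      exact (Groth.Agent.S1364.result ((O c).ι ≫ fN)).isOpen_fiber 1
  obtain ⟨_, ⟨h, rfl⟩, hqh, hsub⟩ :=
    PrimeSpectrum.isTopologicalBasis_basic_opens.exists_subset_of_mem_open
      (Set.mem_iInter.2 hone : q ∈ _) hopen
  let C := Localization.Away h
  let θ : N.B →ₐ[B] C := IsScalarTower.toAlgHom B N.B C
  haveI : Algebra.Etale N.B C := Algebra.Etale.of_isLocalizationAway h
  haveI : Algebra.Etale B C := Algebra.Etale.comp B N.B C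
  refine ⟨C, inferInstance, inferInstance, inferInstance, ?_, ι, inferInstance, fun c => bcMap f θ ⁻¹ᵁ O c,
    fun c d hcd => by rw [← Scheme.Hom.preimage_inf, hOdis c d hcd, Scheme.Hom.preimage_bot],
    by rw [← Scheme.Hom.preimage_iSup, hOcov, Scheme.Hom.preimage_top], fun c => ?_⟩
  · obtain ⟨y, hy⟩ : q ∈ Set.range (PrimeSpectrum.comap (algebraMap N.B C)) := by
      rw [PrimeSpectrum.localization_away_comap_range C h]
      exact hqh
    refine ⟨y, ?_⟩
    rw [IsScalarTower.algebraMap_eq B N.B C, PrimeSpectrum.comap_comp, Function.comp_apply, hy]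
    refine PrimeSpectrum.ext ?_
    show (RingHom.ker N.toK.toRingHom).comap (algebraMap B N.B) = p.asIdeal
    rw [RingHom.comap_ker]
    erw [N.toK.comp_algebraMap]
    show RingHom.ker ((algebraMap κ L).comp (algebraMap B κ)) = p.asIdeal
    rw [RingHom.ker_comp_of_injective _ (algebraMap κ L).injective, Ideal.ker_algebraMap_residueField]
  · have sq : IsPullback (bcMap f θ ∣_ O c) ((bcMap f θ ⁻¹ᵁ O c).ι ≫ bcA.snd f C) ((O c).ι ≫ fN)
        (Spec.map (CommRingCat.ofHom θ.toRingHom)) :=
      (isPullback_morphismRestrict (bcMap f θ) (O c)).flip.flip.paste_vert (isPullback_bcMap f θ)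
    haveI := hprop c
    haveI : IsProper ((bcMap f θ ⁻¹ᵁ O c).ι ≫ bcA.snd f C) := MorphismProperty.of_isPullback sq inferInstance
    refine GeomLoci.geometricallyConnected_of_nGeom (f := (bcMap f θ ⁻¹ᵁ O c).ι ≫ bcA.snd f C) fun z => ?_
    rw [Groth.Agent.S1335.result _ _ _ _ sq z]
    refine Set.mem_iInter.1 (hsub ?_) c
    show Spec.map (CommRingCat.ofHom θ.toRingHom) z ∈ PrimeSpectrum.basicOpen h
    rw [← SetLike.mem_coe, ← PrimeSpectrum.localization_away_comap_range C h]
    exact ⟨z, rfl⟩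

end Groth.Agent.H9PiOne

end
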