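import Groth.Agent.H9PiOne.FEtAffineBC
import Groth.Agent.H9PiOne.FamilyConst
import Groth.Agent.H9PiOne.StageDecomp
import Groth.Agent.AlgSpLib.EtLocalInst

/-!
# Sections of proper schemes over the closed fibre extend to étale neighbourhoods
-/

set_option autoImplicit false
set_option linter.style.haveILetI false
set_option linter.unusedSectionVars false
set_option backward.isDefEq.respectTransparency false
set_option backward.isDefEq.respectTransparency.types false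

universe u

open CategoryTheory CategoryTheory.Limits AlgebraicGeometry TopologicalSpace

noncomputable section

namespace Groth.Agent.H9PiOne

open Groth.Agent Groth.Agent.MorLib Groth.Agent.Hensel

attribute [-instance] CategoryTheory.catToReflQuiver

/-- Composites of maps of base changes. -/
theorem bcMap_comp {B : Type u} [CommRing B] {X : Scheme.{u}} (f : X ⟶ Spec (CommRingCat.of B))
    {R₁ R₂ R₃ : Type u} [CommRing R₁] [Algebra B R₁] [CommRing R₂] [Algebra B R₂] [CommRing R₃] [Algebra B R₃]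
    (φ : R₁ →ₐ[B] R₂) (ψ : R₂ →ₐ[B] R₃) : bcMap f ψ ≫ bcMap f φ = bcMap f (ψ.comp φ) := by
  refine pullback.hom_ext ?_ ?_
  · simp
  · simp only [Category.assoc, bcMap_snd, bcMap_snd_assoc]
    rw [← Spec.map_comp]
    rfl

/-- A clopen subset of the base change to the henselisation comes from an étale neighbourhood. -/
theorem exists_clopen_stage {R : Type u} [CommRing R] {Y : Scheme.{u}} (g : Y ⟶ Spec (CommRingCat.of R))
    [QuasiCompact g] [QuasiSeparated g] (K : Type u) [CommRing K] [Algebra R K]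
    (G : (bcA g (Henz R K)).Opens) (hG : IsClosed (G : Set (bcA g (Henz R K)))) (W : Y.Opens)
    (hGW : G ≤ bcA.fst g (Henz R K) ⁻¹ᵁ W) :
    ∃ (N : Nbhd R K) (O : (bcA g N.B).Opens), IsClosed (O : Set (bcA g N.B)) ∧ O ≤ bcA.fst g N.B ⁻¹ᵁ W ∧
      bcMap g (Henz.ofB N) ⁻¹ᵁ O = G := by
  classical
  let D := HenzLim.diagram R K
  obtain ⟨i₀⟩ := IsCofiltered.nonempty (C := (NbhdCat R K)ᵒᵖ)
  let xi : bcA g i₀.unop.N.B ⟶ D.obj i₀ := bcA.snd g _
  have hX := isPullback_bcMap g (Henz.ofB i₀.unop.N)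
  haveI : CompactSpace Y := QuasiCompact.compactSpace_of_compactSpace g
  haveI : QuasiSeparatedSpace Y := quasiSeparatedSpace_of_quasiSeparated g
  haveI : CompactSpace ↥(bcA g i₀.unop.N.B) := QuasiCompact.compactSpace_of_compactSpace xi
  haveI : QuasiSeparatedSpace ↥(bcA g i₀.unop.N.B) := quasiSeparatedSpace_of_quasiSeparated xi
  haveI : CompactSpace ↥(bcA g (Henz R K)) :=
    QuasiCompact.compactSpace_of_compactSpace (bcA.snd g (Henz R K))
  haveI : ∀ n : Over i₀, CompactSpace ((BC.diag D xi).obj n) := fun n => BC.compactSpace_obj _ xi n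
  haveI : ∀ n : Over i₀, QuasiSeparatedSpace ((BC.diag D xi).obj n) :=
    fun n => BC.quasiSeparatedSpace_obj _ xi n
  let c' := BC.cone D xi (c := HenzLim.cone R K) hX
  have hc' : IsLimit c' := BC.isLimitCone D xi (c := HenzLim.cone R K) hX (HenzLim.isLimit R K)
  let Gc : (bcA g (Henz R K)).Opens := ⟨(G : Set (bcA g (Henz R K)))ᶜ, hG.isOpen_compl⟩
  obtain ⟨k₁, V, hV, hVG⟩ := exists_preimage_eq (BC.diag D xi) c' hc' G hG.isCompact
  obtain ⟨k₂, V', hV', hVG'⟩ := exists_preimage_eq (BC.diag D xi) c' hc' Gc G.isOpen.isClosed_compl.isCompact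
  obtain ⟨k, a, b, -⟩ : ∃ k, ∃ (_ : k ⟶ k₁) (_ : k ⟶ k₂), True :=
    ⟨IsCofiltered.min k₁ k₂, IsCofiltered.minToLeft _ _, IsCofiltered.minToRight _ _, trivial⟩
  let U₁ := (BC.diag D xi).map a ⁻¹ᵁ V
  let U₂ := (BC.diag D xi).map b ⁻¹ᵁ V'
  have hU : IsCompact (U₁ : Set ((BC.diag D xi).obj k)) := ((BC.diag D xi).map a).isCompact_preimage hV
  have hU' : IsCompact (U₂ : Set ((BC.diag D xi).obj k)) := ((BC.diag D xi).map b).isCompact_preimage hV'
  have hUG : c'.π.app k ⁻¹ᵁ U₁ = G := by rw [← hVG, ← Scheme.Hom.comp_preimage, c'.w]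
  have hUG' : c'.π.app k ⁻¹ᵁ U₂ = Gc := by rw [← hVG', ← Scheme.Hom.comp_preimage, c'.w]
  let fW : (BC.diag D xi).obj k ⟶ Y := pullback.fst xi (D.map k.hom) ≫ bcA.fst g _
  have hW : c'.π.app k ⁻¹ᵁ (fW ⁻¹ᵁ W) = bcA.fst g (Henz R K) ⁻¹ᵁ W := by
    rw [← Scheme.Hom.comp_preimage]
    refine congrArg (fun φ : bcA g (Henz R K) ⟶ Y => φ ⁻¹ᵁ W) ?_
    show BC.proj D xi (c := HenzLim.cone R K) hX k ≫ pullback.fst xi (D.map k.hom) ≫ bcA.fst g _ = _
    rw [BC.proj_fst_assoc, bcMap_fst]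
  obtain ⟨j₁, ψ₁, h₁⟩ := exists_map_preimage_le_map_preimage (BC.diag D xi) c' hc' hU
    (V := fW ⁻¹ᵁ W) (by rw [hUG, hW]; exact hGW)
  obtain ⟨j₂, ψ₂, h₂⟩ := exists_map_preimage_le_map_preimage (BC.diag D xi) c' hc'
    (U := U₁ ⊓ U₂) (V := ⊥) (hU.inter_of_isOpen hU' U₁.isOpen U₂.isOpen) (by
      rw [Scheme.Hom.preimage_inf, hUG, hUG']
      exact fun x hx => (hx.2 hx.1).elim)
  obtain ⟨j₃, ψ₃, h₃⟩ := exists_map_preimage_le_map_preimage (BC.diag D xi) c' hc'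
    (U := ⊤) (V := U₁ ⊔ U₂) isCompact_univ (by
      rw [Scheme.Hom.preimage_sup, hUG, hUG']
      exact fun x _ => (em (x ∈ G)).elim Or.inl Or.inr)
  obtain ⟨j₄, b₁, b₂, e₁⟩ := IsCofiltered.cospan ψ₁ ψ₂
  obtain ⟨m, d₁, d₂, e₂⟩ := IsCofiltered.cospan (b₁ ≫ ψ₁) ψ₃
  let ψ := d₁ ≫ b₁ ≫ ψ₁
  let N := m.left.unop.N
  let α : i₀.unop.N.B →ₐ[R] N.B := m.hom.unop.1
  let bb : bcA g N.B ⟶ (BC.diag D xi).obj m :=
    pullback.lift (bcMap g α) (bcA.snd g N.B) (bcMap_snd g α)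
  let O : (bcA g N.B).Opens := bb ⁻¹ᵁ (BC.diag D xi).map ψ ⁻¹ᵁ U₁
  have hinf : (BC.diag D xi).map ψ ⁻¹ᵁ (U₁ ⊓ U₂) ≤ ⊥ := by
    have h := Scheme.Hom.preimage_mono ((BC.diag D xi).map (d₁ ≫ b₂)) h₂
    rw [← Scheme.Hom.comp_preimage, ← Functor.map_comp, Category.assoc, ← e₁, ← Scheme.Hom.comp_preimage] at h
    simpa [ψ] using h
  have hsup : ⊤ ≤ (BC.diag D xi).map ψ ⁻¹ᵁ (U₁ ⊔ U₂) := by
    have h := Scheme.Hom.preimage_mono ((BC.diag D xi).map d₂) h₃
    rw [← Scheme.Hom.comp_preimage, ← Scheme.Hom.comp_preimage, ← Functor.map_comp, ← e₂] at h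
    simpa [ψ] using h
  have hcl : IsClosed (O : Set (bcA g N.B)) := by
    have : (O : Set (bcA g N.B)) = (bb ⁻¹ᵁ (BC.diag D xi).map ψ ⁻¹ᵁ U₂ : Set (bcA g N.B))ᶜ := by
      ext x
      refine ⟨fun hx hx' => (hinf (show bb x ∈ (BC.diag D xi).map ψ ⁻¹ᵁ (U₁ ⊓ U₂) from ⟨hx, hx'⟩)).elim, fun hx => ?_⟩
      exact (hsup (Opens.mem_top (bb x))).resolve_right hx
    rw [this]
    exact (bb ⁻¹ᵁ (BC.diag D xi).map ψ ⁻¹ᵁ U₂).isOpen.isClosed_compl
  have hb : bcMap g (Henz.ofB N) ≫ bb = c'.π.app m := by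
    show _ = BC.proj D xi (c := HenzLim.cone R K) hX m
    have hsnd : bcA.snd g (Henz R K) ≫ (HenzLim.cone R K).π.app m.left ≫ D.map m.hom =
        bcA.snd g (Henz R K) ≫ (HenzLim.cone R K).π.app i₀ := by rw [(HenzLim.cone R K).w]
    refine pullback.hom_ext ?_ ?_
    · rw [BC.proj_fst, Category.assoc, pullback.lift_fst]
      refine pullback.hom_ext ?_ ?_
      · rw [Category.assoc, bcMap_fst, bcMap_fst, bcMap_fst]
      · calc (bcMap g (Henz.ofB N) ≫ bcMap g α) ≫ bcA.snd g _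
            = bcMap g (Henz.ofB N) ≫ bcA.snd g N.B ≫ Spec.map (CommRingCat.ofHom α.toRingHom) := by
              rw [Category.assoc, bcMap_snd]
          _ = bcA.snd g (Henz R K) ≫ Spec.map (CommRingCat.ofHom (Henz.ofB N).toRingHom) ≫
                Spec.map (CommRingCat.ofHom α.toRingHom) := by rw [← Category.assoc, bcMap_snd, Category.assoc]
          _ = bcA.snd g (Henz R K) ≫ Spec.map (CommRingCat.ofHom (Henz.ofB i₀.unop.N).toRingHom) := hsnd
          _ = _ := (bcMap_snd g _).symm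
    · rw [BC.proj_snd, Category.assoc, pullback.lift_snd]
      exact bcMap_snd g _
  refine ⟨N, O, hcl, ?_, ?_⟩
  · refine (Scheme.Hom.preimage_mono bb (?_ : (BC.diag D xi).map ψ ⁻¹ᵁ U₁ ≤ (BC.diag D xi).map ψ ⁻¹ᵁ fW ⁻¹ᵁ W)).trans ?_
    · simp only [ψ, Functor.map_comp, Scheme.Hom.comp_preimage]
      exact Scheme.Hom.preimage_mono _ (Scheme.Hom.preimage_mono _ h₁)
    · rw [← Scheme.Hom.comp_preimage, ← Scheme.Hom.comp_preimage]
      refine le_of_eq (congrArg (· ⁻¹ᵁ W) ?_)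
      simp only [fW, Category.assoc, ← Category.assoc ((BC.diag D xi).map ψ), BC.map_fst, bb,
        pullback.lift_fst_assoc, bcMap_fst]
  · show bcMap g (Henz.ofB N) ⁻¹ᵁ bb ⁻¹ᵁ (BC.diag D xi).map ψ ⁻¹ᵁ U₁ = G
    rw [← Scheme.Hom.comp_preimage, hb, ← Scheme.Hom.comp_preimage, c'.w, hUG]

variable {R : Type u} [CommRing R] {X X' : Scheme.{u}} (f : X ⟶ Spec (CommRingCat.of R)) [IsProper f]
  (g : X' ⟶ X) [IsProper g]

/-- The base change of a morphism over the base. -/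
def bcG (S : Type u) [CommRing S] [Algebra R S] : bcA (g ≫ f) S ⟶ bcA f S :=
  pullback.lift (bcA.fst (g ≫ f) S ≫ g) (bcA.snd (g ≫ f) S) (by rw [Category.assoc]; exact pullback.condition)

theorem isPullback_bcG (S : Type u) [CommRing S] [Algebra R S] :
    IsPullback (bcA.fst (g ≫ f) S) (bcG f g S) g (bcA.fst f S) := by
  refine IsPullback.of_bot ?_ (pullback.lift_fst _ _ _).symm (IsPullback.of_hasPullback f _)
  rw [bcG, pullback.lift_snd]
  exact IsPullback.of_hasPullback (g ≫ f) _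

theorem isPullback_bcG_map {S S' : Type u} [CommRing S] [Algebra R S] [CommRing S'] [Algebra R S'] (φ : S →ₐ[R] S') :
    IsPullback (bcMap (g ≫ f) φ) (bcG f g S') (bcG f g S) (bcMap f φ) := by
  refine IsPullback.of_right (h₁₂ := bcA.fst (g ≫ f) S) (h₂₂ := bcA.fst f S) ?_ ?_ (isPullback_bcG f g S)
  · rw [bcMap_fst, bcMap_fst]
    exact isPullback_bcG f g S'
  · refine pullback.hom_ext ?_ ?_
    · simp [bcG]
    · simp [bcG]

set_option maxHeartbeats 1000000 in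
/-- A clopen section over a separable closed fibre inside the étale locus extends to an étale neighbourhood. -/
theorem exists_nbhd_clopen_iso (W : X'.Opens) [Etale (W.ι ≫ g)] (p : PrimeSpectrum R) (L : Type u) [Field L]
    [Algebra p.asIdeal.ResidueField L] [Algebra R L] [IsScalarTower R p.asIdeal.ResidueField L]
    [Algebra.IsSeparable p.asIdeal.ResidueField L]
    (σ : bcA f L ⟶ bcA (g ≫ f) L) [IsOpenImmersion σ] [IsClosedImmersion σ] (hσ : σ ≫ bcG f g L = 𝟙 _)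
    (hW : ∀ x, bcA.fst (g ≫ f) L (σ x) ∈ W) :
    ∃ (B : Type u) (_ : CommRing B) (_ : Algebra R B) (_ : Algebra.Etale R B)
      (O : (bcA (g ≫ f) B).Opens), IsClosed (O : Set (bcA (g ≫ f) B)) ∧ O ≤ bcA.fst (g ≫ f) B ⁻¹ᵁ W ∧
        IsIso (O.ι ≫ bcG f g B) ∧ p ∈ Set.range (PrimeSpectrum.comap (algebraMap R B)) ∧
        ∀ x, ∃ o ∈ O, bcA.fst (g ≫ f) B o = bcA.fst (g ≫ f) L (σ x) := by
  let κ := p.asIdeal.ResidueField
  let H := Henz R L
  let pr : H →ₐ[R] L := Henz.proj R L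
  have hpr : Function.Surjective pr := henz_proj_surjective p.asIdeal L
  obtain ⟨_, hm, -⟩ := henselianLocalRing_henz_field R L hpr
  let hh := g ≫ f
  let gH : bcA hh H ⟶ Spec (CommRingCat.of H) := bcA.snd hh H
  haveI : IsProper hh := inferInstanceAs (IsProper (g ≫ f))
  haveI : IsProper gH := MorphismProperty.pullback_snd (P := @IsProper) _ _ ‹_›
  let rL := Spec.map (CommRingCat.ofHom pr.toRingHom)
  haveI : IsClosedImmersion rL := IsClosedImmersion.spec_of_surjective _ hpr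
  let iL := bcMap hh pr
  haveI : IsClosedImmersion iL := MorphismProperty.of_isPullback (isPullback_bcMap hh pr).flip ‹_›
  have hrL : Set.range rL = PrimeSpectrum.zeroLocus (RingHom.ker pr.toRingHom : Set H) :=
    range_comap_of_surjective _ _ hpr
  have hiL : Set.range iL = gH ⁻¹' PrimeSpectrum.zeroLocus (RingHom.ker pr.toRingHom : Set H) := by
    rw [range_of_isPullback (isPullback_bcMap hh pr).flip, hrL]
  haveI : HenselianRing H (RingHom.ker pr.toRingHom) := Henz.henselianRing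
  have hlift := (HensCouple7.lifts_range_iff iL.isEmbedding).2 (by
    rw [hiL]; exact Graft.lifts_proper_pair (RingHom.ker pr.toRingHom) gH)
  have hD : IsClopen (Set.range σ) := ⟨σ.isClosedEmbedding.isClosed_range, σ.isOpenEmbedding.isOpen_range⟩
  obtain ⟨G, hG, hGD⟩ := (hlift _ hD).exists
  have hGW : (⟨G, hG.2⟩ : (bcA hh H).Opens) ≤ bcA.fst hh H ⁻¹ᵁ W := fun x hx => by
    by_contra hxW
    let C₀ : Set (bcA hh H) := G ∩ ((bcA.fst hh H ⁻¹ᵁ W : (bcA hh H).Opens) : Set (bcA hh H))ᶜ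
    have hC₀ : IsClosed C₀ := hG.1.inter (bcA.fst hh H ⁻¹ᵁ W).isOpen.isClosed_compl
    have hz : (IsLocalRing.closedPoint H : ↥(Spec (CommRingCat.of H))) ∈ gH '' C₀ :=
      (IsLocalRing.specializes_closedPoint (gH x)).mem_closed (gH.isClosedMap _ hC₀) ⟨x, ⟨hx, hxW⟩, rfl⟩
    obtain ⟨y, ⟨hyG, hyW⟩, hy⟩ := hz
    obtain ⟨z, rfl⟩ : y ∈ Set.range iL := by
      rw [hiL]
      show RingHom.ker pr.toRingHom ≤ (gH y).asIdeal
      rw [hy, ← hm]
      exact le_rfl
    obtain ⟨w, rfl⟩ : z ∈ Set.range σ := hGD ▸ hyG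
    refine hyW ?_
    show (iL ≫ bcA.fst hh H) (σ w) ∈ W
    rw [bcMap_fst]
    exact hW w
  obtain ⟨N, O, hOcl, hOW, hOG⟩ := exists_clopen_stage hh L ⟨G, hG.2⟩ hG.1 W hGW
  let mN := bcG f g N.B
  haveI : IsProper mN := MorphismProperty.of_isPullback (isPullback_bcG f g N.B) ‹_›
  let o : (O : Scheme.{u}) ⟶ bcA f N.B := O.ι ≫ mN
  haveI : IsClosedImmersion O.ι := IsClosedImmersion.of_isPreimmersion _ (by rw [Scheme.Opens.range_ι]; exact hOcl)
  haveI : IsProper o := inferInstanceAs (IsProper (O.ι ≫ mN))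
  haveI : Etale o := by
    have sq := (isPullback_morphismRestrict (bcA.fst hh N.B) W).paste_vert (isPullback_bcG f g N.B)
    haveI : Etale ((bcA.fst hh N.B ⁻¹ᵁ W).ι ≫ mN) := MorphismProperty.of_isPullback sq ‹_›
    show Etale (O.ι ≫ mN)
    rw [← Scheme.homOfLE_ι _ hOW, Category.assoc]
    infer_instance
  haveI : IsFinite o := (IsFinite.iff_isProper_and_locallyQuasiFinite o).2 ⟨inferInstance, inferInstance⟩
  let θ : N.B →ₐ[R] L := pr.comp (Henz.ofB N)
  let q : PrimeSpectrum N.B := ⟨RingHom.ker N.toK.toRingHom, RingHom.ker_isPrime _⟩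
  have hθ : θ.toRingHom = N.toK.toRingHom := RingHom.ext fun x => Henz.proj_ofB N x
  have hθq : ∀ u, Spec.map (CommRingCat.ofHom θ.toRingHom) u = q := fun u => by
    refine PrimeSpectrum.ext ?_
    show u.asIdeal.comap θ.toRingHom = _
    rw [show u.asIdeal = ⊥ from (Ideal.eq_bot_or_top _).resolve_right u.2.ne_top, hθ]
    rfl
  -- the fibre at the marked point
  have hOD : bcMap hh θ ⁻¹' (O : Set (bcA hh N.B)) = Set.range σ := by
    rw [← hGD]
    show _ = iL ⁻¹' ((⟨G, hG.2⟩ : (bcA hh H).Opens) : Set (bcA hh H))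
    rw [← hOG, ← bcMap_comp hh (Henz.ofB N) pr]
    rfl
  let oL := (bcMap hh θ ⁻¹ᵁ O).ι ≫ bcG f g L
  haveI : IsIso oL := by
    let σ' : bcA f L ⟶ (bcMap hh θ ⁻¹ᵁ O : Scheme.{u}) :=
      IsOpenImmersion.lift (bcMap hh θ ⁻¹ᵁ O).ι σ (by rw [Scheme.Opens.range_ι]; exact hOD.ge)
    have hσ' : σ' ≫ (bcMap hh θ ⁻¹ᵁ O).ι = σ := IsOpenImmersion.lift_fac _ _ _
    haveI : IsOpenImmersion (σ' ≫ (bcMap hh θ ⁻¹ᵁ O).ι) := by rw [hσ']; infer_instance
    haveI : IsOpenImmersion σ' := IsOpenImmersion.of_comp σ' (bcMap hh θ ⁻¹ᵁ O).ι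
    haveI : Surjective σ' := ⟨fun z => by
      obtain ⟨w, hw⟩ := hOD.le z.2
      refine ⟨w, Subtype.ext ?_⟩
      rw [← hw, ← hσ', Scheme.Hom.comp_apply]
      rfl⟩
    haveI : IsIso σ' := (isIso_iff_isOpenImmersion_and_epi_base σ').2
      ⟨‹_›, (TopCat.epi_iff_surjective _).2 σ'.surjective⟩
    haveI : IsIso (σ' ≫ oL) := by
      rw [show σ' ≫ oL = 𝟙 _ by rw [← Category.assoc, hσ', hσ]]
      infer_instance
    exact IsIso.of_isIso_comp_left σ' oL
  have hone : ∀ z, bcA.snd f N.B z = q → o.finrank z = 1 := fun z hz => by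
    obtain ⟨w, rfl⟩ : z ∈ Set.range (bcMap f θ) := by
      rw [range_of_isPullback (isPullback_bcMap f θ).flip]
      exact ⟨IsLocalRing.closedPoint L, (hθq _).trans hz.symm⟩
    have sq : IsPullback (bcMap hh θ ∣_ O) oL o (bcMap f θ) :=
      (isPullback_morphismRestrict (bcMap hh θ) O).paste_vert (isPullback_bcG_map f g θ)
    rw [← Scheme.Hom.finrank_of_isPullback _ _ _ _ sq, Scheme.Hom.finrank_eq_one_of_isIso oL]
    rfl
  haveI : IsProper (bcA.snd f N.B) := MorphismProperty.pullback_snd (P := @IsProper) _ _ ‹_›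
  have hopen : IsOpen ((bcA.snd f N.B) '' {z | o.finrank z = 1}ᶜ)ᶜ :=
    ((bcA.snd f N.B).isClosedMap _
      ((Scheme.Hom.isLocallyConstant_finrank o).isOpen_fiber 1).isClosed_compl).isOpen_compl
  obtain ⟨_, ⟨h₀, rfl⟩, hqh, hsub⟩ :=
    PrimeSpectrum.isTopologicalBasis_basic_opens.exists_subset_of_mem_open
      (show q ∈ _ by rintro ⟨z, hz, hzq⟩; exact hz (hone z hzq)) hopen
  let C := Localization.Away h₀
  let ι : N.B →ₐ[R] C := IsScalarTower.toAlgHom R N.B C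
  haveI : Algebra.Etale N.B C := Algebra.Etale.of_isLocalizationAway h₀
  haveI : Algebra.Etale R C := Algebra.Etale.comp R N.B C
  have hrange : Set.range (bcMap hh ι) = bcA.snd hh N.B ⁻¹' (PrimeSpectrum.basicOpen h₀ : Set (PrimeSpectrum N.B)) := by
    rw [range_of_isPullback (isPullback_bcMap hh ι).flip]
    exact congrArg (bcA.snd hh N.B ⁻¹' ·) (PrimeSpectrum.localization_away_comap_range C h₀)
  refine ⟨C, inferInstance, inferInstance, inferInstance, bcMap hh ι ⁻¹ᵁ O, hOcl.preimage (bcMap hh ι).continuous,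
    ?_, ?_, ?_, fun x => ?_⟩
  · refine (Scheme.Hom.preimage_mono _ hOW).trans (le_of_eq ?_)
    rw [← Scheme.Hom.comp_preimage, bcMap_fst]
  · have sq : IsPullback (bcMap hh ι ∣_ O) ((bcMap hh ι ⁻¹ᵁ O).ι ≫ bcG f g C) o (bcMap f ι) :=
      (isPullback_morphismRestrict (bcMap hh ι) O).paste_vert (isPullback_bcG_map f g ι)
    haveI : IsFinite ((bcMap hh ι ⁻¹ᵁ O).ι ≫ bcG f g C) := MorphismProperty.of_isPullback sq ‹_›
    haveI : Etale ((bcMap hh ι ⁻¹ᵁ O).ι ≫ bcG f g C) := MorphismProperty.of_isPullback sq ‹_›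
    refine (Scheme.Hom.isIso_iff_finrank_eq (f := (bcMap hh ι ⁻¹ᵁ O).ι ≫ bcG f g C)).2 (funext fun w => ?_)
    rw [Scheme.Hom.finrank_of_isPullback _ _ _ _ sq]
    by_contra hne
    refine hsub ?_ ⟨bcMap f ι w, hne, rfl⟩
    rw [← Scheme.Hom.comp_apply, bcMap_snd]
    exact (PrimeSpectrum.localization_away_comap_range C h₀).le ⟨bcA.snd f C w, rfl⟩
  · obtain ⟨y, hy⟩ : q ∈ Set.range (PrimeSpectrum.comap (algebraMap N.B C)) := by
      rw [PrimeSpectrum.localization_away_comap_range C h₀]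
      exact hqh
    refine ⟨y, ?_⟩
    rw [IsScalarTower.algebraMap_eq R N.B C, PrimeSpectrum.comap_comp, Function.comp_apply, hy]
    refine PrimeSpectrum.ext ?_
    show (RingHom.ker N.toK.toRingHom).comap (algebraMap R N.B) = p.asIdeal
    rw [RingHom.comap_ker]
    erw [N.toK.comp_algebraMap]
    rw [IsScalarTower.algebraMap_eq R κ L, RingHom.ker_comp_of_injective _ (algebraMap κ L).injective,
      Ideal.ker_algebraMap_residueField]
  · have hy : bcMap hh θ (σ x) ∈ O := hOD.ge ⟨x, rfl⟩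
    obtain ⟨w, hw⟩ : bcMap hh θ (σ x) ∈ Set.range (bcMap hh ι) := by
      rw [hrange]
      show bcA.snd hh N.B (bcMap hh θ (σ x)) ∈ PrimeSpectrum.basicOpen h₀
      rw [← Scheme.Hom.comp_apply, bcMap_snd, Scheme.Hom.comp_apply, hθq]
      exact hqh
    refine ⟨w, show bcMap hh ι w ∈ O by rw [hw]; exact hy, ?_⟩
    calc bcA.fst hh C w = (bcMap hh ι ≫ bcA.fst hh N.B) w := by rw [bcMap_fst]
      _ = bcA.fst hh N.B (bcMap hh θ (σ x)) := by rw [Scheme.Hom.comp_apply, hw]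
      _ = bcA.fst hh L (σ x) := by rw [← Scheme.Hom.comp_apply, bcMap_fst]

end Groth.Agent.H9PiOne

end
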