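import Groth.Agent.H9PiOne.SteinEtale
import Groth.Agent.SteinLib.General
import Groth.Agent.Pi1X.FEtBasic
import Groth.Agent.H0FBC.GeomRed

/-!
# A connected cover with a section over one geometric fibre comes from the base
-/

set_option autoImplicit false
set_option linter.style.haveILetI false
set_option linter.unusedSectionVars false
set_option backward.isDefEq.respectTransparency false
set_option backward.isDefEq.respectTransparency.types false

universe u

open CategoryTheory CategoryTheory.Limits AlgebraicGeometry TopologicalSpace Pi1

noncomputable section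

namespace Groth.Agent.H9PiOne

open Groth.Agent

attribute [-instance] CategoryTheory.catToReflQuiver

/-- A connected cover of a proper flat scheme with connected reduced geometric fibres which has a section over
one geometric fibre comes from the base. -/
theorem exists_descend_of_section {X S : Scheme.{u}} (f : X ⟶ S) [IsProper f] [Flat f]
    [LocallyOfFinitePresentation f] [GeometricallyReduced f] [GeometricallyConnected f]
    (Y : FEt.Cat X) [ConnectedSpace Y.left] {Ω : Type u} [Field Ω] [IsAlgClosed Ω]
    (s : Spec (CommRingCat.of Ω) ⟶ S) (σ : pullback f s ⟶ Y.left) (hσ : σ ≫ Y.hom = pullback.fst f s) :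
    (FEt.restrict f).essImage Y := by
  haveI : IsFinite Y.hom := Y.prop.1
  haveI : Etale Y.hom := Y.prop.2
  let g : Y.left ⟶ S := Y.hom ≫ f
  haveI : IsProper g := inferInstanceAs (IsProper (Y.hom ≫ f))
  haveI : GeometricallyReduced g := H0FBC.geometricallyReduced_etale_comp Y.hom f
  obtain ⟨hTf, hTe⟩ := finite_etale_stein g
  let T : FEt.Cat S := MorphismProperty.Over.mk ⊤ g.fromNormalization ⟨hTf, hTe⟩
  let P : Scheme.{u} := pullback g.fromNormalization f
  let c : Y.left ⟶ P := pullback.lift g.toNormalization Y.hom g.toNormalization_fromNormalization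
  haveI hcp := Pi1X.prop_of_comp c (pullback.snd g.fromNormalization f)
    (MorphismProperty.pullback_snd _ _ T.prop) (by rw [pullback.lift_snd]; exact Y.prop)
  haveI : IsFinite c := hcp.1
  haveI : Etale c := hcp.2
  haveI := SteinLib.geometricallyConnected_toNormalization_general g
  -- the base of the cover is connected
  haveI : ConnectedSpace ↥g.normalization := g.toNormalization.surjective.connectedSpace g.toNormalization.continuous
  haveI : GeometricallyConnected (pullback.fst g.fromNormalization f) := inferInstance
  haveI : UniversallyOpen (pullback.fst g.fromNormalization f) := MorphismProperty.pullback_fst _ _ inferInstance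
  haveI : ConnectedSpace ↥P :=
    GeometricallyConnected.connectedSpace (pullback.fst g.fromNormalization f)
      (pullback.fst g.fromNormalization f).isOpenMap
  -- a rational point of the fibre
  haveI : ConnectedSpace ↥(pullback f s) :=
    GeometricallyConnected.geometrically_connectedSpace (f := f) s _ _ (IsPullback.of_hasPullback f s)
  haveI : IsProper (pullback.snd f s) := MorphismProperty.pullback_snd (P := @IsProper) _ _ ‹_›
  haveI : LocallyOfFiniteType (pullback.snd f s) := inferInstance
  haveI : CompactSpace ↥(pullback f s) := QuasiCompact.compactSpace_of_compactSpace (pullback.snd f s)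
  obtain ⟨x, -, hx⟩ := IsClosed.exists_closed_singleton (isClosed_univ (X := ↥(pullback f s))) Set.univ_nonempty
  let x₀ := pointOfClosedPoint (pullback.snd f s) x hx
  have hx₀ : x₀ ≫ pullback.snd f s = 𝟙 _ := pointOfClosedPoint_comp _ _ _
  let t : Spec (CommRingCat.of Ω) ⟶ g.normalization := x₀ ≫ σ ≫ g.toNormalization
  have ht : t ≫ g.fromNormalization = s := by
    simp only [t, Category.assoc, g.toNormalization_fromNormalization]
    show x₀ ≫ σ ≫ Y.hom ≫ f = s
    rw [reassoc_of% hσ, pullback.condition, ← Category.assoc, hx₀, Category.id_comp]
  have hconst : σ ≫ g.toNormalization = pullback.snd f s ≫ t := by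
    haveI : IsFinite g.fromNormalization := hTf
    haveI : Etale g.fromNormalization := hTe
    refine Pi1X.hom_ext_of_connected g.fromNormalization _ _ ?_ x₀ ?_
    · rw [Category.assoc, Category.assoc, g.toNormalization_fromNormalization, ht]
      show σ ≫ Y.hom ≫ f = _
      rw [reassoc_of% hσ, pullback.condition]
    · rw [← Category.assoc x₀ (pullback.snd f s) t, hx₀, Category.id_comp]
  -- the fibre of `c` over the fibre of `X`
  let j : pullback f s ⟶ P := pullback.lift (pullback.snd f s ≫ t) (pullback.fst f s)
    (by rw [Category.assoc, ht, pullback.condition])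
  let q : pullback g.toNormalization t ⟶ pullback f s :=
    pullback.lift (pullback.fst g.toNormalization t ≫ Y.hom) (pullback.snd g.toNormalization t) (by
      rw [Category.assoc, ← ht, ← pullback.condition_assoc, g.toNormalization_fromNormalization])
  have hPj : IsPullback (pullback.snd f s) j t (pullback.fst g.fromNormalization f) := by
    refine (IsPullback.of_right ?_ (pullback.lift_fst _ _ _) (IsPullback.of_hasPullback g.fromNormalization f).flip).flip
    rw [pullback.lift_snd, ht]
    exact IsPullback.of_hasPullback f s
  have sq : IsPullback (pullback.fst g.toNormalization t) q c j := by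
    refine IsPullback.of_bot ?_ ?_ hPj.flip
    · rw [pullback.lift_snd, pullback.lift_fst]
      exact IsPullback.of_hasPullback g.toNormalization t
    · refine pullback.hom_ext ?_ ?_
      · rw [Category.assoc, Category.assoc, pullback.lift_fst, pullback.lift_fst, pullback.lift_snd_assoc,
          pullback.condition]
      · rw [Category.assoc, Category.assoc, pullback.lift_snd, pullback.lift_snd, pullback.lift_fst]
  haveI : Etale q := MorphismProperty.of_isPullback sq ‹_›
  haveI : IsFinite q := MorphismProperty.of_isPullback sq ‹_›
  -- its section
  haveI : GeometricallyConnected (pullback.snd g.toNormalization t) := inferInstance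
  haveI : ConnectedSpace ↥(pullback g.toNormalization t) :=
    GeometricallyConnected.geometrically_connectedSpace (f := g.toNormalization) t _ _ (IsPullback.of_hasPullback _ t)
  let σ' : pullback f s ⟶ pullback g.toNormalization t := pullback.lift σ (pullback.snd f s) hconst
  have hσ' : σ' ≫ q = 𝟙 _ := by
    refine pullback.hom_ext ?_ ?_
    · rw [Category.assoc, pullback.lift_fst, pullback.lift_fst_assoc, Category.id_comp, hσ]
    · rw [Category.assoc, pullback.lift_snd, pullback.lift_snd, Category.id_comp]
  haveI : IsIso q := by
    obtain ⟨_, _⟩ := isClopenEmbedding_section (MorphismProperty.Over.mk ⊤ q ⟨inferInstance, inferInstance⟩ :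
      FEt.Cat (pullback f s)) σ' hσ'
    have h : IsClopen (Set.range σ') := ⟨σ'.isClosedEmbedding.isClosed_range, σ'.isOpenEmbedding.isOpen_range⟩
    haveI : Surjective σ' := ⟨Set.range_eq_univ.1 (h.eq_univ (Set.range_nonempty _))⟩
    haveI : IsIso σ' := (isIso_iff_isOpenImmersion_and_epi_base σ').2 ⟨‹_›, (TopCat.epi_iff_surjective _).2 σ'.surjective⟩
    haveI : IsIso (σ' ≫ q) := by rw [hσ']; infer_instance
    exact IsIso.of_isIso_comp_left σ' q
  -- the rank is one everywhere
  have h1 : c.finrank (j (x₀ (IsLocalRing.closedPoint Ω))) = 1 := by
    rw [← Scheme.Hom.finrank_of_isPullback _ _ _ _ sq]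
    rw [Scheme.Hom.finrank_eq_one_of_isIso q]
    rfl
  haveI : IsIso c := (Scheme.Hom.isIso_iff_finrank_eq (f := c)).2 (funext fun p => by
    rw [(Scheme.Hom.isLocallyConstant_finrank c).apply_eq_of_preconnectedSpace p (j (x₀ (IsLocalRing.closedPoint Ω))), h1]
    rfl)
  exact ⟨T, ⟨MorphismProperty.Over.isoMk (asIso c).symm (by
    show inv c ≫ Y.hom = pullback.snd g.fromNormalization f
    rw [IsIso.inv_comp_eq, pullback.lift_snd])⟩⟩

end Groth.Agent.H9PiOne

end
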