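import Groth.Agent.H9PiOne.HenselProper
import Groth.Agent.H9PiOne.FEtAffineBC
import Groth.Agent.S0289
import Groth.Agent.Pi1X.GeomConnFF
import Groth.Agent.H0FBC.GlobalSections
import Groth.Agent.FBaseLib.Components
import Mathlib.RingTheory.Etale.Field

/-!
# Finite étale covers of a proper scheme do not change between separably closed fields
-/

set_option autoImplicit false
set_option linter.style.haveILetI false
set_option linter.unusedSectionVars false
set_option backward.isDefEq.respectTransparency false
set_option backward.isDefEq.respectTransparency.types false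

universe u

open CategoryTheory CategoryTheory.Limits AlgebraicGeometry
open scoped TensorProduct

noncomputable section

namespace Groth.Agent.H9PiOne

open Groth.Agent

attribute [-instance] CategoryTheory.catToReflQuiver

/-- An étale algebra over a domain inside a separably closed field has a point there. -/
theorem exists_point_of_etale {R K B : Type u} [CommRing R] [Field K] [IsSepClosed K] [Algebra R K]
    (hRK : Function.Injective (algebraMap R K)) [CommRing B] [Nontrivial B] [Algebra R B]
    [Algebra.Etale R B] : Nonempty (B →ₐ[R] K) := by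
  haveI : Module.Flat R B := inferInstance
  haveI : Nontrivial (K ⊗[R] B) :=
    (Algebra.TensorProduct.includeRight_injective (A := K) (B := B) hRK).nontrivial
  obtain ⟨ι, _, L, _, _, e, hL⟩ := (Algebra.Etale.iff_exists_algEquiv_prod K (K ⊗[R] B)).1 inferInstance
  obtain ⟨i⟩ : Nonempty ι := by
    by_contra h
    rw [not_nonempty_iff] at h
    exact not_subsingleton (K ⊗[R] B) e.toEquiv.subsingleton
  haveI := (hL i).2
  let toK : L i →ₐ[K] K := IsSepClosed.lift
  exact ⟨((toK.comp ((Pi.evalAlgHom K L i).comp e.toAlgHom)).restrictScalars R).comp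
    Algebra.TensorProduct.includeRight⟩

variable (k K : Type u) [Field k] [Field K] [IsSepClosed k] [Algebra k K]
  {X : Scheme.{u}} (f : X ⟶ Spec (CommRingCat.of k)) [IsProper f]

theorem restrict_sepClosed_full_faithful :
    (FEt.restrict (bcA.fst f K)).Full ∧ (FEt.restrict (bcA.fst f K)).Faithful := by
  let i := Spec.map (CommRingCat.ofHom (algebraMap k K))
  haveI : GeometricallyConnected i := H0FBC.geometricallyConnected_of_sepClosed K
  haveI : UniversallyOpen i := FBaseLib.universallyOpen_spec_map_field (algebraMap k K)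
  haveI : UniversallyOpen (bcA.fst f K) := MorphismProperty.pullback_fst f i inferInstance
  haveI : GeometricallyConnected (bcA.fst f K) := MorphismProperty.pullback_fst f i inferInstance
  exact Pi1X.restrict_full_faithful_of_geomConnected _

variable [IsSepClosed K]

/-- Covers over a separably closed extension come from the base. -/
theorem exists_iso_of_sepClosed (V : FEt.Cat (bcA f K)) :
    ∃ W : FEt.Cat X, Nonempty ((FEt.restrict (bcA.fst f K)).obj W ≅ V) := by
  classical
  obtain ⟨s, W, ⟨eW⟩⟩ := exists_fet_adjoin f K V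
  let R := Algebra.adjoin k (s : Set K)
  haveI : Algebra.FiniteType k R := (Subalgebra.fg_iff_finiteType R).1 (Subalgebra.fg_adjoin_finset _)
  obtain ⟨m, hm⟩ := Ideal.exists_maximal R
  haveI := hm
  let L := R ⧸ m
  letI : Field L := Ideal.Quotient.field m
  haveI : Module.Finite k L := finite_of_finite_type_of_isJacobsonRing k L
  haveI : IsPurelyInseparable k L := inferInstance
  let π : R →ₐ[k] L := Ideal.Quotient.mkₐ k m
  -- covers do not change along the purely inseparable extension
  let iL := Spec.map (CommRingCat.ofHom (algebraMap k L))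
  haveI : IsIntegralHom iL := IsIntegralHom.SpecMap_iff.mpr (algebraMap_isIntegral_iff.mpr inferInstance)
  haveI : UniversallyInjective iL := by
    refine ((tfae_universallyInjective _).out 0 1).2 fun F hF g₁ g₂ hg => ?_
    obtain ⟨a, rfl⟩ := Spec.map_surjective g₁
    obtain ⟨b, rfl⟩ := Spec.map_surjective g₂
    have hg' : CommRingCat.ofHom (algebraMap k L) ≫ a = CommRingCat.ofHom (algebraMap k L) ≫ b :=
      Spec.map_injective (by rw [Spec.map_comp, Spec.map_comp]; exact hg)
    congr 1
    ext1
    letI := hF
    exact IsPurelyInseparable.injective_comp_algebraMap k L F congr($(hg').hom)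
  haveI : Surjective iL := GrpSchLib.surjective_spec_map_field _
  haveI : IsIntegralHom (bcA.fst f L) := MorphismProperty.pullback_fst _ _ ‹_›
  haveI : UniversallyInjective (bcA.fst f L) :=
    MorphismProperty.pullback_fst (P := @UniversallyInjective) _ _ ‹_›
  haveI : Surjective (bcA.fst f L) := MorphismProperty.pullback_fst (P := @Surjective) _ _ ‹_›
  haveI := Groth.Agent.S0289.result (bcA.fst f L)
  let V₀ : FEt.Cat X := (FEt.restrict (bcA.fst f L)).objPreimage ((FEt.restrict (bcMap f π)).obj W)
  let e₀ : (FEt.restrict (bcA.fst f L)).obj V₀ ≅ (FEt.restrict (bcMap f π)).obj W :=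
    (FEt.restrict (bcA.fst f L)).objObjPreimageIso _
  let g : bcA f R ⟶ Spec (CommRingCat.of R) := bcA.snd f R
  haveI : IsProper g := MorphismProperty.pullback_snd (P := @IsProper) _ _ ‹_›
  let U₂ : FEt.Cat (bcA f R) := (FEt.restrict (bcA.fst f R)).obj V₀
  let e₁ : (FEt.restrict (bcMap f π)).obj W ≅ (FEt.restrict (bcMap f π)).obj U₂ :=
    e₀.symm ≪≫ Pi1Ext.Spread.restrictComp _ _ _ (bcMap_fst f π).symm V₀
  -- the henselization at the closed point
  let H := Hensel.Henz R L
  let pr : H →ₐ[R] L := Hensel.Henz.proj R L
  have hpr : Function.Surjective pr :=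
    Hensel.Henz.proj_surjective_of_surjective R Ideal.Quotient.mk_surjective
  let gH : bcA g H ⟶ Spec (CommRingCat.of H) := bcA.snd g H
  haveI : IsProper gH := MorphismProperty.pullback_snd (P := @IsProper) _ _ ‹_›
  let p : bcA f L ⟶ bcA g H :=
    pullback.lift (bcMap f π) (bcA.snd f L ≫ Spec.map (CommRingCat.ofHom pr.toRingHom)) (by
      rw [Category.assoc, ← Spec.map_comp, ← CommRingCat.ofHom_comp]
      erw [pr.comp_algebraMap]
      exact bcMap_snd f π)
  have sq : IsPullback p (bcA.snd f L) gH (Spec.map (CommRingCat.ofHom pr.toRingHom)) := by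
    refine IsPullback.of_right ?_ (pullback.lift_snd _ _ _) (IsPullback.of_hasPullback _ _)
    rw [pullback.lift_fst, ← Spec.map_comp, ← CommRingCat.ofHom_comp]
    erw [pr.comp_algebraMap]
    exact isPullback_bcMap f π
  have hp : bcMap f π = p ≫ bcA.fst g H := (pullback.lift_fst _ _ _).symm
  haveI : HenselianRing H (RingHom.ker pr.toRingHom) := Hensel.Henz.henselianRing
  obtain ⟨hfull, hfaith⟩ := restrict_inc_full_faithful (RingHom.ker pr.toRingHom) gH
  obtain ⟨eH⟩ := nonempty_iso_of_closed hfull hfaith pr.toRingHom hpr rfl sq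
    (U₁ := (FEt.restrict (bcA.fst g H)).obj W) (U₂ := (FEt.restrict (bcA.fst g H)).obj U₂)
    ((Pi1Ext.Spread.restrictComp _ _ _ hp W).symm ≪≫ e₁ ≪≫ Pi1Ext.Spread.restrictComp _ _ _ hp U₂)
  obtain ⟨N, hN⟩ := exists_nbhd_iso g W U₂ eH
  -- a point of the neighbourhood
  haveI : Nontrivial N.B := N.toK.toRingHom.domain_nontrivial
  obtain ⟨θ⟩ := exists_point_of_etale (R := R) (K := K) (B := N.B) Subtype.val_injective
  obtain ⟨eK⟩ := hN K θ
  let q : bcA f K ⟶ bcA g K := pullback.lift (bcMap f R.val) (bcA.snd f K) (bcMap_snd f R.val)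
  have hq : bcMap f R.val = q ≫ bcA.fst g K := (pullback.lift_fst _ _ _).symm
  refine ⟨V₀, ⟨?_⟩⟩
  exact Pi1Ext.Spread.restrictComp _ _ _ (bcMap_fst f R.val).symm V₀ ≪≫
    Pi1Ext.Spread.restrictComp _ _ _ hq U₂ ≪≫ (FEt.restrict q).mapIso eK.symm ≪≫
      (Pi1Ext.Spread.restrictComp _ _ _ hq W).symm ≪≫ eW

/-- Base change between separably closed fields is an equivalence on covers of a proper scheme. -/
theorem restrict_sepClosed_isEquivalence : (FEt.restrict (bcA.fst f K)).IsEquivalence := by
  haveI : (FEt.restrict (bcA.fst f K)).EssSurj := LiftsFEt.essSurj (exists_iso_of_sepClosed k K f)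
  haveI := (restrict_sepClosed_full_faithful k K f).1
  haveI := (restrict_sepClosed_full_faithful k K f).2
  exact { }

end Groth.Agent.H9PiOne

end
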