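import Groth.Prelude
import Mathlib.AlgebraicGeometry.Limits
import Mathlib.AlgebraicGeometry.Pullbacks

/-!
# The algebra of a split cover of an affine base
-/

set_option autoImplicit false
set_option linter.style.haveILetI false
set_option linter.unusedSectionVars false
set_option backward.isDefEq.respectTransparency false
set_option backward.isDefEq.respectTransparency.types false

universe u

open CategoryTheory CategoryTheory.Limits AlgebraicGeometry TensorProduct

noncomputable section

namespace Groth.Agent.H9PiOne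

/-- A cover which is a finite disjoint union of copies of an affine base has algebra a product of copies. -/
theorem exists_algEquiv_of_split {K L W : Type u} [CommRing K] [CommRing L] [CommRing W] [Algebra K L] [Algebra K W]
    {Y : Scheme.{u}} (y : Y ⟶ Spec (CommRingCat.of K)) (j : Y ≅ Spec (CommRingCat.of W))
    (hj : j.inv ≫ y = Spec.map (CommRingCat.ofHom (algebraMap K W))) (ι : Type u) [Finite ι]
    (e : pullback y (Spec.map (CommRingCat.ofHom (algebraMap K L))) ≅ ∐ fun _ : ι => Spec (CommRingCat.of L))
    (he : ∀ i, Sigma.ι (fun _ : ι => Spec (CommRingCat.of L)) i ≫ e.inv ≫ pullback.snd _ _ = 𝟙 _) :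
    Nonempty (L ⊗[K] W ≃ₐ[L] (ι → L)) := by
  let g := Spec.map (CommRingCat.ofHom (algebraMap K L))
  let sW := Spec.map (CommRingCat.ofHom (algebraMap K W))
  let m : pullback y g ⟶ pullback sW g :=
    pullback.map y g sW g j.hom (𝟙 _) (𝟙 _) (by simp only [sW, ← hj, Category.comp_id, Iso.hom_inv_id_assoc]) (by simp [g])
  haveI : IsIso m := pullback.map_isIso _ _ _ _ _ _ _ _ _
  let E : Spec (CommRingCat.of (ι → L)) ≅ Spec (CommRingCat.of (L ⊗[K] W)) :=
    (asIso (sigmaSpec fun _ : ι => CommRingCat.of L)).symm ≪≫ e.symm ≪≫ asIso m ≪≫ pullbackSymmetry sW g ≪≫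
      pullbackSpecIso K L W
  have hE : E.hom ≫ Spec.map (CommRingCat.ofHom (algebraMap L (L ⊗[K] W))) =
      Spec.map (CommRingCat.ofHom (algebraMap L (ι → L))) := by
    rw [← cancel_epi (sigmaSpec fun _ : ι => CommRingCat.of L)]
    refine Sigma.hom_ext _ _ fun i => ?_
    simp only [E, Iso.trans_hom, Iso.symm_hom, asIso_inv, asIso_hom, Category.assoc, IsIso.hom_inv_id_assoc,
      pullbackSpecIso_hom_fst', pullbackSymmetry_hom_comp_fst, m, pullback.lift_snd, Category.comp_id, g, sW]
    rw [he i, ι_sigmaSpec_assoc, ← Spec.map_comp, ← CommRingCat.ofHom_comp]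
    refine (Spec.map_id _).symm.trans (congrArg Spec.map ?_)
    ext x
    rfl
  let r : CommRingCat.of (L ⊗[K] W) ≅ CommRingCat.of (ι → L) :=
    (Spec.fullyFaithful.preimageIso E).unop
  have hr : CommRingCat.ofHom (algebraMap L (L ⊗[K] W)) ≫ r.hom = CommRingCat.ofHom (algebraMap L (ι → L)) := by
    refine Spec.map_injective ?_
    rw [Spec.map_comp, ← hE]
    congr 1
    exact Spec.fullyFaithful.map_preimage E.hom
  exact ⟨{ r.commRingCatIsoToRingEquiv with
    commutes' := fun x => congrArg (fun f => f.hom x) hr }⟩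

end Groth.Agent.H9PiOne

end
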