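import Groth.Agent.H9PiOne.StageDecomp
import Groth.Agent.S0981
import Groth.Agent.FlatMisc.SteinUC

/-!
# The Stein factorisation of a proper flat morphism with reduced geometric fibres is finite étale
-/

set_option autoImplicit false
set_option linter.style.haveILetI false
set_option linter.unusedSectionVars false
set_option backward.isDefEq.respectTransparency false
set_option backward.isDefEq.respectTransparency.types false

universe u

open CategoryTheory CategoryTheory.Limits AlgebraicGeometry TopologicalSpace Opposite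

noncomputable section

namespace Groth.Agent.H9PiOne

open Groth.Agent

attribute [-instance] CategoryTheory.catToReflQuiver

/-- Global sections of a scheme covered by disjoint opens are the products of their sections. -/
theorem bijective_restrict_pieces {Y : Scheme.{u}} {ι : Type u} (G : ι → Y.Opens)
    (hdis : ∀ c d, c ≠ d → G c ⊓ G d = ⊥) (hcov : ⨆ c, G c = ⊤) :
    Function.Bijective (fun (s : Γ(Y, ⊤)) (c : ι) => (Y.presheaf.map (homOfLE le_top : G c ⟶ ⊤).op) s) := by
  constructor
  · intro s t h
    exact Y.sheaf.eq_of_locally_eq' G ⊤ (fun c => homOfLE le_top) (by rw [hcov]) s t (congrFun h)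
  · intro sf
    obtain ⟨s, hs, -⟩ := Y.sheaf.existsUnique_gluing' G ⊤ (fun c => homOfLE le_top) (by rw [hcov]) sf (fun c d => by
      by_cases h : c = d
      · subst h; rfl
      · haveI : Subsingleton Γ(Y, G c ⊓ G d) := by rw [hdis c d h]; infer_instance
        exact @Subsingleton.elim _ ‹_› _ _)
    exact ⟨s, funext hs⟩

/-- The functions on a scheme split into geometrically connected pieces form a finite étale algebra over the base. -/
theorem finite_etale_appTop {S Y : Scheme.{u}} (g : Y ⟶ S) [IsProper g] [Flat g] [LocallyOfFinitePresentation g]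
    [GeometricallyReduced g] {ι : Type u} [Finite ι] (G : ι → Y.Opens)
    (hdis : ∀ c d, c ≠ d → G c ⊓ G d = ⊥) (hcov : ⨆ c, G c = ⊤)
    (hgc : ∀ c, GeometricallyConnected ((G c).ι ≫ g)) :
    g.appTop.hom.Finite ∧ g.appTop.hom.Etale := by
  have hcl : ∀ c, IsClosed (G c : Set Y) := fun c => by
    have : (G c : Set Y) = (⋃ d ∈ {d | d ≠ c}, (G d : Set Y))ᶜ := by
      ext x
      simp only [Set.mem_compl_iff, Set.mem_iUnion, not_exists]
      refine ⟨fun hx d hd hxd => ?_, fun hx => ?_⟩
      · exact ((hdis d c hd).le ⟨hxd, hx⟩ : x ∈ (⊥ : Y.Opens))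
      · obtain ⟨d, hd⟩ := Opens.mem_iSup.1 (hcov.ge (Opens.mem_top x))
        by_cases h : d = c
        · exact h ▸ hd
        · exact (hx d h hd).elim
    rw [this]
    exact (isOpen_biUnion fun d _ => (G d).isOpen).isClosed_compl
  have ha : ∀ c, Function.Bijective (g.appLE ⊤ (G c) (by simp)) := fun c => by
    haveI : IsClosedImmersion (G c).ι := IsClosedImmersion.of_isPreimmersion _ (by
      rw [Scheme.Opens.range_ι]; exact hcl c)
    haveI := geometricallyReduced_ι_comp g (G c)
    haveI := hgc c
    have h := Groth.Agent.S0981.result ((G c).ι ≫ g) (fun K _ _ t =>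
      ⟨GeometricallyReduced.geometrically_isReduced _ _ _ (IsPullback.of_hasPullback _ t),
        GeometricallyConnected.geometrically_connectedSpace _ _ _ (IsPullback.of_hasPullback _ t)⟩) ⊤
    have e : ((G c).ι ≫ g).appTop = g.appLE ⊤ (G c) (by simp) ≫ (G c).topIso.inv := by
      rw [Scheme.Hom.appLE, Scheme.Hom.comp_appTop, Scheme.Opens.ι_appTop]
      simp [← Functor.map_comp]
    haveI : IsIso ((G c).ι ≫ g).appTop := h
    rw [e] at this
    haveI := IsIso.of_isIso_comp_right (g.appLE ⊤ (G c) _) (G c).topIso.inv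
    exact ConcreteCategory.bijective_of_isIso _
  algebraize [g.appTop.hom]
  let R := Γ(S, ⊤)
  letI : ∀ c, Algebra R Γ(Y, G c) := fun c => (g.appLE ⊤ (G c) (by simp)).hom.toAlgebra
  let e₁ : ∀ c, R ≃ₐ[R] Γ(Y, G c) := fun c => AlgEquiv.ofBijective (Algebra.ofId R Γ(Y, G c)) (ha c)
  let Φ : Γ(Y, ⊤) →ₐ[R] ((c : ι) → Γ(Y, G c)) :=
    AlgHom.pi (R := R) fun c =>
      { (Y.presheaf.map (homOfLE le_top : G c ⟶ ⊤).op).hom with
        commutes' := fun r => by
          show (Y.presheaf.map _) (g.appTop r) = g.appLE ⊤ (G c) _ r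
          rw [← ConcreteCategory.comp_apply]
          rfl }
  let e : (ι → R) ≃ₐ[R] Γ(Y, ⊤) :=
    (AlgEquiv.piCongrRight e₁).trans (AlgEquiv.ofBijective Φ (bijective_restrict_pieces G hdis hcov)).symm
  haveI : Algebra.FormallyEtale R (ι → R) := (Algebra.FormallyEtale.pi_iff _).2 fun _ => inferInstance
  haveI : Algebra.FinitePresentation R (ι → R) := by
    haveI := Fintype.ofFinite ι
    infer_instance
  haveI : Algebra.Etale R (ι → R) := { }
  exact ⟨RingHom.finite_algebraMap.2 (Module.Finite.equiv e.toLinearEquiv),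
    RingHom.etale_algebraMap.2 (Algebra.Etale.of_equiv e)⟩

/-- If the functions form a finite étale algebra, the normalisation of an affine base is finite étale. -/
theorem finite_etale_fromNormalization {S Y : Scheme.{u}} [IsAffine S] (g : Y ⟶ S) [UniversallyClosed g]
    [QuasiSeparated g] (hf : g.appTop.hom.Finite) (he : g.appTop.hom.Etale) :
    IsFinite g.fromNormalization ∧ Etale g.fromNormalization := by
  haveI : IsAffine g.normalization := isAffine_of_isAffineHom g.fromNormalization
  haveI := FlatMisc.isIso_toNormalization_app g ⊤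
  haveI : IsIso g.toNormalization.appTop := ‹_›
  have e : g.fromNormalization.appTop = g.appTop ≫ inv g.toNormalization.appTop := by
    rw [IsIso.eq_comp_inv, ← Scheme.Hom.comp_appTop, g.toNormalization_fromNormalization]
  have hi := ConcreteCategory.bijective_of_isIso (inv g.toNormalization.appTop)
  constructor
  · rw [HasAffineProperty.iff_of_isAffine (P := @IsFinite)]
    refine ⟨inferInstance, ?_⟩
    rw [e, CommRingCat.hom_comp]
    exact (RingHom.Finite.of_surjective _ hi.2).comp hf
  · rw [HasRingHomProperty.iff_of_isAffine (P := @Etale), e, CommRingCat.hom_comp]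
    exact RingHom.Etale.respectsIso.1 _ (asIso (inv g.toNormalization.appTop)).commRingCatIsoToRingEquiv he

/-- The normalisation is finite étale if it is so étale locally on the base. -/
theorem finite_etale_fromNormalization_of_local {X S : Scheme.{u}} (f : X ⟶ S) [QuasiCompact f] [QuasiSeparated f]
    (h : ∀ s : S, ∃ (V : Scheme.{u}) (v : V ⟶ S), Etale v ∧ s ∈ Set.range v ∧
      IsFinite (pullback.snd f v).fromNormalization ∧ Etale (pullback.snd f v).fromNormalization) :
    IsFinite f.fromNormalization ∧ Etale f.fromNormalization := by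
  suffices h : LocallyOfFiniteType f.fromNormalization ∧ Etale f.fromNormalization from
    ⟨(IsFinite.iff_isIntegralHom_and_locallyOfFiniteType _).2 ⟨inferInstance, h.1⟩, h.2⟩
  have h' : ∀ s : S, ∃ (V : Scheme.{u}) (v : V ⟶ S), Etale v ∧ s ∈ Set.range v ∧
      IsFinite (pullback.snd f.fromNormalization v) ∧ Etale (pullback.snd f.fromNormalization v) := fun s => by
    obtain ⟨V, v, hv, hs, h1, h2⟩ := h s
    rw [← f.normalizationPullback_snd v] at h1 h2
    exact ⟨V, v, hv, hs, (MorphismProperty.cancel_left_of_respectsIso @IsFinite _ _).1 h1,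
      (MorphismProperty.cancel_left_of_respectsIso @Etale _ _).1 h2⟩
  choose V v hv hs hfin het using h'
  let W : S → Scheme.{u} := V
  let a : ∐ W ⟶ S := Sigma.desc v
  haveI : Etale a := IsZariskiLocalAtSource.sigmaDesc hv
  haveI : Surjective a := ⟨fun s => by
    obtain ⟨x, hx⟩ := hs s
    exact ⟨Sigma.ι W s x, by rw [← Scheme.Hom.comp_apply, Sigma.ι_desc]; exact hx⟩⟩
  have hq : ∀ (Q : MorphismProperty Scheme.{u}) [IsZariskiLocalAtTarget Q]
      [Q.DescendsAlong (@Surjective ⊓ @Flat ⊓ @LocallyOfFinitePresentation)]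
      (hV : ∀ s, Q (pullback.snd f.fromNormalization (v s))), Q f.fromNormalization := fun Q _ _ hV => by
    refine MorphismProperty.of_isPullback_of_descendsAlong (P := Q)
      (Q := @Surjective ⊓ @Flat ⊓ @LocallyOfFinitePresentation)
      (IsPullback.of_hasPullback f.fromNormalization a).flip ⟨⟨inferInstance, inferInstance⟩, inferInstance⟩ ?_
    refine IsZariskiLocalAtTarget.of_openCover (sigmaOpenCover W) fun s => ?_
    have e : IsPullback (pullback.fst (pullback.snd f.fromNormalization a) (Sigma.ι W s) ≫ pullback.fst _ a)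
        (pullback.snd (pullback.snd f.fromNormalization a) (Sigma.ι W s)) f.fromNormalization (v s) := by
      have := (IsPullback.of_hasPullback (pullback.snd f.fromNormalization a) (Sigma.ι W s)).paste_horiz
        (IsPullback.of_hasPullback f.fromNormalization a)
      rwa [Sigma.ι_desc] at this
    have h2 : pullback.snd (pullback.snd f.fromNormalization a) (Sigma.ι W s) =
        e.isoPullback.hom ≫ pullback.snd f.fromNormalization (v s) := e.isoPullback_hom_snd.symm
    show Q (pullback.snd (pullback.snd f.fromNormalization a) (Sigma.ι W s))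
    rw [h2]
    exact (MorphismProperty.cancel_left_of_respectsIso Q _ _).2 (hV s)
  exact ⟨hq @LocallyOfFiniteType fun s => by haveI := hfin s; infer_instance, hq @Etale het⟩

/-- The Stein factorisation of a proper flat morphism with reduced geometric fibres is finite étale. -/
theorem finite_etale_stein {X S : Scheme.{u}} (f : X ⟶ S) [IsProper f] [Flat f] [LocallyOfFinitePresentation f]
    [GeometricallyReduced f] : IsFinite f.fromNormalization ∧ Etale f.fromNormalization := by
  refine finite_etale_fromNormalization_of_local f ?_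
  intro s
  obtain ⟨U, hU, hsU, -⟩ := exists_isAffineOpen_mem_and_subset (x := s) (U := (⊤ : S.Opens)) trivial
  let Bs := Γ(S, U)
  let j : Spec Bs ⟶ S := hU.fromSpec
  let f₁ : pullback f j ⟶ Spec (CommRingCat.of Bs) := pullback.snd f j
  haveI : IsProper f₁ := MorphismProperty.pullback_snd (P := @IsProper) _ _ ‹_›
  haveI : Flat f₁ := MorphismProperty.pullback_snd (P := @Flat) _ _ ‹_›
  haveI : LocallyOfFinitePresentation f₁ := MorphismProperty.pullback_snd (P := @LocallyOfFinitePresentation) _ _ ‹_›
  haveI : GeometricallyReduced f₁ := MorphismProperty.pullback_snd (P := @GeometricallyReduced) _ _ ‹_›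
  obtain ⟨p, hp⟩ : s ∈ Set.range j := by rw [hU.range_fromSpec]; exact hsU
  obtain ⟨C, _, _, _, ⟨y, hy⟩, ι, _, G, hdis, hcov, hgc⟩ := exists_etale_decomposition f₁ p
  let a : Spec (CommRingCat.of C) ⟶ Spec (CommRingCat.of Bs) := Spec.map (CommRingCat.ofHom (algebraMap Bs C))
  haveI : Etale a := (HasRingHomProperty.Spec_iff (P := @Etale)).2 (RingHom.etale_algebraMap.2 inferInstance)
  let v := a ≫ j
  refine ⟨_, v, inferInstance, ⟨y, ?_⟩, ?_⟩
  · show j (a y) = s
    rw [← hp, ← hy]; rfl
  let g₁ : bcA f₁ C ⟶ Spec (CommRingCat.of C) := bcA.snd f₁ C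
  haveI : IsProper g₁ := MorphismProperty.pullback_snd (P := @IsProper) _ _ ‹_›
  haveI : Flat g₁ := MorphismProperty.pullback_snd (P := @Flat) _ _ ‹_›
  haveI : LocallyOfFinitePresentation g₁ := MorphismProperty.pullback_snd (P := @LocallyOfFinitePresentation) _ _ ‹_›
  haveI : GeometricallyReduced g₁ := MorphismProperty.pullback_snd (P := @GeometricallyReduced) _ _ ‹_›
  obtain ⟨hf, he⟩ := finite_etale_appTop g₁ G hdis hcov hgc
  let e : bcA f₁ C ≅ pullback f v := pullbackLeftPullbackSndIso f j a
  have hev : g₁ = e.hom ≫ pullback.snd f v := (pullbackLeftPullbackSndIso_hom_snd f j a).symm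
  haveI : IsProper (pullback.snd f v) := MorphismProperty.pullback_snd (P := @IsProper) _ _ ‹_›
  have e' : (pullback.snd f v).appTop = g₁.appTop ≫ e.inv.appTop := by
    rw [← Scheme.Hom.comp_appTop]
    congr 1
    rw [hev, e.inv_hom_id_assoc]
  obtain ⟨h1, h2⟩ := finite_etale_fromNormalization (pullback.snd f v)
    (by rw [e', CommRingCat.hom_comp]
        exact (RingHom.Finite.of_surjective _ (ConcreteCategory.bijective_of_isIso e.inv.appTop).2).comp hf)
    (by rw [e', CommRingCat.hom_comp]
        exact RingHom.Etale.respectsIso.1 _ (asIso e.inv.appTop).commRingCatIsoToRingEquiv he)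
  exact ⟨h1, h2⟩

end Groth.Agent.H9PiOne

end
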