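import Groth.Agent.H9PiOne.TrivCover
import Groth.Agent.H9PiOne.SteinEtale
import Groth.Agent.H9PiOne.SepClosedBC
import Groth.Agent.H9PiOne.FamilyConst
import Groth.Agent.H9PiOne.HenselProper
import Groth.Agent.SteinLib.General
import Groth.Agent.Pi1X.FEtBasic

/-!
# Covers with trivial geometric fibres come from the base
-/

set_option autoImplicit false
set_option linter.style.haveILetI false
set_option linter.unusedSectionVars false
set_option backward.isDefEq.respectTransparency false
set_option backward.isDefEq.respectTransparency.types false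

universe u

open CategoryTheory CategoryTheory.Limits AlgebraicGeometry TopologicalSpace Pi1

noncomputable section

namespace Groth.Agent.H9PiOne

open Groth.Agent

attribute [-instance] CategoryTheory.catToReflQuiver

/-- Covers which are trivial on all geometric fibres are trivial étale locally on the base. -/
theorem exists_nbhd_trivial {R : Type u} [CommRing R] {Y : Scheme.{u}} (g : Y ⟶ Spec (CommRingCat.of R))
    [IsProper g] [GeometricallyConnected g] (V : FEt.Cat Y)
    (hsplit : ∀ (K : Type u) [Field K] [IsAlgClosed K] (ξ : Spec (CommRingCat.of K) ⟶ Spec (CommRingCat.of R)),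
      HasSplitting ((FEt.restrict (pullback.fst g ξ)).obj V))
    (p : PrimeSpectrum R) :
    ∃ (B : Type u) (_ : CommRing B) (_ : Algebra R B), Algebra.Etale R B ∧
      p ∈ Set.range (PrimeSpectrum.comap (algebraMap R B)) ∧
      ∃ (ι : Type u) (_ : Finite ι), Nonempty (trivCover (bcA g B) ι ≅ (FEt.restrict (bcA.fst g B)).obj V) := by
  let κ := p.asIdeal.ResidueField
  let L := SeparableClosure κ
  letI : Algebra R L := ((algebraMap κ L).comp (algebraMap R κ)).toAlgebra
  haveI : IsScalarTower R κ L := IsScalarTower.of_algebraMap_eq fun _ => rfl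
  haveI : IsSepClosed L := inferInstance
  let gL : bcA g L ⟶ Spec (CommRingCat.of L) := bcA.snd g L
  haveI : IsProper gL := MorphismProperty.pullback_snd (P := @IsProper) _ _ ‹_›
  -- the closed fibre
  let K := AlgebraicClosure L
  let jK := Spec.map (CommRingCat.ofHom (algebraMap L K))
  have hL : HasSplitting ((FEt.restrict (bcA.fst g L)).obj V) := by
    let e := pullbackLeftPullbackSndIso g (Spec.map (CommRingCat.ofHom (algebraMap R L))) jK
    have h := (hsplit K (jK ≫ Spec.map (CommRingCat.ofHom (algebraMap R L)))).restrict e.hom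
    haveI : Surjective jK := ⟨fun y => ⟨IsLocalRing.closedPoint K,
      @Subsingleton.elim _ (inferInstanceAs (Subsingleton (PrimeSpectrum L))) _ _⟩⟩
    haveI : Surjective (bcA.fst gL K) := MorphismProperty.pullback_fst (P := @Surjective) _ _ ‹_›
    haveI : GeometricallyConnected (bcA.snd gL K) := inferInstance
    haveI : Nonempty ↥(bcA gL K) := ⟨((bcA.snd gL K).surjective (IsLocalRing.closedPoint K)).choose⟩
    refine hasSplitting_of_restrict (bcA.fst gL K) (restrict_sepClosed_full_faithful L K gL).1 ?_
    exact h.of_iso ((Pi1Ext.Spread.restrictComp e.hom _ _ (pullbackLeftPullbackSndIso_hom_fst g _ jK).symm V).symm ≪≫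
      Pi1Ext.Spread.restrictComp (bcA.fst gL K) (bcA.fst g L) _ rfl V)
  obtain ⟨ι, _, ⟨eL⟩⟩ := hL.exists_iso
  -- the henselisation
  let H := Hensel.Henz R L
  let pr : H →ₐ[R] L := Hensel.Henz.proj R L
  have hpr : Function.Surjective pr := henz_proj_surjective p.asIdeal L
  let gH : bcA g H ⟶ Spec (CommRingCat.of H) := bcA.snd g H
  haveI : IsProper gH := MorphismProperty.pullback_snd (P := @IsProper) _ _ ‹_›
  have sq := isPullback_bcMap g pr
  haveI : HenselianRing H (RingHom.ker pr.toRingHom) := Hensel.Henz.henselianRing
  obtain ⟨hfull, hfaith⟩ := restrict_inc_full_faithful (RingHom.ker pr.toRingHom) gH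
  obtain ⟨a⟩ := nonempty_iso_restrict_trivCover (bcMap g pr) ι
  obtain ⟨b⟩ := nonempty_iso_restrict_trivCover (bcA.fst g H) ι
  obtain ⟨eH⟩ := nonempty_iso_of_closed hfull hfaith pr.toRingHom hpr rfl sq
    (U₁ := (FEt.restrict (bcA.fst g H)).obj (trivCover Y ι)) (U₂ := (FEt.restrict (bcA.fst g H)).obj V)
    ((FEt.restrict (bcMap g pr)).mapIso b.symm ≪≫ a.symm ≪≫ eL ≪≫
      Pi1Ext.Spread.restrictComp _ _ _ (bcMap_fst g pr).symm V)
  obtain ⟨N, hN⟩ := exists_nbhd_iso g (trivCover Y ι) V eH
  obtain ⟨eN⟩ := hN N.B (AlgHom.id R N.B)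
  obtain ⟨c⟩ := nonempty_iso_restrict_trivCover (bcA.fst g N.B) ι
  refine ⟨N.B, inferInstance, inferInstance, inferInstance,
    ⟨⟨RingHom.ker N.toK.toRingHom, RingHom.ker_isPrime _⟩, PrimeSpectrum.ext ?_⟩, ι, inferInstance, ⟨c ≪≫ eN⟩⟩
  show (RingHom.ker N.toK.toRingHom).comap (algebraMap R N.B) = p.asIdeal
  rw [RingHom.comap_ker]
  erw [N.toK.comp_algebraMap]
  show RingHom.ker ((algebraMap κ L).comp (algebraMap R κ)) = p.asIdeal
  rw [RingHom.ker_comp_of_injective _ (algebraMap κ L).injective, Ideal.ker_algebraMap_residueField]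

/-- When functions on the source are those of the base, the normalisation is the base. -/
theorem isIso_fromNormalization {X S : Scheme.{u}} (f : X ⟶ S) [IsProper f] (hO : ∀ U : S.Opens, IsIso (f.app U)) :
    IsIso f.fromNormalization := by
  refine (IsZariskiLocalAtTarget.iff_of_iSup_eq_top (P := MorphismProperty.isomorphisms Scheme.{u})
    (fun U : S.affineOpens => U.1) (iSup_affineOpens_eq_top S)).2 fun U => ?_
  refine (isIso_morphismRestrict_iff_isIso_app _ U.2).2 ?_
  haveI := hO U.1
  haveI := FlatMisc.isIso_toNormalization_app f (f.fromNormalization ⁻¹ᵁ U.1)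
  haveI : IsIso ((f.toNormalization ≫ f.fromNormalization).app U.1) := by
    rw [Scheme.Hom.congr_app f.toNormalization_fromNormalization U.1]
    infer_instance
  rw [Scheme.Hom.comp_app] at this
  exact IsIso.of_isIso_comp_right _ (f.toNormalization.app (f.fromNormalization ⁻¹ᵁ U.1))

/-- Functions after smooth base change to an affine scheme are those of the base. -/
theorem isIso_appTop_baseChange {X S W : Scheme.{u}} (f : X ⟶ S) [IsProper f] (hO : ∀ U : S.Opens, IsIso (f.app U))
    (w : W ⟶ S) [Smooth w] : IsIso (pullback.snd f w).appTop := by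
  haveI : IsProper (pullback.snd f w) := MorphismProperty.pullback_snd (P := @IsProper) _ _ ‹_›
  haveI := isIso_fromNormalization f hO
  haveI : IsIso (pullback.snd f.fromNormalization w) := inferInstance
  haveI : IsIso (pullback.snd f w).fromNormalization := by
    rw [← f.normalizationPullback_snd w]
    infer_instance
  haveI : IsIso (pullback.snd f w).toNormalization.appTop := FlatMisc.isIso_toNormalization_app _ ⊤
  rw [← (pullback.snd f w).toNormalization_fromNormalization, Scheme.Hom.comp_appTop]
  infer_instance

/-- Covers which are trivial on all geometric fibres come from the base. -/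
theorem exists_descend_of_split {X S : Scheme.{u}} (f : X ⟶ S) [IsProper f] [GeometricallyConnected f]
    (hO : ∀ U : S.Opens, IsIso (f.app U)) (X' : FEt.Cat X)
    (hsplit : ∀ (K : Type u) [Field K] [IsAlgClosed K] (ξ : Spec (CommRingCat.of K) ⟶ S),
      HasSplitting ((FEt.restrict (pullback.fst f ξ)).obj X')) :
    ∃ T : FEt.Cat S, Nonempty ((FEt.restrict f).obj T ≅ X') := by
  haveI : IsFinite X'.hom := X'.prop.1
  haveI : Etale X'.hom := X'.prop.2
  let g : X'.left ⟶ S := X'.hom ≫ f
  haveI : IsProper g := inferInstanceAs (IsProper (X'.hom ≫ f))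
  obtain ⟨hTf, hTe⟩ : IsFinite g.fromNormalization ∧ Etale g.fromNormalization := by
    refine finite_etale_fromNormalization_of_local g fun s => ?_
    obtain ⟨U, hU, hsU, -⟩ := exists_isAffineOpen_mem_and_subset (x := s) (U := (⊤ : S.Opens)) trivial
    let j : Spec (CommRingCat.of Γ(S, U)) ⟶ S := hU.fromSpec
    let f₁ : pullback f j ⟶ Spec (CommRingCat.of Γ(S, U)) := pullback.snd f j
    haveI : IsProper f₁ := MorphismProperty.pullback_snd (P := @IsProper) _ _ ‹_›
    obtain ⟨p, hp⟩ : s ∈ Set.range j := by rw [show Set.range j = (U : Set S) from hU.range_fromSpec]; exact hsU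
    obtain ⟨B, _, _, hB, ⟨y, hy⟩, ι, _, ⟨eB⟩⟩ := exists_nbhd_trivial f₁ ((FEt.restrict (pullback.fst f j)).obj X')
      (fun K _ _ ξ => (((hsplit K (ξ ≫ j)).restrict (pullbackLeftPullbackSndIso f j ξ).hom).of_iso
        ((Pi1Ext.Spread.restrictComp _ _ _ (pullbackLeftPullbackSndIso_hom_fst f j ξ).symm X').symm ≪≫
          Pi1Ext.Spread.restrictComp (pullback.fst f₁ ξ) (pullback.fst f j) _ rfl X'))) p
    let a : Spec (CommRingCat.of B) ⟶ Spec (CommRingCat.of Γ(S, U)) :=
      Spec.map (CommRingCat.ofHom (algebraMap Γ(S, U) B))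
    haveI : Etale a := (HasRingHomProperty.Spec_iff (P := @Etale)).2 (RingHom.etale_algebraMap.2 hB)
    let v := a ≫ j
    refine ⟨_, v, inferInstance, ⟨y, ?_⟩, ?_⟩
    · show j (a y) = s
      rw [← hp, ← hy]; rfl
    -- the cover over the neighbourhood
    let E : bcA f₁ B ≅ pullback f v := pullbackLeftPullbackSndIso f j a
    obtain ⟨c⟩ := nonempty_iso_restrict_trivCover (pullback.snd f v) ι
    obtain ⟨c'⟩ := nonempty_iso_restrict_trivCover E.inv ι
    let Tb : FEt.Cat (Spec (CommRingCat.of B)) := trivCover (Spec (CommRingCat.of B)) ι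
    let d : Tb.left ⟶ Spec (CommRingCat.of B) := Tb.hom
    haveI : IsFinite d := Tb.prop.1
    haveI : Etale d := Tb.prop.2
    haveI : IsAffine Tb.left := isAffine_of_isAffineHom d
    have hfst : pullback.fst f v = E.inv ≫ bcA.fst f₁ B ≫ pullback.fst f j := by
      rw [Iso.eq_inv_comp]
      exact pullbackLeftPullbackSndIso_hom_fst f j a
    let lam : (FEt.restrict (pullback.fst f v)).obj X' ≅ (FEt.restrict (pullback.snd f v)).obj Tb :=
      Pi1Ext.Spread.restrictComp E.inv (bcA.fst f₁ B ≫ pullback.fst f j) _ hfst X' ≪≫
        (FEt.restrict E.inv).mapIso (Pi1Ext.Spread.restrictComp _ _ _ rfl X' ≪≫ eB.symm) ≪≫ c'.symm ≪≫ c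
    let ψ : pullback g v ≅ pullback f (d ≫ v) :=
      (pullbackRightPullbackFstIso f v X'.hom).symm ≪≫ Pi1Ext.Spread.leftIso lam ≪≫
        pullbackSymmetry d (pullback.snd f v) ≪≫ pullbackLeftPullbackSndIso f v d
    have hψ : pullback.snd g v = ψ.hom ≫ pullback.snd f (d ≫ v) ≫ d := by
      have hl : (Pi1Ext.Spread.leftIso lam).hom ≫ pullback.snd d (pullback.snd f v) =
          pullback.snd X'.hom (pullback.fst f v) := Pi1Ext.Spread.leftIso_w lam
      simp only [ψ, Iso.trans_hom, Iso.symm_hom, Category.assoc, pullbackLeftPullbackSndIso_hom_snd_assoc]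
      rw [pullbackSymmetry_hom_comp_snd_assoc, pullback.condition, reassoc_of% hl,
        pullbackRightPullbackFstIso_inv_snd_snd]
    haveI : IsProper (pullback.snd g v) := MorphismProperty.pullback_snd (P := @IsProper) _ _ ‹_›
    haveI := isIso_appTop_baseChange f hO (d ≫ v)
    have e' : (pullback.snd g v).appTop = d.appTop ≫ ((pullback.snd f (d ≫ v)).appTop ≫ ψ.hom.appTop) := by
      rw [hψ, Scheme.Hom.comp_appTop, Scheme.Hom.comp_appTop, Category.assoc]
    haveI : IsIso ((pullback.snd f (d ≫ v)).appTop ≫ ψ.hom.appTop) := inferInstance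
    refine finite_etale_fromNormalization (pullback.snd g v) ?_ ?_
    · rw [e', CommRingCat.hom_comp]
      exact (RingHom.Finite.of_surjective _ (ConcreteCategory.bijective_of_isIso
        ((pullback.snd f (d ≫ v)).appTop ≫ ψ.hom.appTop)).2).comp
          ((HasAffineProperty.iff_of_isAffine (P := @IsFinite)).1 (inferInstance : IsFinite d)).2
    · rw [e', CommRingCat.hom_comp]
      exact RingHom.Etale.respectsIso.1 _
        (asIso ((pullback.snd f (d ≫ v)).appTop ≫ ψ.hom.appTop)).commRingCatIsoToRingEquiv
        ((HasRingHomProperty.iff_of_isAffine (P := @Etale)).1 (inferInstance : Etale d))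
  let T : FEt.Cat S := MorphismProperty.Over.mk ⊤ g.fromNormalization ⟨hTf, hTe⟩
  let P : Scheme.{u} := pullback g.fromNormalization f
  let c : X'.left ⟶ P := pullback.lift g.toNormalization X'.hom g.toNormalization_fromNormalization
  haveI hcp := Pi1X.prop_of_comp c (pullback.snd g.fromNormalization f)
    (MorphismProperty.pullback_snd _ _ T.prop) (by rw [pullback.lift_snd]; exact X'.prop)
  haveI : IsFinite c := hcp.1
  haveI : Etale c := hcp.2
  haveI := SteinLib.geometricallyConnected_toNormalization_general g
  haveI : IsIso c := (Scheme.Hom.isIso_iff_finrank_eq (f := c)).2 (funext fun p => by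
    let K := AlgebraicClosure (P.residueField p)
    let π : Spec (CommRingCat.of K) ⟶ P :=
      Spec.map (CommRingCat.ofHom (algebraMap (P.residueField p) K)) ≫ P.fromSpecResidueField p
    have hπ : π (IsLocalRing.closedPoint K) = p := by
      show P.fromSpecResidueField p _ = p
      exact Scheme.fromSpecResidueField_apply p _
    let t : Spec (CommRingCat.of K) ⟶ g.normalization := π ≫ pullback.fst g.fromNormalization f
    let s : Spec (CommRingCat.of K) ⟶ S := t ≫ g.fromNormalization
    let j : pullback f s ⟶ P := pullback.lift (pullback.snd f s ≫ t) (pullback.fst f s)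
      (by rw [Category.assoc]; exact pullback.condition.symm)
    let x₁ : Spec (CommRingCat.of K) ⟶ pullback f s :=
      pullback.lift (π ≫ pullback.snd g.fromNormalization f) (𝟙 _)
        (by simp only [s, t, Category.assoc, Category.id_comp, pullback.condition])
    have hx₁ : x₁ ≫ j = π := by
      refine pullback.hom_ext ?_ ?_
      · rw [Category.assoc, pullback.lift_fst, pullback.lift_snd_assoc, Category.id_comp]
      · rw [Category.assoc, pullback.lift_snd, pullback.lift_fst]
    let q : pullback g.toNormalization t ⟶ pullback f s :=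
      pullback.lift (pullback.fst g.toNormalization t ≫ X'.hom) (pullback.snd g.toNormalization t) (by
        simp only [s, Category.assoc]
        rw [← pullback.condition_assoc, g.toNormalization_fromNormalization])
    have hPj : IsPullback (pullback.snd f s) j t (pullback.fst g.fromNormalization f) := by
      refine (IsPullback.of_right ?_ (pullback.lift_fst _ _ _)
        (IsPullback.of_hasPullback g.fromNormalization f).flip).flip
      rw [pullback.lift_snd]
      exact IsPullback.of_hasPullback f s
    have sq : IsPullback (pullback.fst g.toNormalization t) q c j := by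
      refine IsPullback.of_bot ?_ ?_ hPj.flip
      · rw [pullback.lift_snd, pullback.lift_fst]
        exact IsPullback.of_hasPullback g.toNormalization t
      · refine pullback.hom_ext ?_ ?_
        · rw [Category.assoc, Category.assoc, pullback.lift_fst, pullback.lift_fst, pullback.lift_snd_assoc,
            pullback.condition]
        · rw [Category.assoc, Category.assoc, pullback.lift_snd, pullback.lift_snd, pullback.lift_fst]
    haveI : Etale q := MorphismProperty.of_isPullback sq ‹_›
    haveI : IsFinite q := MorphismProperty.of_isPullback sq ‹_›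
    -- the piece is a section
    haveI : ConnectedSpace ↥(pullback g.toNormalization t) :=
      GeometricallyConnected.geometrically_connectedSpace (f := g.toNormalization) t _ _ (IsPullback.of_hasPullback _ t)
    haveI : ConnectedSpace ↥(pullback f s) :=
      GeometricallyConnected.geometrically_connectedSpace (f := f) s _ _ (IsPullback.of_hasPullback f s)
    haveI := SteinLib.isProper_toNormalization g
    haveI : IsProper (pullback.snd g.toNormalization t) := MorphismProperty.pullback_snd (P := @IsProper) _ _ ‹_›
    haveI : CompactSpace ↥(pullback g.toNormalization t) :=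
      QuasiCompact.compactSpace_of_compactSpace (pullback.snd g.toNormalization t)
    obtain ⟨z, -, hz⟩ := IsClosed.exists_closed_singleton
      (isClosed_univ (X := ↥(pullback g.toNormalization t))) Set.univ_nonempty
    let zK := pointOfClosedPoint (pullback.snd g.toNormalization t) z hz
    have hzK : zK ≫ pullback.snd g.toNormalization t = 𝟙 _ := pointOfClosedPoint_comp _ _ _
    let x₀ := zK ≫ q
    let w : Spec (CommRingCat.of K) ⟶ pullback X'.hom (pullback.fst f s) :=
      pullback.lift (zK ≫ pullback.fst g.toNormalization t) x₀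
        (by simp only [x₀, Category.assoc, q, pullback.lift_fst])
    obtain ⟨ι, -, τ, hτ, -, hcov⟩ := hsplit K s
    obtain ⟨i, y, hy⟩ := hcov (w (IsLocalRing.closedPoint K))
    haveI := (isClopenEmbedding_section _ (τ i) (hτ i)).1
    have hw : w = x₀ ≫ τ i := by
      have hr : Set.range w ⊆ Set.range (τ i) := by
        rintro _ ⟨u, rfl⟩
        rw [@Subsingleton.elim _ (inferInstanceAs (Subsingleton (PrimeSpectrum K))) u (IsLocalRing.closedPoint K)]
        exact ⟨y, hy⟩
      have h0 : IsOpenImmersion.lift (τ i) w hr = x₀ := by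
        have := congrArg (· ≫ pullback.snd X'.hom (pullback.fst f s)) (IsOpenImmersion.lift_fac (τ i) w hr)
        simp only [Category.assoc] at this
        rw [show τ i ≫ pullback.snd X'.hom (pullback.fst f s) = 𝟙 _ from hτ i, Category.comp_id] at this
        exact this.trans (pullback.lift_snd _ _ _)
      rw [← h0, IsOpenImmersion.lift_fac]
    let σ : pullback f s ⟶ X'.left := τ i ≫ pullback.fst X'.hom (pullback.fst f s)
    have hσ : σ ≫ X'.hom = pullback.fst f s := by
      rw [Category.assoc, pullback.condition]
      exact (Category.assoc _ _ _).symm.trans ((congrArg (· ≫ pullback.fst f s) (hτ i)).trans (Category.id_comp _))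
    have hconst : σ ≫ g.toNormalization = pullback.snd f s ≫ t := by
      haveI : IsFinite g.fromNormalization := hTf
      haveI : Etale g.fromNormalization := hTe
      refine Pi1X.hom_ext_of_connected g.fromNormalization _ _ ?_ x₀ ?_
      · rw [Category.assoc, Category.assoc, g.toNormalization_fromNormalization]
        show σ ≫ X'.hom ≫ f = _
        rw [reassoc_of% hσ, pullback.condition]
        exact (Category.assoc _ _ _).symm
      · calc x₀ ≫ σ ≫ g.toNormalization
            = (x₀ ≫ τ i) ≫ pullback.fst X'.hom (pullback.fst f s) ≫ g.toNormalization := by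
              simp only [σ, Category.assoc]
          _ = w ≫ pullback.fst X'.hom (pullback.fst f s) ≫ g.toNormalization := by rw [← hw]
          _ = (zK ≫ pullback.fst g.toNormalization t) ≫ g.toNormalization := by
              rw [← Category.assoc, pullback.lift_fst]
          _ = zK ≫ pullback.snd g.toNormalization t ≫ t := by rw [Category.assoc, pullback.condition]
          _ = x₀ ≫ pullback.snd f s ≫ t := by simp only [x₀, q, Category.assoc, pullback.lift_snd_assoc]
    let σ' : pullback f s ⟶ pullback g.toNormalization t := pullback.lift σ (pullback.snd f s) hconst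
    have hσ' : σ' ≫ q = 𝟙 _ := by
      refine pullback.hom_ext ?_ ?_
      · rw [Category.assoc, pullback.lift_fst, pullback.lift_fst_assoc, Category.id_comp, hσ]
      · rw [Category.assoc, pullback.lift_snd, pullback.lift_snd, Category.id_comp]
    haveI : IsIso q := by
      obtain ⟨_, _⟩ := isClopenEmbedding_section (MorphismProperty.Over.mk ⊤ q ⟨inferInstance, inferInstance⟩ :
        FEt.Cat (pullback f s)) σ' hσ'
      have h : IsClopen (Set.range σ') := ⟨σ'.isClosedEmbedding.isClosed_range, σ'.isOpenEmbedding.isOpen_range⟩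
      haveI : Surjective σ' := ⟨Set.range_eq_univ.1 (h.eq_univ (Set.range_nonempty _))⟩
      haveI : IsIso σ' := (isIso_iff_isOpenImmersion_and_epi_base σ').2
        ⟨‹_›, (TopCat.epi_iff_surjective _).2 σ'.surjective⟩
      haveI : IsIso (σ' ≫ q) := by rw [hσ']; infer_instance
      exact IsIso.of_isIso_comp_left σ' q
    have hp : j (x₁ (IsLocalRing.closedPoint K)) = p := by rw [← Scheme.Hom.comp_apply, hx₁, hπ]
    rw [← hp, ← Scheme.Hom.finrank_of_isPullback _ _ _ _ sq, Scheme.Hom.finrank_eq_one_of_isIso q]
    rfl)
  exact ⟨T, ⟨MorphismProperty.Over.isoMk (asIso c).symm (by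
    show inv c ≫ X'.hom = pullback.snd g.fromNormalization f
    rw [IsIso.inv_comp_eq, pullback.lift_snd])⟩⟩

end Groth.Agent.H9PiOne

end
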