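import Groth.Agent.H9PiOne.FamilyConst
import Groth.Agent.H0FBC.FieldBC
import Groth.Agent.Pi1X.FEtFull

/-!
# Clopen subsets of a fibrewise split family extend from a section
-/

set_option autoImplicit false
set_option linter.style.haveILetI false
set_option linter.unusedSectionVars false
set_option backward.isDefEq.respectTransparency false
set_option backward.isDefEq.respectTransparency.types false

universe u

open CategoryTheory CategoryTheory.Limits AlgebraicGeometry

noncomputable section

namespace Groth.Agent.H9PiOne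

open Groth.Agent

attribute [-instance] CategoryTheory.catToReflQuiver

/-- A cover with finitely many disjoint sections covering it. -/
def HasSplitting {P : Scheme.{u}} (V : FEt.Cat P) : Prop :=
  ∃ (ι : Type u) (_ : Finite ι) (τ : ι → (P ⟶ V.left)), (∀ i, τ i ≫ V.hom = 𝟙 P) ∧
    (∀ i j y y', τ i y = τ j y' → i = j) ∧ ∀ z : V.left, ∃ i y, τ i y = z

theorem HasSplitting.of_iso {P : Scheme.{u}} {V V' : FEt.Cat P} (h : HasSplitting V) (e : V ≅ V') :
    HasSplitting V' := by
  obtain ⟨ι, hι, τ, h1, h2, h3⟩ := h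
  let l := Pi1Ext.Spread.leftIso e
  refine ⟨ι, hι, fun i => τ i ≫ l.hom, fun i => ?_, fun i j y y' hy => ?_, fun z => ?_⟩
  · rw [Category.assoc, Pi1Ext.Spread.leftIso_w e, h1]
  · rw [Scheme.Hom.comp_apply, Scheme.Hom.comp_apply] at hy
    exact h2 i j y y' (l.hom.isOpenEmbedding.injective hy)
  · obtain ⟨i, y, hy⟩ := h3 (l.inv z)
    refine ⟨i, y, ?_⟩
    rw [Scheme.Hom.comp_apply, hy, ← Scheme.Hom.comp_apply, l.inv_hom_id]
    rfl

/-- Sections of finite étale covers are open immersions with closed image. -/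
theorem isClopenEmbedding_section {P : Scheme.{u}} (V : FEt.Cat P) (σ : P ⟶ V.left) (h : σ ≫ V.hom = 𝟙 P) :
    IsOpenImmersion σ ∧ IsClosedImmersion σ := by
  haveI : IsFinite V.hom := V.prop.1
  haveI : Etale V.hom := V.prop.2
  haveI : Etale (σ ≫ V.hom) := by rw [h]; infer_instance
  haveI : Etale σ := Etale.of_comp σ V.hom
  haveI : IsClosedImmersion (σ ≫ V.hom) := by rw [h]; infer_instance
  haveI hc : IsClosedImmersion σ := IsClosedImmersion.of_comp σ V.hom
  haveI : UniversallyInjective σ := inferInstance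
  exact ⟨Pi1X.isOpenImmersion_of_etale_universallyInjective σ, hc⟩

/-- The image of the pulled back morphism is the preimage of the image. -/
theorem range_of_isPullback {P X Y Z : Scheme.{u}} {fst : P ⟶ X} {snd : P ⟶ Y} {f : X ⟶ Z} {g : Y ⟶ Z}
    (h : IsPullback fst snd f g) : Set.range snd = g ⁻¹' Set.range f := by
  have h1 : Set.range snd = Set.range (pullback.snd f g) := by
    rw [← h.isoPullback_hom_snd, Scheme.Hom.comp_base, TopCat.coe_comp,
      Function.Surjective.range_comp h.isoPullback.hom.surjective]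
  rw [h1, Scheme.Pullback.range_snd]

variable {k : Type u} [Field k] [IsSepClosed k] {P X : Scheme.{u}}
  (pP : P ⟶ Spec (CommRingCat.of k)) (pX : X ⟶ Spec (CommRingCat.of k))

/-- The section given by a rational point. -/
def ptSection (p : Spec (CommRingCat.of k) ⟶ P) (hp : p ≫ pP = 𝟙 _) : X ⟶ pullback pP pX :=
  pullback.lift (pX ≫ p) (𝟙 X) (by rw [Category.assoc, hp, Category.comp_id, Category.id_comp])

@[reassoc (attr := simp)]
theorem ptSection_fst (p : Spec (CommRingCat.of k) ⟶ P) (hp : p ≫ pP = 𝟙 _) :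
    ptSection pP pX p hp ≫ pullback.fst pP pX = pX ≫ p := pullback.lift_fst _ _ _

@[reassoc (attr := simp)]
theorem ptSection_snd (p : Spec (CommRingCat.of k) ⟶ P) (hp : p ≫ pP = 𝟙 _) :
    ptSection pP pX p hp ≫ pullback.snd pP pX = 𝟙 X := pullback.lift_snd _ _ _

variable [IsProper pP] [ConnectedSpace P]

/-- Clopen subsets of a fibrewise split family over a connected proper scheme extend from a section. -/
theorem exists_clopen_extend (H : FEt.Cat (pullback pP pX)) (p : Spec (CommRingCat.of k) ⟶ P)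
    (hp : p ≫ pP = 𝟙 _)
    (hsplit : ∀ (Ω : Type u) [Field Ω] [IsSepClosed Ω] [Algebra k Ω] (η : Spec (CommRingCat.of Ω) ⟶ X)
      (hη : η ≫ pX = Spec.map (CommRingCat.ofHom (algebraMap k Ω))) (V : FEt.Cat P),
      Nonempty ((FEt.restrict (pullback.lift (bcA.fst pP Ω) (bcA.snd pP Ω ≫ η) (by
          rw [Category.assoc, hη]; exact pullback.condition))).obj H ≅
        (FEt.restrict (bcA.fst pP Ω)).obj V) → HasSplitting V)
    (C : Set ↥(pullback H.hom (ptSection pP pX p hp))) (hC : IsClopen C) :
    ∃ G : Set H.left, IsClopen G ∧ (pullback.fst H.hom (ptSection pP pX p hp)).base ⁻¹' G = C := by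
  let s := ptSection pP pX p hp
  let hH : H.left ⟶ pullback pP pX := H.hom
  haveI : IsFinite hH := H.prop.1
  haveI : Etale hH := H.prop.2
  let pr := pullback.snd pP pX
  let q : H.left ⟶ X := hH ≫ pr
  haveI : IsClosedImmersion s := by
    haveI : IsClosedImmersion (s ≫ pr) := by
      show IsClosedImmersion (ptSection pP pX p hp ≫ pullback.snd pP pX)
      rw [ptSection_snd]; infer_instance
    exact IsClosedImmersion.of_comp s pr
  let ι : pullback hH s ⟶ H.left := pullback.fst hH s
  haveI : IsClosedImmersion ι := MorphismProperty.pullback_fst (P := @IsClosedImmersion) _ _ ‹_›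
  have hrι : Set.range ι = hH ⁻¹' Set.range s := Scheme.Pullback.range_fst _ _
  haveI : GeometricallyConnected pP := H0FBC.geometricallyConnected_of_connectedSpace pP
  haveI : GeometricallyConnected pr := MorphismProperty.pullback_snd pP pX inferInstance
  -- candidates over a morphism to the parameter scheme
  let Good : ∀ (T : Scheme.{u}) (e : T ⟶ X), Set ↥(pullback hH (pullback.fst pr e)) → Set ↥(pullback hH s) → Prop :=
    fun T e G D => IsClopen G ∧ ∀ w a, pullback.fst hH (pullback.fst pr e) w = ι a → (w ∈ G ↔ a ∈ D)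
  let Cand : Set ↥(pullback hH s) → Set H.left := fun D =>
    {z | ∃ (T : Scheme.{u}) (e : T ⟶ X) (_ : Etale e) (G : Set ↥(pullback hH (pullback.fst pr e))),
      Good T e G D ∧ z ∈ pullback.fst hH (pullback.fst pr e) '' G}
  have hopen : ∀ D, IsOpen (Cand D) := fun D => isOpen_iff_forall_mem_open.2 fun z hz => by
    obtain ⟨T, e, he, G, hG, hzG⟩ := hz
    haveI : Etale (pullback.fst pr e) := MorphismProperty.pullback_fst (P := @Etale) _ _ he
    haveI : Etale (pullback.fst hH (pullback.fst pr e)) := MorphismProperty.pullback_fst (P := @Etale) _ _ ‹_›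
    exact ⟨_, fun y hy => ⟨T, e, he, G, hG, hy⟩,
      (pullback.fst hH (pullback.fst pr e)).isOpenMap _ hG.1.isOpen, hzG⟩
  have hdisj : ∀ z, z ∈ Cand C → z ∈ Cand Cᶜ → False := by
    rintro z ⟨T, e, -, G, hG, w, hwG, hw⟩ ⟨T', e', -, G', hG', w', hwG', hw'⟩
    let m := pullback.fst pr e
    let m' := pullback.fst pr e'
    obtain ⟨x, hx, hx'⟩ := Scheme.Pullback.exists_preimage_pullback (f := pullback.fst hH m)
      (g := pullback.fst hH m') w w' (hw.trans hw'.symm)
    let a₁ := pullback.fst (pullback.fst hH m) (pullback.fst hH m')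
    let a₂ := pullback.snd (pullback.fst hH m) (pullback.fst hH m')
    let Ω := AlgebraicClosure ((pullback (pullback.fst hH m) (pullback.fst hH m')).residueField x)
    let ξ : Spec (CommRingCat.of Ω) ⟶ pullback (pullback.fst hH m) (pullback.fst hH m') :=
      Spec.map (CommRingCat.ofHom
        (algebraMap ((pullback (pullback.fst hH m) (pullback.fst hH m')).residueField x) Ω)) ≫
        (pullback (pullback.fst hH m) (pullback.fst hH m')).fromSpecResidueField x
    have hξ : ξ (IsLocalRing.closedPoint Ω) = x := by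
      rw [Scheme.Hom.comp_apply]
      exact Scheme.fromSpecResidueField_apply x _
    let t : Spec (CommRingCat.of Ω) ⟶ T := ξ ≫ a₁ ≫ pullback.snd hH m ≫ pullback.snd pr e
    let t' : Spec (CommRingCat.of Ω) ⟶ T' := ξ ≫ a₂ ≫ pullback.snd hH m' ≫ pullback.snd pr e'
    let zz : Spec (CommRingCat.of Ω) ⟶ H.left := ξ ≫ a₁ ≫ pullback.fst hH m
    have hz' : zz = ξ ≫ a₂ ≫ pullback.fst hH m' := congrArg (ξ ≫ ·) pullback.condition
    let η : Spec (CommRingCat.of Ω) ⟶ X := zz ≫ hH ≫ pr
    have ht : t ≫ e = η := by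
      simp only [t, η, zz, Category.assoc]
      rw [← pullback.condition (f := pr) (g := e), ← pullback.condition_assoc (f := hH) (g := m)]
    have ht' : t' ≫ e' = η := by
      simp only [t', η, Category.assoc]
      rw [← pullback.condition (f := pr) (g := e'), ← pullback.condition_assoc (f := hH) (g := m'), hz']
      simp
    let mη := pullback.fst pr η
    have hfac : ∀ {T : Scheme.{u}} {e : T ⟶ X} (t : Spec (CommRingCat.of Ω) ⟶ T) (_ : t ≫ e = η),
        ∃ l : pullback hH mη ⟶ pullback hH (pullback.fst pr e), l ≫ pullback.fst hH _ = pullback.fst hH mη ∧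
          l ≫ pullback.snd hH _ ≫ pullback.snd pr e = pullback.snd hH mη ≫ pullback.snd pr η ≫ t := by
      intro T e t h
      refine ⟨pullback.lift (pullback.fst hH mη) (pullback.snd hH mη ≫ pullback.lift mη (pullback.snd pr η ≫ t)
        (by rw [Category.assoc, h]; exact pullback.condition)) (by
          rw [Category.assoc, pullback.lift_fst]; exact pullback.condition), pullback.lift_fst _ _ _, by simp⟩
    let wη : Spec (CommRingCat.of Ω) ⟶ pullback hH mη :=
      pullback.lift zz (pullback.lift (zz ≫ hH) (𝟙 _) (by simp [η])) (by simp [mη])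
    obtain ⟨l, hl1, hl2⟩ := hfac t ht
    obtain ⟨l', hl1', hl2'⟩ := hfac t' ht'
    have hlw : wη ≫ l = ξ ≫ a₁ := by
      apply pullback.hom_ext
      · rw [Category.assoc, hl1]
        simp [wη, zz]
        try rfl
      · apply pullback.hom_ext
        · simp only [Category.assoc]
          rw [← pullback.condition, reassoc_of% hl1]
          simp [wη, zz, ← pullback.condition (f := hH) (g := m), m]
          try rfl
        · simp only [Category.assoc]
          rw [hl2]
          simp [wη, t, m]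
          exact Category.id_comp _
    have hlw' : wη ≫ l' = ξ ≫ a₂ := by
      apply pullback.hom_ext
      · rw [Category.assoc, hl1']
        simp [wη, hz', m']
      · apply pullback.hom_ext
        · simp only [Category.assoc]
          rw [← pullback.condition, reassoc_of% hl1']
          simp [wη, hz', ← pullback.condition (f := hH) (g := m'), m']
        · simp only [Category.assoc]
          rw [hl2']
          simp [wη, t', m']
          exact Category.id_comp _
    let E : Set ↥(pullback hH mη) := l ⁻¹' G ∩ l' ⁻¹' G'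
    have hE : IsClopen E := (hG.1.preimage l.continuous).inter (hG'.1.preimage l'.continuous)
    have hwE : wη (IsLocalRing.closedPoint Ω) ∈ E := by
      refine ⟨?_, ?_⟩
      · show l (wη _) ∈ G
        rw [← Scheme.Hom.comp_apply, hlw, Scheme.Hom.comp_apply, hξ, hx]; exact hwG
      · show l' (wη _) ∈ G'
        rw [← Scheme.Hom.comp_apply, hlw', Scheme.Hom.comp_apply, hξ, hx']; exact hwG'
    let jη := pullback.snd hH mη
    haveI : IsFinite jη := MorphismProperty.pullback_snd (P := @IsFinite) _ _ ‹_›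
    haveI : Etale jη := MorphismProperty.pullback_snd (P := @Etale) _ _ ‹_›
    haveI : GeometricallyConnected (pullback.snd pr η) := MorphismProperty.pullback_snd pr η inferInstance
    haveI : ConnectedSpace ↥(pullback pr η) := by
      have h := (pullback.snd pr η).isConnected_preimage_singleton (IsLocalRing.closedPoint Ω)
      have hu : (pullback.snd pr η) ⁻¹' {IsLocalRing.closedPoint Ω} = Set.univ :=
        Set.eq_univ_of_forall fun y => @Subsingleton.elim _ (inferInstanceAs (Subsingleton (PrimeSpectrum Ω))) _ _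
      exact connectedSpace_iff_univ.2 (hu ▸ h)
    let sη : Spec (CommRingCat.of Ω) ⟶ pullback pr η := pullback.lift (η ≫ s) (𝟙 _) (by simp [s, pr])
    have himg : jη '' E = Set.univ :=
      IsClopen.eq_univ ⟨jη.isClosedMap _ hE.isClosed, jη.isOpenMap _ hE.isOpen⟩ ⟨_, _, hwE, rfl⟩
    obtain ⟨u, hu, hju⟩ : sη (IsLocalRing.closedPoint Ω) ∈ jη '' E := himg ▸ Set.mem_univ _
    have hmem : pullback.fst hH mη u ∈ Set.range ι := by
      rw [hrι]
      refine ⟨η (IsLocalRing.closedPoint Ω), ?_⟩
      have h1 : hH (pullback.fst hH mη u) = mη (jη u) :=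
        (Scheme.Hom.comp_apply _ _ u).symm.trans
          ((congrArg (fun k => k u) (pullback.condition (f := hH) (g := mη))).trans (Scheme.Hom.comp_apply _ _ u))
      have h2 : mη (sη (IsLocalRing.closedPoint Ω)) = s (η (IsLocalRing.closedPoint Ω)) :=
        (Scheme.Hom.comp_apply _ _ _).symm.trans
          ((congrArg (fun k : Spec (CommRingCat.of Ω) ⟶ pullback pP pX => k (IsLocalRing.closedPoint Ω))
            (pullback.lift_fst _ _ _ : sη ≫ mη = η ≫ s)).trans (Scheme.Hom.comp_apply _ _ _))
      exact h2.symm.trans ((congrArg mη hju.symm).trans h1.symm)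
    obtain ⟨a, ha⟩ := hmem
    have h1 : a ∈ C := (hG.2 (l u) a (by rw [← Scheme.Hom.comp_apply, hl1]; exact ha.symm)).1 hu.1
    have h2 : a ∈ Cᶜ := (hG'.2 (l' u) a (by rw [← Scheme.Hom.comp_apply, hl1']; exact ha.symm)).1 hu.2
    exact h2 h1
  have hcov : ∀ (D : Set ↥(pullback hH s)), IsClopen D → ∀ z : H.left,
      z ∈ Cand D ∨ z ∈ Cand Dᶜ := by
    intro D hD z
    obtain ⟨_, ⟨O, hO, rfl⟩, hzO, -⟩ := X.isBasis_affineOpens.exists_subset_of_mem_open (Set.mem_univ (q z)) isOpen_univ
    replace hO : IsAffineOpen O := hO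
    obtain ⟨ψ, hψ⟩ := Spec.map_surjective (hO.fromSpec ≫ pX)
    letI : Algebra k Γ(X, O) := ψ.hom.toAlgebra
    have hj : hO.fromSpec ≫ pX = Spec.map (CommRingCat.ofHom (algebraMap k Γ(X, O))) := hψ.symm
    let j : bcA pP Γ(X, O) ⟶ pullback pP pX :=
      pullback.lift (bcA.fst pP Γ(X, O)) (bcA.snd pP Γ(X, O) ≫ hO.fromSpec)
        (by rw [Category.assoc, hj]; exact pullback.condition)
    obtain ⟨r, hr⟩ : q z ∈ Set.range hO.fromSpec := by rw [hO.range_fromSpec]; exact hzO
    obtain ⟨B, _, _, V₀, hB, hrB, hN⟩ := exists_etale_const pP Γ(X, O) ((FEt.restrict j).obj H) r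
    haveI := hB
    obtain ⟨rB, hrB⟩ := hrB
    let g : bcA pP Γ(X, O) ⟶ Spec (CommRingCat.of Γ(X, O)) := bcA.snd pP Γ(X, O)
    -- the constant cover is split
    have hV₀ : HasSplitting V₀ := by
      let Ω := AlgebraicClosure ((Spec (CommRingCat.of B)).residueField rB)
      let ξ : Spec (CommRingCat.of Ω) ⟶ Spec (CommRingCat.of B) :=
        Spec.map (CommRingCat.ofHom (algebraMap ((Spec (CommRingCat.of B)).residueField rB) Ω)) ≫
          (Spec (CommRingCat.of B)).fromSpecResidueField rB
      obtain ⟨χ, hχ⟩ := Spec.map_surjective ξ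
      letI : Algebra Γ(X, O) Ω := (χ.hom.comp (algebraMap Γ(X, O) B)).toAlgebra
      letI : Algebra k Ω := ((algebraMap Γ(X, O) Ω).comp (algebraMap k Γ(X, O))).toAlgebra
      let θ : B →ₐ[Γ(X, O)] Ω := AlgHom.mk χ.hom fun _ => rfl
      obtain ⟨eΩ⟩ := hN Ω θ
      let φ : Γ(X, O) →ₐ[k] Ω := AlgHom.mk (algebraMap Γ(X, O) Ω) fun _ => rfl
      let η : Spec (CommRingCat.of Ω) ⟶ X := Spec.map (CommRingCat.ofHom φ.toRingHom) ≫ hO.fromSpec
      have hη : η ≫ pX = Spec.map (CommRingCat.ofHom (algebraMap k Ω)) := by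
        rw [Category.assoc, hj, ← Spec.map_comp, ← CommRingCat.ofHom_comp]
        rfl
      let v : bcA pP Ω ⟶ bcA g Ω := pullback.lift (bcMap pP φ) (bcA.snd pP Ω) (bcMap_snd pP φ)
      have hv : bcMap pP φ = v ≫ bcA.fst g Ω := (pullback.lift_fst _ _ _).symm
      have hm : pullback.lift (bcA.fst pP Ω) (bcA.snd pP Ω ≫ η)
          (by rw [Category.assoc, hη]; exact pullback.condition) = bcMap pP φ ≫ j := by
        apply pullback.hom_ext
        · simp [j]
        · simp [j, η]
      exact hsplit Ω η hη V₀ ⟨Pi1Ext.Spread.restrictComp _ _ _ hm H ≪≫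
        Pi1Ext.Spread.restrictComp _ _ _ hv _ ≪≫ (FEt.restrict v).mapIso eΩ ≪≫
        (Pi1Ext.Spread.restrictComp _ _ _ hv _).symm ≪≫
        (Pi1Ext.Spread.restrictComp _ _ _ (bcMap_fst pP φ).symm V₀).symm⟩
    obtain ⟨eB⟩ := hN B (AlgHom.id _ _)
    let aB := Spec.map (CommRingCat.ofHom (algebraMap Γ(X, O) B))
    haveI : Etale aB := by
      rw [HasRingHomProperty.Spec_iff (P := @Etale)]
      exact RingHom.etale_algebraMap.2 hB
    let e : Spec (CommRingCat.of B) ⟶ X := aB ≫ hO.fromSpec
    haveI he : Etale e := inferInstanceAs (Etale (aB ≫ hO.fromSpec))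
    let m := pullback.fst pr e
    let v : pullback pr e ⟶ bcA g B :=
      pullback.lift (pullback.lift (m ≫ pullback.fst pP pX) (pullback.snd pr e ≫ aB) (by
          rw [Category.assoc, Category.assoc, pullback.condition, ← hj]
          exact pullback.condition_assoc _))
        (pullback.snd pr e) (pullback.lift_snd _ _ _)
    have hvj : v ≫ bcA.fst g B ≫ j = m := by
      apply pullback.hom_ext
      · simp [v, j, m]
      · simp only [v, j, Category.assoc, pullback.lift_snd, pullback.lift_fst_assoc, pullback.lift_snd_assoc]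
        exact pullback.condition.symm
    let mP : pullback pr e ⟶ P := m ≫ pullback.fst pP pX
    have hvP : mP = (v ≫ bcA.fst g B) ≫ bcA.fst pP Γ(X, O) := by simp [v, mP]
    let E : (FEt.restrict m).obj H ≅ (FEt.restrict mP).obj V₀ :=
      Pi1Ext.Spread.restrictComp _ _ _ (hvj.symm.trans (Category.assoc _ _ _).symm) H ≪≫
        Pi1Ext.Spread.restrictComp _ _ _ rfl _ ≪≫ (FEt.restrict v).mapIso eB ≪≫
        (Pi1Ext.Spread.restrictComp _ _ _ rfl _).symm ≪≫ (Pi1Ext.Spread.restrictComp _ _ _ hvP V₀).symm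
    obtain ⟨ι', _, τ, hτ, hτd, hτc⟩ := hV₀
    let l := Pi1Ext.Spread.leftIso E
    let σ₀ : ∀ _ : ι', pullback pr e ⟶ pullback V₀.hom mP := fun i =>
      pullback.lift (mP ≫ τ i) (𝟙 _) (by rw [Category.assoc, hτ i, Category.comp_id, Category.id_comp])
    let σ : ∀ _ : ι', pullback pr e ⟶ pullback hH m := fun i => σ₀ i ≫ l.inv
    have hσ₀ : ∀ i, Set.range (σ₀ i) = pullback.fst V₀.hom mP ⁻¹' Set.range (τ i) := fun i => by
      refine range_of_isPullback (fst := mP) (IsPullback.of_bot ?_ (pullback.lift_fst _ _ _).symm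
        (IsPullback.of_hasPullback V₀.hom mP))
      rw [hτ i, pullback.lift_snd]
      exact IsPullback.of_vert_isIso ⟨by simp⟩
    have hlw : l.inv ≫ pullback.snd hH m = pullback.snd V₀.hom mP :=
      (Iso.inv_comp_eq l).2 (Pi1Ext.Spread.leftIso_w E).symm
    have hσs : ∀ i, σ i ≫ pullback.snd hH m = 𝟙 _ := fun i => by
      rw [Category.assoc, hlw, pullback.lift_snd]
    have hσ : ∀ i, IsOpenImmersion (σ i) ∧ IsClosedImmersion (σ i) := fun i =>
      isClopenEmbedding_section ((FEt.restrict m).obj H) (σ i) (hσs i)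
    have hσd : ∀ i i' y y', σ i y = σ i' y' → i = i' := fun i i' y y' h => by
      rw [Scheme.Hom.comp_apply, Scheme.Hom.comp_apply] at h
      have h1 := congrArg (fun w => pullback.fst V₀.hom mP w) (l.inv.isOpenEmbedding.injective h)
      simp only [← Scheme.Hom.comp_apply, σ₀, pullback.lift_fst] at h1
      rw [Scheme.Hom.comp_apply, Scheme.Hom.comp_apply] at h1
      exact hτd i i' _ _ h1
    have hσc : ∀ w, ∃ i y, σ i y = w := fun w => by
      obtain ⟨i, y, hy⟩ := hτc (pullback.fst V₀.hom mP (l.hom w))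
      obtain ⟨y', hy'⟩ : l.hom w ∈ Set.range (σ₀ i) := by rw [hσ₀ i]; exact ⟨y, hy⟩
      refine ⟨i, y', ?_⟩
      rw [Scheme.Hom.comp_apply, hy']
      exact (Scheme.Hom.comp_apply l.hom l.inv w).symm.trans (congrArg (fun k : ((FEt.restrict m).obj H).left ⟶ ((FEt.restrict m).obj H).left => k w) l.hom_inv_id)
    let sT : Spec (CommRingCat.of B) ⟶ pullback pr e := pullback.lift (e ≫ s) (𝟙 _) (by simp [s, pr])
    have hsT : Set.range sT = m ⁻¹' Set.range s := by
      refine range_of_isPullback (fst := e) (IsPullback.of_bot ?_ (pullback.lift_fst _ _ _).symm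
        (IsPullback.of_hasPullback pr e).flip.flip)
      rw [pullback.lift_snd]
      show IsPullback e (𝟙 _) (s ≫ pr) e
      rw [show s ≫ pr = 𝟙 X from ptSection_snd pP pX p hp]
      exact IsPullback.of_vert_isIso ⟨by simp⟩
    let a : ι' → (Spec (CommRingCat.of B) ⟶ pullback hH s) := fun i =>
      pullback.lift (sT ≫ σ i ≫ pullback.fst hH m) e (by
        rw [Category.assoc, Category.assoc, pullback.condition, reassoc_of% (hσs i)]
        exact pullback.lift_fst _ _ _)
    let G : Set ↥(pullback pr e) → ι' → Set ↥(pullback hH m) := fun S i => σ i '' S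
    have hkey : ∀ (D' : Set ↥(pullback hH s)), IsClopen D' →
        Good _ e (⋃ i, σ i '' (pullback.snd pr e ⁻¹' ((a i) ⁻¹' D'))) D' := fun D' hD' => by
      refine ⟨isClopen_iUnion_of_finite fun i => ?_, fun w a₀ hw => ?_⟩
      · haveI := (hσ i).1; haveI := (hσ i).2
        have hS := (hD'.preimage (a i).continuous).preimage (pullback.snd pr e).continuous
        exact ⟨(σ i).isClosedEmbedding.isClosedMap _ hS.isClosed, (σ i).isOpenEmbedding.isOpenMap _ hS.isOpen⟩
      obtain ⟨i, y, rfl⟩ := hσc w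
      obtain ⟨t, rfl⟩ : y ∈ Set.range sT := by
        rw [hsT, Set.mem_preimage]
        have : hH (ι a₀) ∈ Set.range s := by rw [← Set.mem_preimage, ← hrι]; exact ⟨a₀, rfl⟩
        rw [← hw, ← Scheme.Hom.comp_apply, ← Scheme.Hom.comp_apply, pullback.condition] at this
        rw [reassoc_of% (hσs i)] at this
        exact this
      have ha : a i t = a₀ := by
        refine ι.isClosedEmbedding.injective ?_
        rw [← hw, ← Scheme.Hom.comp_apply, pullback.lift_fst, Scheme.Hom.comp_apply, Scheme.Hom.comp_apply]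
      have hts : pullback.snd pr e (sT t) = t := by
        rw [← Scheme.Hom.comp_apply, pullback.lift_snd]; rfl
      rw [Set.mem_iUnion]
      refine ⟨?_, fun h => ⟨i, sT t, ?_, rfl⟩⟩
      · rintro ⟨i', y', hy', h⟩
        obtain rfl := hσd i' i y' (sT t) h
        haveI := (hσ i').1
        obtain rfl := (σ i').isOpenEmbedding.injective h
        rw [Set.mem_preimage, hts, Set.mem_preimage, ha] at hy'
        exact hy'
      · rw [Set.mem_preimage, hts, Set.mem_preimage, ha]; exact h
    obtain ⟨y₀, hy₀, -⟩ := Scheme.Pullback.exists_preimage_pullback (f := pr) (g := e) (hH z) rB (by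
      have h1 : q z = pr (hH z) := Scheme.Hom.comp_apply hH pr z
      have h2 : e rB = hO.fromSpec (aB rB) := Scheme.Hom.comp_apply aB hO.fromSpec rB
      rw [← h1, h2, ← hr]
      exact congrArg hO.fromSpec hrB.symm)
    obtain ⟨w, hw, -⟩ := Scheme.Pullback.exists_preimage_pullback (f := hH) (g := m) z y₀ hy₀.symm
    obtain ⟨i, y, hy⟩ := hσc w
    by_cases h : a i (pullback.snd pr e y) ∈ D
    · exact Or.inl ⟨_, e, he, _, hkey D hD, w, Set.mem_iUnion.2 ⟨i, y, h, hy⟩, hw⟩
    · exact Or.inr ⟨_, e, he, _, hkey Dᶜ hD.compl, w, Set.mem_iUnion.2 ⟨i, y, h, hy⟩, hw⟩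
  have hcompl : Cand Cᶜ = (Cand C)ᶜ := Set.ext fun z =>
    ⟨fun h h' => hdisj z h' h, fun h => (hcov C hC z).resolve_left h⟩
  refine ⟨Cand C, ⟨isOpen_compl_iff.1 (hcompl ▸ hopen Cᶜ), hopen C⟩, Set.ext fun a => ?_⟩
  have hmem : ∀ D, ι a ∈ Cand D → a ∈ D := fun D hD => by
    obtain ⟨T, e, -, G, hG, w, hwG, hw⟩ := hD
    exact (hG.2 w a hw).1 hwG
  refine ⟨fun h => hmem C h, fun h => ?_⟩
  by_contra h'
  exact hmem Cᶜ ((hcov C hC (ι a)).resolve_left h') h

end Groth.Agent.H9PiOne

end
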