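import Groth.Agent.H9PiOne.SteinLocal
import Groth.Agent.H9PiOne.SplitDescend
import Groth.Agent.SrcDescent.Scheme
import Groth.Agent.S1297

/-!
# Where the Stein factorisation of a cover is étale over the base and trivialises the cover
-/

set_option autoImplicit false
set_option linter.style.haveILetI false
set_option linter.unusedSectionVars false
set_option backward.isDefEq.respectTransparency false
set_option backward.isDefEq.respectTransparency.types false

universe u

open CategoryTheory CategoryTheory.Limits AlgebraicGeometry TopologicalSpace Pi1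

noncomputable section

namespace Groth.Agent.H9PiOne

open Groth.Agent

attribute [-instance] CategoryTheory.catToReflQuiver

variable {X X' S : Scheme.{u}} (f : X ⟶ S) [IsProper f] (g : X' ⟶ X) [IsProper g]

/-- Functions on smooth base changes are those of the base. -/
theorem isIso_app_baseChange (hO : ∀ U : S.Opens, IsIso (f.app U)) {V : Scheme.{u}} (v : V ⟶ S) [Smooth v]
    (U : V.Opens) : IsIso ((pullback.snd f v).app U) := by
  haveI : IsProper (pullback.snd f v) := MorphismProperty.pullback_snd (P := @IsProper) _ _ ‹_›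
  haveI := isIso_fromNormalization f hO
  haveI : IsIso (pullback.snd f.fromNormalization v) := inferInstance
  haveI : IsIso (pullback.snd f v).fromNormalization := by
    rw [← f.normalizationPullback_snd v]
    infer_instance
  haveI := FlatMisc.isIso_toNormalization_app (pullback.snd f v) ((pullback.snd f v).fromNormalization ⁻¹ᵁ U)
  rw [Scheme.Hom.congr_app (pullback.snd f v).toNormalization_fromNormalization.symm U, Scheme.Hom.comp_app]
  infer_instance

/-- An affine morphism is an isomorphism when a factorisation of isomorphisms on functions passes through it. -/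
theorem isIso_of_app_factor {A G V : Scheme.{u}} (a : A ⟶ G) (π : G ⟶ V) [IsAffineHom π] (b : A ⟶ V)
    (e : a ≫ π = b) (ha : ∀ U, IsIso (a.app U)) (hb : ∀ U, IsIso (b.app U)) : IsIso π := by
  subst e
  refine (IsZariskiLocalAtTarget.iff_of_iSup_eq_top (P := MorphismProperty.isomorphisms Scheme.{u})
    (fun U : V.affineOpens => U.1) (iSup_affineOpens_eq_top V)).2 fun U => ?_
  refine (isIso_morphismRestrict_iff_isIso_app _ U.2).2 ?_
  haveI := ha (π ⁻¹ᵁ U.1)
  have h := hb U.1
  rw [Scheme.Hom.comp_app] at h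
  exact IsIso.of_isIso_comp_right _ (a.app (π ⁻¹ᵁ U.1))

set_option maxHeartbeats 1000000 in
/-- A clopen copy of `X` over an étale neighbourhood gives a neighbourhood in the Stein factorisation étale over
the base over which the comparison map is an isomorphism. -/
theorem exists_open_of_copy (hO : ∀ U : S.Opens, IsIso (f.app U))
    (c : X' ⟶ pullback f (g ≫ f).fromNormalization)
    (hc1 : c ≫ pullback.fst f (g ≫ f).fromNormalization = g)
    (hc2 : c ≫ pullback.snd f (g ≫ f).fromNormalization = (g ≫ f).toNormalization)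
    {V : Scheme.{u}} (v : V ⟶ S) [Etale v] (O : (pullback (g ≫ f) v).Opens)
    (hOcl : IsClosed (O : Set ↥(pullback (g ≫ f) v))) [IsIso (O.ι ≫ bcOver f g v)]
    (o : ↥(pullback (g ≫ f) v)) (ho : o ∈ O) :
    ∃ U' : ((g ≫ f).normalization).Opens, (g ≫ f).toNormalization (pullback.fst (g ≫ f) v o) ∈ U' ∧
      Etale (U'.ι ≫ (g ≫ f).fromNormalization) ∧
      IsIso (c ∣_ ((pullback.snd f (g ≫ f).fromNormalization) ⁻¹ᵁ U')) := by
  let h := g ≫ f
  haveI : IsProper h := inferInstanceAs (IsProper (g ≫ f))
  haveI := SteinLib.isProper_toNormalization h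
  haveI := SteinLib.geometricallyConnected_toNormalization_general h
  -- the base change of the Stein factorisation
  let N := pullback h.fromNormalization v
  let t : pullback h v ⟶ N := pullback.lift (pullback.fst h v ≫ h.toNormalization) (pullback.snd h v)
    (by rw [Category.assoc, Scheme.Hom.toNormalization_fromNormalization]; exact pullback.condition)
  have sqt : IsPullback (pullback.fst h v) t h.toNormalization (pullback.fst h.fromNormalization v) := by
    refine IsPullback.of_bot ?_ (pullback.lift_fst _ _ _).symm (IsPullback.of_hasPullback h.fromNormalization v)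
    rw [pullback.lift_snd, Scheme.Hom.toNormalization_fromNormalization]
    exact IsPullback.of_hasPullback h v
  haveI : GeometricallyConnected t := MorphismProperty.of_isPullback sqt ‹_›
  haveI : IsProper t := MorphismProperty.of_isPullback sqt ‹_›
  haveI : IsProper (pullback.snd h v) := MorphismProperty.pullback_snd (P := @IsProper) _ _ ‹_›
  have happ : ∀ U, IsIso (t.app U) := by
    have ht : t = (pullback.snd h v).toNormalization ≫ h.normalizationPullback v := by
      refine pullback.hom_ext ?_ ?_
      · rw [pullback.lift_fst, Category.assoc, Scheme.Hom.toNormalization_normalizationPullback_fst]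
      · rw [pullback.lift_snd, Category.assoc, Scheme.Hom.normalizationPullback_snd,
          Scheme.Hom.toNormalization_fromNormalization]
    intro U
    haveI := FlatMisc.isIso_toNormalization_app (pullback.snd h v) (h.normalizationPullback v ⁻¹ᵁ U)
    rw [Scheme.Hom.congr_app ht U, Scheme.Hom.comp_app]
    infer_instance
  have hsat : t ⁻¹' (t '' (O : Set ↥(pullback h v))) = O :=
    Set.Subset.antisymm (fun x ⟨y, hy, e⟩ =>
      (t.isConnected_preimage_singleton (t x)).isPreconnected.subset_isClopen ⟨hOcl, O.isOpen⟩ ⟨y, e, hy⟩ rfl)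
      (fun x hx => ⟨x, hx, rfl⟩)
  have hGo : IsOpen (t '' (O : Set ↥(pullback h v))) := by
    have : t '' (O : Set ↥(pullback h v)) = (t '' (O : Set ↥(pullback h v))ᶜ)ᶜ := by
      ext z
      refine ⟨fun ⟨x, hx, e⟩ ⟨y, hy, e'⟩ => hy (hsat.le ⟨x, hx, e.trans e'.symm⟩), fun hz => ?_⟩
      obtain ⟨x, rfl⟩ := t.surjective z
      exact ⟨x, by_contra fun hx => hz ⟨x, hx, rfl⟩, rfl⟩
    rw [this]
    exact (t.isClosedMap _ O.isOpen.isClosed_compl).isOpen_compl
  let G : N.Opens := ⟨t '' (O : Set ↥(pullback h v)), hGo⟩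
  have hGcl : IsClosed (G : Set N) := t.isClosedMap _ hOcl
  have htG : t ⁻¹ᵁ G = O := TopologicalSpace.Opens.ext hsat
  -- the piece of the factorisation is the neighbourhood
  let πG : (G : Scheme.{u}) ⟶ V := G.ι ≫ pullback.snd h.fromNormalization v
  haveI : IsClosedImmersion G.ι := IsClosedImmersion.of_isPreimmersion _ (by rw [Scheme.Opens.range_ι]; exact hGcl)
  haveI : IsAffineHom (pullback.snd h.fromNormalization v) := MorphismProperty.pullback_snd _ _ inferInstance
  haveI : IsAffineHom πG := inferInstanceAs (IsAffineHom (G.ι ≫ _))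
  have hapG : ∀ U, IsIso ((t ∣_ G).app U) := fun U => by
    haveI := happ (G.ι ''ᵁ U)
    rw [morphismRestrict_app]
    infer_instance
  let E : (t ⁻¹ᵁ G : Scheme.{u}) ⟶ pullback f v := (t ⁻¹ᵁ G).ι ≫ bcOver f g v
  haveI : IsIso E := by
    show IsIso ((t ⁻¹ᵁ G).ι ≫ bcOver f g v)
    rw [htG]
    infer_instance
  have hE : (t ∣_ G) ≫ πG = E ≫ pullback.snd f v := by
    simp only [πG, E, morphismRestrict_ι_assoc, Category.assoc, t, bcOver, pullback.lift_snd]
    rfl
  haveI : IsIso πG := isIso_of_app_factor (t ∣_ G) πG (E ≫ pullback.snd f v) hE hapG fun U => by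
    haveI := isIso_app_baseChange f hO v U
    rw [Scheme.Hom.comp_app]
    infer_instance
  -- the open set
  let φG : (G : Scheme.{u}) ⟶ h.normalization := G.ι ≫ pullback.fst h.fromNormalization v
  haveI : Etale (pullback.fst h.fromNormalization v) := MorphismProperty.pullback_fst (P := @Etale) _ _ ‹_›
  haveI : Etale φG := inferInstanceAs (Etale (G.ι ≫ _))
  let U' : h.normalization.Opens := ⟨Set.range φG, φG.isOpenMap.isOpen_range⟩
  let u : (G : Scheme.{u}) ⟶ U' := IsOpenImmersion.lift U'.ι φG (by rw [Scheme.Opens.range_ι]; rfl)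
  have hu : u ≫ U'.ι = φG := IsOpenImmersion.lift_fac _ _ _
  haveI : Etale (u ≫ U'.ι) := by rw [hu]; infer_instance
  haveI : Etale u := Etale.of_comp u U'.ι
  haveI : Surjective u := ⟨fun z => by
    obtain ⟨w, hw⟩ := z.2
    exact ⟨w, Subtype.ext ((congrArg (fun k : (G : Scheme.{u}) ⟶ h.normalization => k w) hu).trans hw)⟩⟩
  have hpi : φG ≫ h.fromNormalization = πG ≫ v := by
    simp only [φG, πG, Category.assoc, pullback.condition]
  haveI : Etale (U'.ι ≫ h.fromNormalization) :=
    SrcDescent.etale_of_etale_comp u _ (by rw [← Category.assoc, hu, hpi]; infer_instance)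
  refine ⟨U', ⟨⟨t o, ⟨o, ho, rfl⟩⟩, ?_⟩, inferInstance, ?_⟩
  · show pullback.fst h.fromNormalization v (t o) = _
    rw [← Scheme.Hom.comp_apply, pullback.lift_fst, Scheme.Hom.comp_apply]
  -- descent of the isomorphism
  let PU := pullback.snd f h.fromNormalization ⁻¹ᵁ U'
  let PG := pullback (pullback.snd f h.fromNormalization) φG
  let eG : PG ≅ pullback f v :=
    pullbackLeftPullbackSndIso f h.fromNormalization φG ≪≫ pullback.congrHom rfl hpi ≪≫
      (pullbackLeftPullbackSndIso f v πG).symm ≪≫ asIso (pullback.fst (pullback.snd f v) πG)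
  let ρ : PG ⟶ PU := IsOpenImmersion.lift PU.ι (pullback.fst _ φG) (by
    rw [Scheme.Opens.range_ι]
    rintro _ ⟨z, rfl⟩
    show (pullback.fst _ φG ≫ pullback.snd f h.fromNormalization) z ∈ U'
    rw [pullback.condition]
    exact ⟨_, (Scheme.Hom.comp_apply _ _ _).symm⟩)
  have hρ : ρ ≫ PU.ι = pullback.fst _ φG := IsOpenImmersion.lift_fac _ _ _
  have sqρ : IsPullback ρ (pullback.snd _ φG) ((pullback.snd f h.fromNormalization) ∣_ U') u := by
    refine IsPullback.of_right (h₁₂ := PU.ι) (h₂₂ := U'.ι) ?_ ?_ (isPullback_morphismRestrict _ U').flip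
    · rw [hρ, hu]
      exact IsPullback.of_hasPullback _ φG
    · rw [← cancel_mono U'.ι, Category.assoc, Category.assoc, morphismRestrict_ι, hu, ← Category.assoc, hρ,
        pullback.condition]
  haveI : Surjective ρ := MorphismProperty.of_isPullback sqρ.flip ‹_›
  haveI : Etale ρ := MorphismProperty.of_isPullback sqρ.flip ‹_›
  -- the pieces
  let cG : (t ⁻¹ᵁ G : Scheme.{u}) ⟶ PG := pullback.lift ((t ⁻¹ᵁ G).ι ≫ pullback.fst h v ≫ c) (t ∣_ G) (by
    simp only [Category.assoc, φG, morphismRestrict_ι_assoc]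
    exact congrArg ((t ⁻¹ᵁ G).ι ≫ ·) ((congrArg (pullback.fst h v ≫ ·) hc2).trans sqt.w))
  have hcG : cG ≫ eG.hom = E := by
    refine pullback.hom_ext ?_ ?_
    · simp only [eG, E, cG, Iso.trans_hom, asIso_hom, Iso.symm_hom, Category.assoc]
      simp [bcOver, pullback.congrHom]
      exact congrArg (fun k => (t ⁻¹ᵁ G).ι ≫ pullback.fst h v ≫ k) hc1
    · have h0 : pullback.fst (pullback.snd f v) πG ≫ pullback.snd f v = pullback.snd (pullback.snd f v) πG ≫ πG :=
        pullback.condition
      simp only [eG, E, cG, Iso.trans_hom, asIso_hom, Iso.symm_hom, Category.assoc, h0]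
      simp [bcOver, pullback.congrHom, hE]
      simp only [E, Category.assoc, bcOver, pullback.lift_snd]
  haveI : IsIso cG := by
    haveI : IsIso (cG ≫ eG.hom) := by rw [hcG]; infer_instance
    exact IsIso.of_isIso_comp_right cG eG.hom
  have sq1 : IsPullback ((t ⁻¹ᵁ G).ι ≫ pullback.fst h v) (cG ≫ pullback.snd _ φG) h.toNormalization φG := by
    rw [pullback.lift_snd]
    exact (isPullback_morphismRestrict t G).flip.paste_horiz sqt
  have sq2 : IsPullback ((t ⁻¹ᵁ G).ι ≫ pullback.fst h v) cG c (pullback.fst _ φG) := by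
    refine IsPullback.of_bot ?_ ?_ (IsPullback.of_hasPullback (pullback.snd f h.fromNormalization) φG)
    · rw [hc2]; exact sq1
    · rw [pullback.lift_fst, Category.assoc]
  let ω : (t ⁻¹ᵁ G : Scheme.{u}) ⟶ c ⁻¹ᵁ PU :=
    IsOpenImmersion.lift (c ⁻¹ᵁ PU).ι ((t ⁻¹ᵁ G).ι ≫ pullback.fst h v) (by
      rw [Scheme.Opens.range_ι]
      rintro _ ⟨z, rfl⟩
      show (((t ⁻¹ᵁ G).ι ≫ pullback.fst h v) ≫ c) z ∈ PU
      rw [sq2.w, Scheme.Hom.comp_apply, ← hρ, Scheme.Hom.comp_apply]
      exact (ρ (cG z)).2)
  have sq3 : IsPullback ω cG (c ∣_ PU) ρ := by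
    refine IsPullback.of_right (h₁₂ := (c ⁻¹ᵁ PU).ι) (h₂₂ := PU.ι) ?_ ?_ (isPullback_morphismRestrict c PU).flip
    · rw [IsOpenImmersion.lift_fac, hρ]
      exact sq2
    · rw [← cancel_mono PU.ι, Category.assoc, Category.assoc, morphismRestrict_ι, hρ, ← Category.assoc,
        IsOpenImmersion.lift_fac, sq2.w]
  exact MorphismProperty.of_isPullback_of_descendsAlong (P := MorphismProperty.isomorphisms Scheme.{u})
    (Q := @Surjective ⊓ @Flat ⊓ @LocallyOfFinitePresentation) sq3.flip
    ⟨⟨inferInstance, inferInstance⟩, inferInstance⟩ (inferInstanceAs (IsIso cG))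

end Groth.Agent.H9PiOne

end
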