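import Groth.Agent.H9PiOne.SteinLocal
import Groth.Agent.S1297
import Groth.Prelude.Def_Pi1X

/-!
# An étale neighbourhood in the Stein factorisation trivialises the fibre
-/

set_option autoImplicit false
set_option linter.style.haveILetI false
set_option linter.unusedSectionVars false
set_option backward.isDefEq.respectTransparency false
set_option backward.isDefEq.respectTransparency.types false

universe u

open CategoryTheory CategoryTheory.Limits AlgebraicGeometry TopologicalSpace Pi1

noncomputable section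

namespace Groth.Agent.H9PiOne

open Groth.Agent

attribute [-instance] CategoryTheory.catToReflQuiver

/-- Covers with splittings are split. -/
theorem isSplit_of_hasSplitting {P : Scheme.{u}} {V : FEt.Cat P} (h : HasSplitting V) : Pi1.IsSplit V := by
  obtain ⟨ι, hι, ⟨e⟩⟩ := h.exists_iso
  refine ⟨ι, hι, (Pi1Ext.Spread.leftIso e).symm, fun i => ?_⟩
  rw [Iso.symm_inv, Pi1Ext.Spread.leftIso_w e]
  exact Sigma.ι_desc (fun _ : ι => 𝟙 P) i

/-- Locally quasi-finite schemes over a one point scheme are discrete. -/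
theorem discreteTopology_of_point {T P : Scheme.{u}} [Subsingleton P] (q : T ⟶ P) [LocallyQuasiFinite q] :
    DiscreteTopology T := by
  refine discreteTopology_iff_isOpen_singleton.2 fun t => ?_
  have h := q.isDiscrete_preimage_singleton (q t)
  rw [show q ⁻¹' {q t} = Set.univ from Set.eq_univ_of_forall fun x => Subsingleton.elim (q x) (q t)] at h
  haveI := isDiscrete_univ_iff.1 h
  exact isOpen_discrete _

variable {X X' S : Scheme.{u}} (f : X ⟶ S) [IsProper f] (g : X' ⟶ X) [IsProper g]
  (c : X' ⟶ pullback f (g ≫ f).fromNormalization)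
  (hc1 : c ≫ pullback.fst f (g ≫ f).fromNormalization = g)
  (hc2 : c ≫ pullback.snd f (g ≫ f).fromNormalization = (g ≫ f).toNormalization)

include hc1 hc2

/-- Over a part of the Stein factorisation étale over the base where the comparison is an isomorphism the map to
`X` is étale. -/
theorem preimage_le_etaleLocus (U' : ((g ≫ f).normalization).Opens) [Etale (U'.ι ≫ (g ≫ f).fromNormalization)]
    [IsIso (c ∣_ ((pullback.snd f (g ≫ f).fromNormalization) ⁻¹ᵁ U'))] :
    Etale ((c ⁻¹ᵁ (pullback.snd f (g ≫ f).fromNormalization) ⁻¹ᵁ U').ι ≫ g) := by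
  let PU := (pullback.snd f (g ≫ f).fromNormalization) ⁻¹ᵁ U'
  have sq := (isPullback_morphismRestrict (pullback.snd f (g ≫ f).fromNormalization) U').paste_vert
    (IsPullback.of_hasPullback f (g ≫ f).fromNormalization).flip
  haveI : Etale (PU.ι ≫ pullback.fst f (g ≫ f).fromNormalization) := MorphismProperty.of_isPullback sq ‹_›
  have e : (c ⁻¹ᵁ PU).ι ≫ g = (c ∣_ PU) ≫ PU.ι ≫ pullback.fst f (g ≫ f).fromNormalization := by
    rw [← Category.assoc, morphismRestrict_ι, Category.assoc, hc1]
  rw [e]
  infer_instance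

variable [IsLocallyNoetherian S] (s : S) (s' : ↥((g ≫ f).normalization))
  (C : (pullback (g ≫ f) (S.fromSpecResidueField s)).Opens)
  (hC : ∀ x : ↥(pullback (g ≫ f) (S.fromSpecResidueField s)),
    x ∈ C ↔ (g ≫ f).toNormalization (pullback.fst (g ≫ f) (S.fromSpecResidueField s) x) = s')

include hC

/-- The part of the fibre over a point of the Stein factorisation is closed. -/
theorem isClosed_fibrePart : IsClosed (C : Set ↥(pullback (g ≫ f) (S.fromSpecResidueField s))) := by
  let h := g ≫ f
  haveI : IsProper h := inferInstanceAs (IsProper (g ≫ f))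
  haveI : IsFinite h.fromNormalization := Groth.Agent.S1297.result h
  let T := pullback h.fromNormalization (S.fromSpecResidueField s)
  haveI : IsFinite (pullback.snd h.fromNormalization (S.fromSpecResidueField s)) :=
    MorphismProperty.pullback_snd (P := @IsFinite) _ _ ‹_›
  haveI : DiscreteTopology T := discreteTopology_of_point (pullback.snd h.fromNormalization (S.fromSpecResidueField s))
  let r : pullback h (S.fromSpecResidueField s) ⟶ T :=
    pullback.lift (pullback.fst h _ ≫ h.toNormalization) (pullback.snd h _)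
      (by rw [Category.assoc, Scheme.Hom.toNormalization_fromNormalization]; exact pullback.condition)
  have : (C : Set ↥(pullback h (S.fromSpecResidueField s))) =
      r ⁻¹' (pullback.fst h.fromNormalization (S.fromSpecResidueField s) ⁻¹' {s'}) := by
    ext x
    show x ∈ C ↔ pullback.fst h.fromNormalization (S.fromSpecResidueField s) (r x) = s'
    rw [hC x, ← Scheme.Hom.comp_apply, ← Scheme.Hom.comp_apply, pullback.lift_fst]
  rw [this]
  exact (isClosed_discrete _).preimage r.continuous

/-- The part of the fibre over such a point is finite étale over the fibre of `X`. -/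
theorem fet_fibrePart (U' : ((g ≫ f).normalization).Opens) (hs'U : s' ∈ U') [Etale (U'.ι ≫ (g ≫ f).fromNormalization)]
    [IsIso (c ∣_ ((pullback.snd f (g ≫ f).fromNormalization) ⁻¹ᵁ U'))] :
    FEt.prop (C.ι ≫ bcOver f g (S.fromSpecResidueField s)) := by
  let ιs := S.fromSpecResidueField s
  let W := c ⁻¹ᵁ (pullback.snd f (g ≫ f).fromNormalization) ⁻¹ᵁ U'
  haveI := preimage_le_etaleLocus f g c hc1 hc2 U'
  have sqg : IsPullback (pullback.fst (g ≫ f) ιs) (bcOver f g ιs) g (pullback.fst f ιs) := by
    refine IsPullback.of_bot ?_ (pullback.lift_fst _ _ _).symm (IsPullback.of_hasPullback f ιs)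
    rw [bcOver, pullback.lift_snd]
    exact IsPullback.of_hasPullback (g ≫ f) ιs
  haveI : Etale ((pullback.fst (g ≫ f) ιs ⁻¹ᵁ W).ι ≫ bcOver f g ιs) :=
    MorphismProperty.of_isPullback ((isPullback_morphismRestrict (pullback.fst (g ≫ f) ιs) W).paste_vert sqg) ‹_›
  have hCW : C ≤ pullback.fst (g ≫ f) ιs ⁻¹ᵁ W := fun x hx => by
    show (c ≫ pullback.snd f (g ≫ f).fromNormalization) (pullback.fst (g ≫ f) ιs x) ∈ U'
    rw [hc2, (hC x).1 hx]
    exact hs'U
  haveI : Etale (C.ι ≫ bcOver f g ιs) := by
    rw [← Scheme.homOfLE_ι _ hCW, Category.assoc]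
    infer_instance
  haveI : IsClosedImmersion C.ι := IsClosedImmersion.of_isPreimmersion _ (by
    rw [Scheme.Opens.range_ι]; exact isClosed_fibrePart f g c hc1 hc2 s s' C hC)
  haveI : IsProper (bcOver f g ιs) := MorphismProperty.of_isPullback sqg ‹_›
  haveI : IsProper (C.ι ≫ bcOver f g ιs) := inferInstance
  exact ⟨(IsFinite.iff_isProper_and_locallyQuasiFinite _).2 ⟨inferInstance, inferInstance⟩, inferInstance⟩

set_option maxHeartbeats 1000000 in
/-- The part of the fibre over such a point is split over an algebraic closure. -/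
theorem hasSplitting_fibrePart (U' : ((g ≫ f).normalization).Opens) (hs'U : s' ∈ U')
    [Etale (U'.ι ≫ (g ≫ f).fromNormalization)]
    [IsIso (c ∣_ ((pullback.snd f (g ≫ f).fromNormalization) ⁻¹ᵁ U'))] {K : Type u} [Field K] [IsSepClosed K]
    (k : Spec (CommRingCat.of K) ⟶ Spec (S.residueField s))
    (hCf : FEt.prop (C.ι ≫ bcOver f g (S.fromSpecResidueField s))) :
    HasSplitting ((FEt.restrict (pullback.fst (pullback.snd f (S.fromSpecResidueField s)) k)).obj
      (MorphismProperty.Over.mk ⊤ (C.ι ≫ bcOver f g (S.fromSpecResidueField s)) hCf)) := by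
  let h := g ≫ f
  haveI : IsProper h := inferInstanceAs (IsProper (g ≫ f))
  haveI : IsFinite h.fromNormalization := Groth.Agent.S1297.result h
  let ιs := S.fromSpecResidueField s
  let y := pullback.snd f ιs
  let XK := pullback y k
  let φC : (C : Scheme.{u}) ⟶ pullback f ιs := C.ι ≫ bcOver f g ιs
  let ξ : Spec (CommRingCat.of K) ⟶ S := k ≫ ιs
  let TK := pullback h.fromNormalization ξ
  haveI : IsFinite (pullback.snd h.fromNormalization ξ) := MorphismProperty.pullback_snd (P := @IsFinite) _ _ ‹_›
  haveI : Subsingleton ↥(Spec (CommRingCat.of K)) := inferInstanceAs (Subsingleton (PrimeSpectrum K))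
  haveI : DiscreteTopology TK := discreteTopology_of_point (pullback.snd h.fromNormalization ξ)
  let T0 : TK.Opens := ⟨pullback.fst h.fromNormalization ξ ⁻¹' {s'}, isOpen_discrete _⟩
  haveI : IsClosedImmersion T0.ι := IsClosedImmersion.of_isPreimmersion _ (isClosed_discrete _)
  let d : (T0 : Scheme.{u}) ⟶ Spec (CommRingCat.of K) := T0.ι ≫ pullback.snd h.fromNormalization ξ
  let aU : (T0 : Scheme.{u}) ⟶ U' := IsOpenImmersion.lift U'.ι (T0.ι ≫ pullback.fst h.fromNormalization ξ) (by
    rw [Scheme.Opens.range_ι]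
    rintro _ ⟨z, rfl⟩
    rw [Scheme.Hom.comp_apply]
    exact (show pullback.fst h.fromNormalization ξ z.1 = s' from z.2) ▸ hs'U)
  have haU : aU ≫ U'.ι = T0.ι ≫ pullback.fst h.fromNormalization ξ := IsOpenImmersion.lift_fac _ _ _
  haveI : IsFinite d := inferInstanceAs (IsFinite (T0.ι ≫ _))
  haveI : Etale d := by
    -- the part over `U'` is étale
    have hle : T0 ≤ pullback.fst h.fromNormalization ξ ⁻¹ᵁ U' := fun z hz => by
      show pullback.fst h.fromNormalization ξ z ∈ U'
      rw [show pullback.fst h.fromNormalization ξ z = s' from hz]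
      exact hs'U
    have sq := (isPullback_morphismRestrict (pullback.fst h.fromNormalization ξ) U').paste_vert
      (IsPullback.of_hasPullback h.fromNormalization ξ)
    haveI : Etale ((pullback.fst h.fromNormalization ξ ⁻¹ᵁ U').ι ≫ pullback.snd h.fromNormalization ξ) :=
      MorphismProperty.of_isPullback sq ‹_›
    show Etale (T0.ι ≫ pullback.snd h.fromNormalization ξ)
    rw [← Scheme.homOfLE_ι _ hle, Category.assoc]
    infer_instance
  let D : FEt.Cat (Spec (CommRingCat.of K)) := MorphismProperty.Over.mk ⊤ d ⟨inferInstance, inferInstance⟩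
  refine ((hasSplitting_spec_sepClosed D).restrict (pullback.snd y k)).of_iso ?_
  let PU := (pullback.snd f h.fromNormalization) ⁻¹ᵁ U'
  -- the cover maps to the points
  let Z := pullback φC (pullback.fst y k)
  let zC : Z ⟶ C := pullback.fst φC (pullback.fst y k)
  let zX : Z ⟶ X' := zC ≫ C.ι ≫ pullback.fst h ιs
  let zT : Z ⟶ TK := pullback.lift (zX ≫ h.toNormalization) (pullback.snd φC (pullback.fst y k) ≫ pullback.snd y k) (by
    have h1 : φC ≫ y = C.ι ≫ pullback.snd h ιs := by
      simp only [φC, y, Category.assoc, bcOver, pullback.lift_snd]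
      rfl
    simp only [zX, ξ, Category.assoc, Scheme.Hom.toNormalization_fromNormalization]
    rw [← pullback.condition_assoc (f := y), ← pullback.condition_assoc (f := φC), reassoc_of% h1,
      pullback.condition (f := h)])
  let z0 : Z ⟶ T0 := IsOpenImmersion.lift T0.ι zT (by
    rw [Scheme.Opens.range_ι]
    rintro _ ⟨z, rfl⟩
    show pullback.fst h.fromNormalization ξ (zT z) = s'
    rw [← Scheme.Hom.comp_apply, pullback.lift_fst]
    simp only [zX, Scheme.Hom.comp_apply]
    exact (hC _).1 (zC z).2)
  have hz0 : z0 ≫ T0.ι = zT := IsOpenImmersion.lift_fac _ _ _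
  let M : Z ⟶ pullback d (pullback.snd y k) := pullback.lift z0 (pullback.snd φC (pullback.fst y k)) (by
    simp only [d, reassoc_of% hz0, zT, pullback.lift_snd])
  -- the inverse
  let Pd := pullback d (pullback.snd y k)
  let wP : Pd ⟶ pullback f h.fromNormalization :=
    pullback.lift (pullback.snd d _ ≫ pullback.fst y k ≫ pullback.fst f ιs)
      (pullback.fst d _ ≫ T0.ι ≫ pullback.fst h.fromNormalization ξ) (by
        simp only [Category.assoc, pullback.condition, ξ]
        show pullback.snd d (pullback.snd y k) ≫ pullback.fst y k ≫ y ≫ ιs = _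
        rw [pullback.condition_assoc (f := y), ← reassoc_of% (pullback.condition (f := d) (g := pullback.snd y k))]
        simp only [d, Category.assoc]; rfl)
  let wU : Pd ⟶ PU := IsOpenImmersion.lift PU.ι wP (by
    rw [Scheme.Opens.range_ι]
    rintro _ ⟨z, rfl⟩
    show (wP ≫ pullback.snd f h.fromNormalization) z ∈ U'
    rw [pullback.lift_snd, ← haU, Scheme.Hom.comp_apply, Scheme.Hom.comp_apply]
    exact (aU (pullback.fst d _ z)).2)
  have hwU : wU ≫ PU.ι = wP := IsOpenImmersion.lift_fac _ _ _
  let wX : Pd ⟶ X' := wU ≫ inv (c ∣_ PU) ≫ (c ⁻¹ᵁ PU).ι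
  have hwc : wX ≫ c = wP := by
    simp only [wX, Category.assoc]
    rw [← morphismRestrict_ι, IsIso.inv_hom_id_assoc, hwU]
  have hwg : wX ≫ g = pullback.snd d _ ≫ pullback.fst y k ≫ pullback.fst f ιs := by
    rw [← hc1, ← Category.assoc, hwc, pullback.lift_fst]
  have hwt : wX ≫ h.toNormalization = pullback.fst d _ ≫ T0.ι ≫ pullback.fst h.fromNormalization ξ := by
    show wX ≫ (g ≫ f).toNormalization = _
    rw [← hc2, ← Category.assoc, hwc, pullback.lift_snd]
  let wF : Pd ⟶ pullback h ιs := pullback.lift wX (pullback.snd d _ ≫ pullback.fst y k ≫ y) (by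
    show wX ≫ g ≫ f = _
    rw [reassoc_of% hwg, pullback.condition]
    simp [y])
  let wC : Pd ⟶ C := IsOpenImmersion.lift C.ι wF (by
    rw [Scheme.Opens.range_ι]
    rintro _ ⟨z, rfl⟩
    refine (hC _).2 ?_
    show (wF ≫ pullback.fst h ιs ≫ h.toNormalization) z = s'
    rw [pullback.lift_fst_assoc, hwt, Scheme.Hom.comp_apply, Scheme.Hom.comp_apply]
    exact (pullback.fst d _ z).2)
  have hwC : wC ≫ C.ι = wF := IsOpenImmersion.lift_fac _ _ _
  let N : Pd ⟶ Z := pullback.lift wC (pullback.snd d _) (by
    refine pullback.hom_ext ?_ ?_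
    · simp only [φC, Category.assoc, bcOver, pullback.lift_fst]
      rw [reassoc_of% hwC, pullback.lift_fst_assoc, hwg]
    · simp only [φC, Category.assoc, bcOver, pullback.lift_snd]
      rw [reassoc_of% hwC, pullback.lift_snd])
  have hMN : N ≫ M = 𝟙 _ := by
    refine pullback.hom_ext ?_ ?_
    · rw [← cancel_mono T0.ι, Category.assoc, Category.assoc, pullback.lift_fst_assoc, hz0, Category.id_comp]
      refine pullback.hom_ext ?_ ?_
      · rw [Category.assoc, Category.assoc, pullback.lift_fst]
        simp only [zX, zC, N, pullback.lift_fst_assoc, Category.assoc]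
        rw [reassoc_of% hwC, pullback.lift_fst_assoc, hwt]
      · rw [Category.assoc, Category.assoc, pullback.lift_snd]
        simp only [N, pullback.lift_snd_assoc]
        exact pullback.condition.symm
    · rw [Category.assoc, pullback.lift_snd, pullback.lift_snd, Category.id_comp]
  have hNM : M ≫ N = 𝟙 _ := by
    refine pullback.hom_ext ?_ ?_
    · rw [← cancel_mono C.ι, Category.assoc, Category.assoc, pullback.lift_fst_assoc, hwC, Category.id_comp]
      refine pullback.hom_ext ?_ ?_
      · rw [Category.assoc, pullback.lift_fst]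
        have hr : ∀ z, zX z ∈ c ⁻¹ᵁ PU := fun z => by
          show (c ≫ pullback.snd f (g ≫ f).fromNormalization) (zX z) ∈ U'
          rw [hc2]
          simp only [zX, Scheme.Hom.comp_apply]
          rw [show (g ≫ f).toNormalization (pullback.fst h ιs (C.ι (zC z))) = s' from (hC _).1 (zC z).2]
          exact hs'U
        let zW : Z ⟶ c ⁻¹ᵁ PU := IsOpenImmersion.lift (c ⁻¹ᵁ PU).ι zX (by
          rw [Scheme.Opens.range_ι]
          rintro _ ⟨z, rfl⟩
          exact hr z)
        have hzW : zW ≫ (c ⁻¹ᵁ PU).ι = zX := IsOpenImmersion.lift_fac _ _ _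
        have h1 : M ≫ wU = zW ≫ (c ∣_ PU) := by
          rw [← cancel_mono PU.ι, Category.assoc, hwU, Category.assoc, morphismRestrict_ι, reassoc_of% hzW]
          refine pullback.hom_ext ?_ ?_
          · rw [Category.assoc, Category.assoc, pullback.lift_fst]
            show _ = zX ≫ c ≫ pullback.fst f (g ≫ f).fromNormalization
            rw [hc1, pullback.lift_snd_assoc]
            simp only [zX, zC, Category.assoc]
            rw [← reassoc_of% (pullback.condition (f := φC) (g := pullback.fst y k))]
            simp [φC, bcOver]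
            rfl
          · rw [Category.assoc, Category.assoc, pullback.lift_snd]
            show _ = zX ≫ c ≫ pullback.snd f (g ≫ f).fromNormalization
            rw [hc2, pullback.lift_fst_assoc, reassoc_of% hz0, pullback.lift_fst]
        show M ≫ wU ≫ inv (c ∣_ PU) ≫ (c ⁻¹ᵁ PU).ι = zC ≫ C.ι ≫ pullback.fst h ιs
        rw [reassoc_of% h1, IsIso.hom_inv_id_assoc, hzW]
      · rw [Category.assoc, pullback.lift_snd, pullback.lift_snd_assoc]
        rw [← reassoc_of% (pullback.condition (f := φC) (g := pullback.fst y k))]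
        simp [φC, bcOver, y]
        rfl
    · rw [Category.assoc, pullback.lift_snd, pullback.lift_snd, Category.id_comp]
  exact MorphismProperty.Over.isoMk ⟨N, M, hMN, hNM⟩ (pullback.lift_snd _ _ _)

end Groth.Agent.H9PiOne

end

noncomputable section

namespace Groth.Agent.H9PiOne

open CategoryTheory CategoryTheory.Limits AlgebraicGeometry TopologicalSpace

/-- The restriction to the étale locus is étale. -/
theorem etale_etaleLocus {X Y : Scheme.{u}} (g : X ⟶ Y) : Etale ((Pi1X.etaleLocus g).ι ≫ g) := by
  let W := Pi1X.etaleLocus g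
  refine (IsZariskiLocalAtSource.iff_of_iSup_eq_top (P := @Etale)
    (fun V : {V : X.Opens // Etale (V.ι ≫ g)} => W.ι ⁻¹ᵁ V.1) ?_).2 fun V => ?_
  · refine top_le_iff.1 fun x _ => ?_
    obtain ⟨V, hV, hx⟩ := Opens.mem_sSup.1 x.2
    exact Opens.mem_iSup.2 ⟨⟨V, hV⟩, hx⟩
  · haveI := V.2
    let l : (W.ι ⁻¹ᵁ V.1 : Scheme.{u}) ⟶ V.1 := IsOpenImmersion.lift V.1.ι ((W.ι ⁻¹ᵁ V.1).ι ≫ W.ι) (by
      rw [Scheme.Opens.range_ι]
      rintro _ ⟨z, rfl⟩
      exact z.2)
    have hl : l ≫ V.1.ι = (W.ι ⁻¹ᵁ V.1).ι ≫ W.ι := IsOpenImmersion.lift_fac _ _ _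
    haveI : IsOpenImmersion (l ≫ V.1.ι) := by rw [hl]; infer_instance
    haveI : IsOpenImmersion l := IsOpenImmersion.of_comp l V.1.ι
    show Etale ((W.ι ⁻¹ᵁ V.1).ι ≫ W.ι ≫ g)
    rw [← reassoc_of% hl]
    infer_instance

end Groth.Agent.H9PiOne

end
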