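import Groth.Agent.H9PiOne.SectionNbhd
import Groth.Agent.H9PiOne.SplitDescend
import Groth.Agent.SrcDescent.Scheme
import Groth.Agent.S1297

/-!
# Where the Stein factorisation of a cover is étale over the base and trivialises the cover
-/

set_option autoImplicit false
set_option linter.style.haveILetI false
set_option linter.unusedSectionVars false
set_option backward.isDefEq.respectTransparency false
set_option backward.isDefEq.respectTransparency.types false

universe u

open CategoryTheory CategoryTheory.Limits AlgebraicGeometry TopologicalSpace Pi1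

noncomputable section

namespace Groth.Agent.H9PiOne

open Groth.Agent

attribute [-instance] CategoryTheory.catToReflQuiver

/-- A splitting over an algebraic closure gives one over any separably closed extension of the field. -/
theorem hasSplitting_of_algClosed_point {k : Type u} [Field k] {Y : Scheme.{u}} (y : Y ⟶ Spec (CommRingCat.of k))
    [IsProper y] [GeometricallyConnected y] (V : FEt.Cat Y)
    (h : HasSplitting ((FEt.restrict (bcA.fst y (AlgebraicClosure k))).obj V))
    (L : Type u) [Field L] [IsSepClosed L] [Algebra k L] :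
    HasSplitting ((FEt.restrict (bcA.fst y L)).obj V) := by
  let K := AlgebraicClosure L
  letI : Algebra k K := ((algebraMap L K).comp (algebraMap k L)).toAlgebra
  let ψ : AlgebraicClosure k →ₐ[k] K := IsAlgClosed.lift
  let yL : bcA y L ⟶ Spec (CommRingCat.of L) := bcA.snd y L
  haveI : IsProper yL := MorphismProperty.pullback_snd (P := @IsProper) _ _ ‹_›
  let jK := Spec.map (CommRingCat.ofHom (algebraMap L K))
  haveI : Surjective jK := ⟨fun z => ⟨IsLocalRing.closedPoint K,
    @Subsingleton.elim _ (inferInstanceAs (Subsingleton (PrimeSpectrum L))) _ _⟩⟩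
  haveI : Surjective (bcA.fst yL K) := MorphismProperty.pullback_fst (P := @Surjective) _ _ ‹_›
  haveI : GeometricallyConnected (bcA.snd yL K) := inferInstance
  haveI : Nonempty ↥(bcA yL K) := ⟨((bcA.snd yL K).surjective (IsLocalRing.closedPoint K)).choose⟩
  refine hasSplitting_of_restrict (bcA.fst yL K) (restrict_sepClosed_full_faithful L K yL).1 ?_
  let π : bcA yL K ⟶ bcA y (AlgebraicClosure k) :=
    pullback.lift (bcA.fst yL K ≫ bcA.fst y L) (bcA.snd yL K ≫ Spec.map (CommRingCat.ofHom ψ.toRingHom)) (by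
      rw [Category.assoc, pullback.condition, ← Category.assoc, pullback.condition, Category.assoc, Category.assoc,
        ← Spec.map_comp, ← Spec.map_comp, ← CommRingCat.ofHom_comp, ← CommRingCat.ofHom_comp]
      erw [ψ.comp_algebraMap]
      rfl)
  exact (h.restrict π).of_iso
    ((Pi1Ext.Spread.restrictComp π _ _ (pullback.lift_fst _ _ _).symm V).symm ≪≫
      Pi1Ext.Spread.restrictComp _ _ _ rfl V)

variable {X X' S : Scheme.{u}} (f : X ⟶ S) [IsProper f] (g : X' ⟶ X) [IsProper g]

/-- The base change of a morphism over the base. -/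
def bcOver {V : Scheme.{u}} (v : V ⟶ S) : pullback (g ≫ f) v ⟶ pullback f v :=
  pullback.lift (pullback.fst (g ≫ f) v ≫ g) (pullback.snd (g ≫ f) v) (by rw [Category.assoc]; exact pullback.condition)

set_option maxHeartbeats 3000000 in
/-- A split part of a fibre inside the étale locus gives an étale neighbourhood with a clopen copy of `X`. -/
theorem exists_nbhd_copy [GeometricallyConnected f] (W : X'.Opens) [Etale (W.ι ≫ g)] (s : S)
    (C : (pullback (g ≫ f) (S.fromSpecResidueField s)).Opens) [Nonempty C]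
    (hCW : ∀ c : C, pullback.fst (g ≫ f) (S.fromSpecResidueField s) c.1 ∈ W)
    (hCf : FEt.prop (C.ι ≫ bcOver f g (S.fromSpecResidueField s)))
    (hsplit : HasSplitting ((FEt.restrict (pullback.fst (pullback.snd f (S.fromSpecResidueField s))
      (Spec.map (CommRingCat.ofHom (algebraMap (S.residueField s) (AlgebraicClosure (S.residueField s))))))).obj
        (MorphismProperty.Over.mk ⊤ (C.ι ≫ bcOver f g (S.fromSpecResidueField s)) hCf))) :
    ∃ (V : Scheme.{u}) (v : V ⟶ S) (_ : IsAffine V) (_ : Etale v) (O : (pullback (g ≫ f) v).Opens),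
      IsClosed (O : Set ↥(pullback (g ≫ f) v)) ∧ O ≤ pullback.fst (g ≫ f) v ⁻¹ᵁ W ∧ IsIso (O.ι ≫ bcOver f g v) ∧
      ∃ o ∈ O, ∃ c : C, pullback.fst (g ≫ f) v o = pullback.fst (g ≫ f) (S.fromSpecResidueField s) c.1 := by
  classical
  obtain ⟨U, hU, hsU, -⟩ := exists_isAffineOpen_mem_and_subset (x := s) (U := (⊤ : S.Opens)) trivial
  let j : Spec (CommRingCat.of Γ(S, U)) ⟶ S := hU.fromSpec
  obtain ⟨p, hp⟩ : s ∈ Set.range j := by rw [show Set.range j = (U : Set S) from hU.range_fromSpec]; exact hsU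
  let κ := p.asIdeal.ResidueField
  let L := SeparableClosure κ
  letI : Algebra Γ(S, U) L := ((algebraMap κ L).comp (algebraMap Γ(S, U) κ)).toAlgebra
  haveI : IsScalarTower Γ(S, U) κ L := IsScalarTower.of_algebraMap_eq fun _ => rfl
  let jL : Spec (CommRingCat.of L) ⟶ Spec (CommRingCat.of Γ(S, U)) :=
    Spec.map (CommRingCat.ofHom (algebraMap Γ(S, U) L))
  have hpt : (jL ≫ j) (IsLocalRing.closedPoint L) = s := by
    rw [Scheme.Hom.comp_apply, ← hp]
    congr 1
    refine PrimeSpectrum.ext ?_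
    show (IsLocalRing.maximalIdeal L).comap ((algebraMap κ L).comp (algebraMap Γ(S, U) κ)) = p.asIdeal
    rw [IsLocalRing.maximalIdeal_eq_bot, ← RingHom.ker_eq_comap_bot,
      RingHom.ker_comp_of_injective _ (algebraMap κ L).injective, Ideal.ker_algebraMap_residueField]
  obtain ⟨φ₀, hφ₀⟩ : ∃ φ₀ : S.residueField s ⟶ CommRingCat.of L,
      Spec.map φ₀ ≫ S.fromSpecResidueField s = jL ≫ j := by
    subst hpt
    exact ⟨_, Scheme.descResidueField_stalkClosedPointTo_fromSpecResidueField L S (jL ≫ j)⟩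
  letI : Algebra (IsLocalRing.ResidueField ↑(S.presheaf.stalk s)) L := φ₀.hom.toAlgebra
  letI : Algebra ↑(S.residueField s) L := φ₀.hom.toAlgebra
  -- the pieces over `L`
  let y := pullback.snd f (S.fromSpecResidueField s)
  haveI : IsProper y := MorphismProperty.pullback_snd (P := @IsProper) _ _ ‹_›
  obtain ⟨ι, -, τ, hτ, -, hcov⟩ := hasSplitting_of_algClosed_point y _ hsplit L
  have hy : Spec.map (CommRingCat.ofHom (algebraMap (S.residueField s) L)) ≫ S.fromSpecResidueField s = jL ≫ j := hφ₀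
  let f₁ : pullback f j ⟶ Spec (CommRingCat.of Γ(S, U)) := pullback.snd f j
  let g₁ : pullback g (pullback.fst f j) ⟶ pullback f j := pullback.snd g (pullback.fst f j)
  haveI : IsProper f₁ := MorphismProperty.pullback_snd (P := @IsProper) _ _ ‹_›
  haveI : IsProper g₁ := MorphismProperty.pullback_snd (P := @IsProper) _ _ ‹_›
  let a : pullback g (pullback.fst f j) ⟶ X' := pullback.fst g (pullback.fst f j)
  let W₁ := a ⁻¹ᵁ W
  haveI : Etale (W₁.ι ≫ g₁) := MorphismProperty.of_isPullback
    ((isPullback_morphismRestrict a W).paste_vert (IsPullback.of_hasPullback g (pullback.fst f j))) ‹_›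
  -- the pieces nonempty
  haveI : Nonempty ι := by
    obtain ⟨c⟩ := ‹Nonempty C›
    have hsurj : Surjective (Spec.map (CommRingCat.ofHom (algebraMap (S.residueField s) L))) :=
      ⟨fun z => ⟨IsLocalRing.closedPoint L, Subsingleton.elim _ _⟩⟩
    haveI : Surjective (bcA.fst y L) := MorphismProperty.pullback_fst (P := @Surjective) _ _ hsurj
    obtain ⟨z, -⟩ := (pullback.fst (C.ι ≫ bcOver f g (S.fromSpecResidueField s)) (bcA.fst y L)).surjective c
    obtain ⟨i, -⟩ := hcov z
    exact ⟨i⟩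
  let i := Classical.arbitrary ι
  let E : bcA f₁ L ⟶ bcA y L :=
    pullback.lift (pullback.lift (bcA.fst f₁ L ≫ pullback.fst f j)
        (bcA.snd f₁ L ≫ Spec.map (CommRingCat.ofHom (algebraMap (S.residueField s) L))) (by
          rw [Category.assoc, Category.assoc, hy, pullback.condition, ← Category.assoc, pullback.condition,
            Category.assoc]))
      (bcA.snd f₁ L) (pullback.lift_snd _ _ _)
  let σC : bcA f₁ L ⟶ X' :=
    E ≫ τ i ≫ pullback.fst (C.ι ≫ bcOver f g (S.fromSpecResidueField s)) (bcA.fst y L) ≫ C.ι ≫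
      pullback.fst (g ≫ f) (S.fromSpecResidueField s)
  have hσC : σC ≫ g = bcA.fst f₁ L ≫ pullback.fst f j := by
    have h1 : τ i ≫ pullback.fst (C.ι ≫ bcOver f g (S.fromSpecResidueField s)) (bcA.fst y L) ≫
        C.ι ≫ bcOver f g (S.fromSpecResidueField s) = bcA.fst y L := by
      rw [pullback.condition, ← Category.assoc]
      exact (congrArg (· ≫ bcA.fst y L) (hτ i)).trans (Category.id_comp _)
    have h2 := congrArg (fun k => E ≫ k ≫ pullback.fst f (S.fromSpecResidueField s)) h1
    simp only [Category.assoc, bcOver, pullback.lift_fst] at h2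
    simp only [σC, Category.assoc]
    refine h2.trans ?_
    rw [← Category.assoc, pullback.lift_fst, pullback.lift_fst]
  let σ : bcA f₁ L ⟶ bcA (g₁ ≫ f₁) L :=
    pullback.lift (pullback.lift σC (bcA.fst f₁ L) hσC) (bcA.snd f₁ L)
      (by rw [← Category.assoc, pullback.lift_snd]; exact pullback.condition)
  have hσ : σ ≫ bcG f₁ g₁ L = 𝟙 _ := by
    refine pullback.hom_ext ?_ ?_
    · rw [Category.assoc, Category.id_comp, bcG, pullback.lift_fst, pullback.lift_fst_assoc, pullback.lift_snd]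
    · rw [Category.assoc, Category.id_comp, bcG, pullback.lift_snd, pullback.lift_snd]
  have hσW : ∀ x, bcA.fst (g₁ ≫ f₁) L (σ x) ∈ W₁ := fun x => by
    show a (bcA.fst (g₁ ≫ f₁) L (σ x)) ∈ W
    rw [← Scheme.Hom.comp_apply, ← Scheme.Hom.comp_apply]
    have : σ ≫ bcA.fst (g₁ ≫ f₁) L ≫ a = σC := by
      rw [← Category.assoc, pullback.lift_fst, pullback.lift_fst]
    rw [this]
    exact hCW _
  haveI : IsProper (bcG f₁ g₁ L) := MorphismProperty.of_isPullback (isPullback_bcG f₁ g₁ L) ‹_›
  haveI : IsClosedImmersion σ := by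
    haveI : IsClosedImmersion (σ ≫ bcG f₁ g₁ L) := by rw [hσ]; infer_instance
    exact IsClosedImmersion.of_comp σ (bcG f₁ g₁ L)
  haveI : IsOpenImmersion σ := by
    let Wp := bcA.fst (g₁ ≫ f₁) L ⁻¹ᵁ W₁
    haveI : Etale (Wp.ι ≫ bcG f₁ g₁ L) := MorphismProperty.of_isPullback
      ((isPullback_morphismRestrict (bcA.fst (g₁ ≫ f₁) L) W₁).paste_vert (isPullback_bcG f₁ g₁ L)) ‹_›
    let σ' : bcA f₁ L ⟶ Wp := IsOpenImmersion.lift Wp.ι σ (by
      rw [Scheme.Opens.range_ι]
      rintro _ ⟨x, rfl⟩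
      exact hσW x)
    have hσ' : σ' ≫ Wp.ι = σ := IsOpenImmersion.lift_fac _ _ _
    haveI : Etale (σ' ≫ Wp.ι ≫ bcG f₁ g₁ L) := by rw [← Category.assoc, hσ', hσ]; infer_instance
    haveI : Etale σ' := Etale.of_comp σ' (Wp.ι ≫ bcG f₁ g₁ L)
    haveI : Etale σ := by rw [← hσ']; infer_instance
    haveI : Mono σ := mono_of_mono_fac (h := 𝟙 _) hσ
    exact IsOpenImmersion.of_flat_of_mono σ
  obtain ⟨B, _, _, hB, O₁, hO₁cl, hO₁W, hO₁iso, -, hO₁pt⟩ :=
    exists_nbhd_clopen_iso f₁ g₁ W₁ p L σ hσ hσW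
  let aB := Spec.map (CommRingCat.ofHom (algebraMap Γ(S, U) B))
  haveI : Etale aB := (HasRingHomProperty.Spec_iff (P := @Etale)).2 (RingHom.etale_algebraMap.2 hB)
  let v := aB ≫ j
  let Φ' : bcA (g₁ ≫ f₁) B ⟶ pullback (g ≫ f) v :=
    pullback.lift (bcA.fst (g₁ ≫ f₁) B ≫ a) (bcA.snd (g₁ ≫ f₁) B) (by
      simp only [v, a, Category.assoc]
      rw [pullback.condition_assoc, pullback.condition]
      show bcA.fst (g₁ ≫ f₁) B ≫ g₁ ≫ f₁ ≫ j = _
      rw [← Category.assoc g₁ f₁ j, ← Category.assoc, pullback.condition, Category.assoc])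
  let Φ : bcA f₁ B ≅ pullback f v := pullbackLeftPullbackSndIso f j aB
  have hPs : IsPullback a (g₁ ≫ f₁) (g ≫ f) j :=
    (IsPullback.of_hasPullback g (pullback.fst f j)).paste_vert (IsPullback.of_hasPullback f j)
  have hΦ' : IsPullback (bcA.fst (g₁ ≫ f₁) B ≫ a) (bcA.snd (g₁ ≫ f₁) B) (g ≫ f) v :=
    (IsPullback.of_hasPullback (g₁ ≫ f₁) aB).paste_horiz hPs
  haveI : IsIso Φ' := by
    have : Φ' = hΦ'.isoPullback.hom := pullback.hom_ext
      ((pullback.lift_fst _ _ _).trans hΦ'.isoPullback_hom_fst.symm)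
      ((pullback.lift_snd _ _ _).trans hΦ'.isoPullback_hom_snd.symm)
    rw [this]
    infer_instance
  have hΦg : Φ' ≫ bcOver f g v = bcG f₁ g₁ B ≫ Φ.hom := by
    refine pullback.hom_ext ?_ ?_
    · rw [Category.assoc, Category.assoc, bcOver, pullback.lift_fst, pullback.lift_fst_assoc,
        pullbackLeftPullbackSndIso_hom_fst, bcG, pullback.lift_fst_assoc, Category.assoc, Category.assoc,
        pullback.condition]
    · rw [Category.assoc, Category.assoc, bcOver, pullback.lift_snd, pullback.lift_snd,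
        pullbackLeftPullbackSndIso_hom_snd, bcG, pullback.lift_snd]
  have hinv : ∀ z, inv Φ' (Φ' z) = z := fun z => by
    rw [← Scheme.Hom.comp_apply, IsIso.hom_inv_id]; rfl
  refine ⟨_, v, inferInstance, inferInstance, inv Φ' ⁻¹ᵁ O₁, hO₁cl.preimage (inv Φ').continuous, ?_, ?_, ?_⟩
  · refine (Scheme.Hom.preimage_mono (inv Φ') hO₁W).trans (le_of_eq ?_)
    rw [← Scheme.Hom.comp_preimage, ← Scheme.Hom.comp_preimage]
    refine congrArg (· ⁻¹ᵁ W) ?_
    rw [Category.assoc, IsIso.inv_comp_eq, pullback.lift_fst]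
  · have sq := (isPullback_morphismRestrict (inv Φ') O₁)
    haveI : IsIso (inv Φ' ∣_ O₁) := inferInstance
    have e : (inv Φ' ⁻¹ᵁ O₁).ι ≫ bcOver f g v = (inv Φ' ∣_ O₁) ≫ (O₁.ι ≫ bcG f₁ g₁ B) ≫ Φ.hom := by
      rw [Category.assoc, ← hΦg, ← Category.assoc (inv Φ' ∣_ O₁), morphismRestrict_ι, Category.assoc,
        IsIso.inv_hom_id_assoc]
    rw [e]
    infer_instance
  · haveI : Nonempty ↥(bcA f₁ L) := by
      haveI : GeometricallyConnected (bcA.snd f₁ L) := inferInstance
      exact ⟨((bcA.snd f₁ L).surjective (IsLocalRing.closedPoint L)).choose⟩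
    obtain ⟨x⟩ := ‹Nonempty ↥(bcA f₁ L)›
    obtain ⟨o, ho, hoe⟩ := hO₁pt x
    refine ⟨Φ' o, show inv Φ' (Φ' o) ∈ O₁ by rw [hinv]; exact ho,
      pullback.fst (C.ι ≫ bcOver f g (S.fromSpecResidueField s)) (bcA.fst y L) (τ i (E x)), ?_⟩
    calc pullback.fst (g ≫ f) v (Φ' o) = a (bcA.fst (g₁ ≫ f₁) B o) := by
          rw [← Scheme.Hom.comp_apply, pullback.lift_fst, Scheme.Hom.comp_apply]
      _ = σC x := by
          rw [hoe, ← Scheme.Hom.comp_apply, ← Scheme.Hom.comp_apply, pullback.lift_fst_assoc, pullback.lift_fst]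

end Groth.Agent.H9PiOne

end
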