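import Groth.Agent.H9PiOne.Splitting
import Groth.Agent.SGA1Q.SigmaFinite
import Groth.Agent.Pi1Ext.Spread
import Groth.Prelude.Def_Pi1

/-!
# Trivial covers
-/

set_option autoImplicit false
set_option linter.style.haveILetI false
set_option linter.unusedSectionVars false
set_option backward.isDefEq.respectTransparency false
set_option backward.isDefEq.respectTransparency.types false

universe u

open CategoryTheory CategoryTheory.Limits AlgebraicGeometry TopologicalSpace Pi1

noncomputable section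

namespace Groth.Agent.H9PiOne

open Groth.Agent

attribute [-instance] CategoryTheory.catToReflQuiver

/-- The trivial cover with a given finite index set. -/
def trivCover (P : Scheme.{u}) (ι : Type u) [Finite ι] : FEt.Cat P :=
  MorphismProperty.Over.mk ⊤ (Sigma.desc fun _ : ι => 𝟙 P)
    ⟨SGA1Q.isFinite_sigmaDesc _ fun _ => inferInstance, IsZariskiLocalAtSource.sigmaDesc fun _ => inferInstance⟩

/-- A cover with a splitting is trivial. -/
theorem nonempty_iso_trivCover {P : Scheme.{u}} (V : FEt.Cat P) {ι : Type u} [Finite ι] (τ : ι → (P ⟶ V.left))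
    (h1 : ∀ i, τ i ≫ V.hom = 𝟙 P) (h2 : ∀ i j y y', τ i y = τ j y' → i = j) (h3 : ∀ z : V.left, ∃ i y, τ i y = z) :
    Nonempty (trivCover P ι ≅ V) := by
  haveI : ∀ i, IsOpenImmersion (τ i) := fun i => (isClopenEmbedding_section V (τ i) (h1 i)).1
  let d : (∐ fun _ : ι => P) ⟶ V.left := Sigma.desc τ
  haveI : IsOpenImmersion d := isOpenImmersion_sigmaDesc _ τ fun i j hij => by
    rw [Function.onFun, Set.disjoint_left]
    rintro z ⟨y, rfl⟩ ⟨y', hy'⟩
    exact hij (h2 i j y y' hy'.symm)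
  haveI : Surjective d := ⟨fun z => by
    obtain ⟨i, y, hy⟩ := h3 z
    exact ⟨Sigma.ι (fun _ : ι => P) i y, by rw [← Scheme.Hom.comp_apply, Sigma.ι_desc]; exact hy⟩⟩
  haveI : IsIso d := (isIso_iff_isOpenImmersion_and_epi_base d).2 ⟨‹_›, (TopCat.epi_iff_surjective _).2 d.surjective⟩
  refine ⟨MorphismProperty.Over.isoMk (asIso d) ?_⟩
  show d ≫ V.hom = Sigma.desc fun _ : ι => 𝟙 P
  exact Sigma.hom_ext _ _ fun i => by rw [Sigma.ι_desc_assoc, h1, Sigma.ι_desc]

/-- A cover has a splitting exactly when it is trivial. -/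
theorem HasSplitting.exists_iso {P : Scheme.{u}} {V : FEt.Cat P} (h : HasSplitting V) :
    ∃ (ι : Type u) (_ : Finite ι), Nonempty (trivCover P ι ≅ V) := by
  obtain ⟨ι, hι, τ, h1, h2, h3⟩ := h
  exact ⟨ι, hι, nonempty_iso_trivCover V τ h1 h2 h3⟩

theorem hasSplitting_trivCover (P : Scheme.{u}) (ι : Type u) [Finite ι] : HasSplitting (trivCover P ι) :=
  ⟨ι, inferInstance, fun i => Sigma.ι (fun _ : ι => P) i, fun i => Sigma.ι_desc (fun _ : ι => 𝟙 P) i, fun i j y y' h => by
    by_contra hij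
    exact ((disjoint_opensRange_sigmaι (fun _ : ι => P) i j hij).le_bot ⟨⟨y, rfl⟩, ⟨y', h.symm⟩⟩),
    fun z => (sigmaOpenCover (fun _ : ι => P)).exists_eq z⟩

/-- Trivial covers restrict to trivial covers. -/
theorem nonempty_iso_restrict_trivCover {P Q : Scheme.{u}} (q : Q ⟶ P) (ι : Type u) [Finite ι] :
    Nonempty (trivCover Q ι ≅ (FEt.restrict q).obj (trivCover P ι)) := by
  obtain ⟨-, -, -, h2, h3⟩ := hasSplitting_trivCover P ι
  let v : (∐ fun _ : ι => P) ⟶ P := Sigma.desc fun _ : ι => 𝟙 P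
  have h1 : ∀ i, Sigma.ι (fun _ : ι => P) i ≫ v = 𝟙 P := fun i => Sigma.ι_desc _ _
  let σ : ι → (Q ⟶ pullback v q) := fun i =>
    pullback.lift (q ≫ Sigma.ι (fun _ : ι => P) i) (𝟙 Q) (by rw [Category.assoc, h1, Category.comp_id, Category.id_comp])
  have hr : ∀ i, Set.range (σ i) = pullback.fst v q ⁻¹' Set.range (Sigma.ι (fun _ : ι => P) i) :=
    fun i => range_lift_section q _ (h1 i)
  refine nonempty_iso_trivCover _ σ (fun i => pullback.lift_snd _ _ _) (fun i j y y' hy => ?_) fun z => ?_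
  · obtain ⟨a, ha⟩ := (hr i).le ⟨y, rfl⟩
    obtain ⟨a', ha'⟩ := (hr j).le ⟨y', rfl⟩
    by_contra hij
    exact ((disjoint_opensRange_sigmaι (fun _ : ι => P) i j hij).le_bot
      ⟨⟨a, ha.trans (congrArg _ hy)⟩, ⟨a', ha'⟩⟩)
  · obtain ⟨i, a, ha⟩ := (sigmaOpenCover (fun _ : ι => P)).exists_eq (pullback.fst v q z)
    exact ⟨i, (hr i).ge ⟨a, ha⟩⟩

/-- Split covers in the sense of the milestones have splittings. -/
theorem hasSplitting_of_isSplit {P : Scheme.{u}} {V : FEt.Cat P} (h : Pi1.IsSplit V) : HasSplitting V := by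
  obtain ⟨ι, hι, e, he⟩ := h
  refine (hasSplitting_trivCover P ι).of_iso (MorphismProperty.Over.isoMk e.symm ?_)
  exact Sigma.hom_ext _ _ fun i => by
    show Sigma.ι (fun _ : ι => P) i ≫ e.inv ≫ V.hom = Sigma.ι (fun _ : ι => P) i ≫ Sigma.desc fun _ : ι => 𝟙 P
    rw [he, Sigma.ι_desc]

end Groth.Agent.H9PiOne

end
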