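import Groth.Agent.H9PiOne.SteinDescend
import Groth.Agent.H9PiOne.SteinForward
import Groth.Agent.H9PiOne.TrivCover
import Groth.Agent.S0075
import Groth.Agent.S1340
import Groth.Agent.Pi1Ext.UHDescent
import Groth.Agent.SteinPtLib.Conn
import Groth.Agent.SteinLib.General
import Groth.Agent.Compactify.SectStein

/-!
# A split connected part of a fibre inside the étale locus comes from an étale scheme over the base
-/

set_option autoImplicit false
set_option linter.style.haveILetI false
set_option linter.unusedSectionVars false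
set_option backward.isDefEq.respectTransparency false
set_option backward.isDefEq.respectTransparency.types false

universe u

open CategoryTheory CategoryTheory.Limits AlgebraicGeometry TopologicalSpace Pi1

noncomputable section

namespace Groth.Agent.H9PiOne

open Groth.Agent

attribute [-instance] CategoryTheory.catToReflQuiver

/-- Étale schemes descend along universal homeomorphisms. -/
theorem exists_etale_descend {N S U : Scheme.{u}} (hN : N ⟶ S) [IsIntegralHom hN] [UniversallyInjective hN]
    [Surjective hN] (u : U ⟶ N) [Etale u] :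
    ∃ (S₁ : Scheme.{u}) (e : S₁ ⟶ S) (_ : Etale e) (ψ : U ≅ pullback hN e), ψ.hom ≫ pullback.fst hN e = u := by
  haveI := S0075.result hN
  let T := (EtCoh.bc hN).objPreimage (Scheme.Etale.mk u)
  let i := (Scheme.Etale.forget N).mapIso ((EtCoh.bc hN).objObjPreimageIso (Scheme.Etale.mk u))
  refine ⟨T.left, T.hom, T.prop, ((CategoryTheory.Over.forget N).mapIso i).symm ≪≫ pullbackSymmetry T.hom hN, ?_⟩
  rw [Iso.trans_hom, Category.assoc, pullbackSymmetry_hom_comp_fst]
  exact CategoryTheory.Over.w i.inv

/-- Preconnected subsets of a fibre go to one point of a scheme integral over the base. -/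
theorem eq_of_preconnected {M S : Scheme.{u}} (m : M ⟶ S) [IsIntegralHom m] (s : S) {Z : Scheme.{u}}
    [PreconnectedSpace Z] (q : Z ⟶ M) (hq : ∀ z, m (q z) = s) (z z' : Z) : q z = q z' := by
  haveI := Compactify.totallyDisconnected_fiber_of_isIntegralHom m s
  haveI : TotallyDisconnectedSpace (m ⁻¹' {s}) := (m.fiberHomeo s).totallyDisconnectedSpace
  let k : Z → (m ⁻¹' {s} : Set M) := fun w => ⟨q w, hq w⟩
  exact congrArg Subtype.val ((isPreconnected_range (q.continuous.subtype_mk _ : Continuous k)).subsingleton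
    (Set.mem_range_self z) (Set.mem_range_self z'))

set_option maxHeartbeats 2000000 in
/-- A split connected clopen part of a fibre inside the étale locus has a neighbourhood isomorphic to the base
change of an étale scheme over the base. -/
theorem exists_etale_stage {X X' S : Scheme.{u}} (f : X ⟶ S) [IsProper f] [GeometricallyConnected f]
    (g : X' ⟶ X) [IsProper g] (W : X'.Opens) [Etale (W.ι ≫ g)] (s : S)
    (C : (pullback (g ≫ f) (S.fromSpecResidueField s)).Opens) [ConnectedSpace ↥C]
    (hCW : ∀ c : C, pullback.fst (g ≫ f) (S.fromSpecResidueField s) c.1 ∈ W)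
    (hCf : FEt.prop (C.ι ≫ bcOver f g (S.fromSpecResidueField s)))
    (hsplit : HasSplitting ((FEt.restrict (pullback.fst (pullback.snd f (S.fromSpecResidueField s))
      (Spec.map (CommRingCat.ofHom (algebraMap (S.residueField s) (AlgebraicClosure (S.residueField s))))))).obj
        (MorphismProperty.Over.mk ⊤ (C.ι ≫ bcOver f g (S.fromSpecResidueField s)) hCf))) :
    ∃ W' : X'.Opens, (∀ c : C, pullback.fst (g ≫ f) (S.fromSpecResidueField s) c.1 ∈ W') ∧
      ∃ (S₁ : Scheme.{u}) (e : S₁ ⟶ S) (_ : Etale e) (φ : (W' : Scheme.{u}) ≅ pullback f e),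
        φ.hom ≫ pullback.fst f e = W'.ι ≫ g := by
  haveI : ConnectedSpace (C : Scheme.{u}) := ‹ConnectedSpace ↥C›
  haveI : Nonempty C := ConnectedSpace.toNonempty
  obtain ⟨V, v, _, _, O, hOcl, -, _, o, ho, c₀, hc₀⟩ := exists_nbhd_copy f g W s C hCW hCf hsplit
  -- replace the base by its normalisation in `X`
  haveI := SteinLib.isProper_toNormalization f
  haveI := SteinLib.geometricallyConnected_toNormalization_general f
  haveI : Surjective (f.toNormalization ≫ f.fromNormalization) := by
    rw [Scheme.Hom.toNormalization_fromNormalization]; infer_instance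
  haveI : Surjective f.fromNormalization := Surjective.of_comp f.toNormalization f.fromNormalization
  haveI : UniversallyInjective f.fromNormalization :=
    SteinPtLib.universallyInjective_of_subsingleton _ fun K _ x =>
      SteinPtLib.subsingleton_pullback_fromNormalization f K x
  let N := f.normalization
  let f' : X ⟶ N := f.toNormalization
  let hN : N ⟶ S := f.fromNormalization
  have hf' : f' ≫ hN = f := f.toNormalization_fromNormalization
  haveI : Etale (pullback.fst hN v) := MorphismProperty.pullback_fst (P := @Etale) _ _ ‹_›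
  let v' : pullback hN v ⟶ N := pullback.fst hN v
  let iX : pullback f' v' ≅ pullback f v :=
    pullbackRightPullbackFstIso hN v f' ≪≫ pullback.congrHom hf' rfl
  let iX' : pullback (g ≫ f') v' ≅ pullback (g ≫ f) v :=
    pullbackRightPullbackFstIso hN v (g ≫ f') ≪≫ pullback.congrHom (by rw [Category.assoc, hf']) rfl
  have hXf : iX.hom ≫ pullback.fst f v = pullback.fst f' v' := by simp [iX, pullback.congrHom, v']
  have hXs : iX.hom ≫ pullback.snd f v = pullback.snd f' v' ≫ pullback.snd hN v := by simp [iX, pullback.congrHom, v']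
  have hX'f : iX'.hom ≫ pullback.fst (g ≫ f) v = pullback.fst (g ≫ f') v' := by simp [iX', pullback.congrHom, v']
  have hX's : iX'.hom ≫ pullback.snd (g ≫ f) v = pullback.snd (g ≫ f') v' ≫ pullback.snd hN v := by
    simp [iX', pullback.congrHom, v']
  have hbc : iX'.hom ≫ bcOver f g v = bcOver f' g v' ≫ iX.hom := by
    refine pullback.hom_ext ?_ ?_
    · rw [Category.assoc, Category.assoc, hXf, bcOver, pullback.lift_fst, ← Category.assoc, hX'f, bcOver,
        pullback.lift_fst]
    · rw [Category.assoc, Category.assoc, hXs, bcOver, pullback.lift_snd, hX's, bcOver, pullback.lift_snd_assoc]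
  let O' := iX'.hom ⁻¹ᵁ O
  haveI : IsIso (O'.ι ≫ bcOver f' g v') := by
    have h1 : (O'.ι ≫ bcOver f' g v') ≫ iX.hom = (iX'.hom ∣_ O) ≫ O.ι ≫ bcOver f g v := by
      rw [morphismRestrict_ι_assoc, hbc, Category.assoc]
    haveI : IsIso ((O'.ι ≫ bcOver f' g v') ≫ iX.hom) := by rw [h1]; infer_instance
    exact IsIso.of_isIso_comp_right _ iX.hom
  let o' := iX'.inv o
  have hoo : iX'.hom o' = o := by
    show (iX'.inv ≫ iX'.hom) o = o
    rw [iX'.inv_hom_id]
    rfl
  let c' : X' ⟶ pullback f' (g ≫ f').fromNormalization :=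
    pullback.lift g (g ≫ f').toNormalization (Scheme.Hom.toNormalization_fromNormalization _).symm
  haveI : IsProper (g ≫ f') := inferInstance
  obtain ⟨U', hU', _, hiso⟩ := exists_open_of_copy f' g (S1340.result f) c' (pullback.lift_fst _ _ _)
    (pullback.lift_snd _ _ _) v' O' (hOcl.preimage iX'.hom.continuous) o' (show iX'.hom o' ∈ O by rw [hoo]; exact ho)
  have hfst : pullback.fst (g ≫ f') v' o' = pullback.fst (g ≫ f) (S.fromSpecResidueField s) c₀.1 := by
    rw [← hX'f, Scheme.Hom.comp_apply, hoo, hc₀]
  rw [hfst] at hU'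
  -- descend the étale neighbourhood to the base
  let π := (g ≫ f').fromNormalization
  obtain ⟨S₁, e, he, ψ, hψ⟩ := exists_etale_descend hN (U'.ι ≫ π)
  let W' := c' ⁻¹ᵁ (pullback.snd f' π ⁻¹ᵁ U')
  refine ⟨W', fun c => ?_, S₁, e, he, ?_⟩
  · show (c' ≫ pullback.snd f' π) (pullback.fst (g ≫ f) (S.fromSpecResidueField s) c.1) ∈ U'
    rw [pullback.lift_snd]
    let q : (C : Scheme.{u}) ⟶ (g ≫ f').normalization :=
      C.ι ≫ pullback.fst (g ≫ f) (S.fromSpecResidueField s) ≫ (g ≫ f').toNormalization
    haveI : IsIntegralHom (π ≫ hN) := inferInstance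
    have hq : ∀ z, (π ≫ hN) (q z) = s := fun z => by
      rw [← Scheme.Hom.comp_apply]
      simp only [q, π, Category.assoc, Scheme.Hom.toNormalization_fromNormalization_assoc, hf']
      rw [pullback.condition, ← Category.assoc, Scheme.Hom.comp_apply]
      exact Set.mem_singleton_iff.1 (Scheme.range_fromSpecResidueField s ▸ Set.mem_range_self _)
    have := eq_of_preconnected (π ≫ hN) s q hq c c₀
    simp only [q, Scheme.Hom.comp_apply] at this
    rw [show (C.ι c : ↥(pullback (g ≫ f) (S.fromSpecResidueField s))) = c.1 from rfl,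
      show (C.ι c₀ : ↥(pullback (g ≫ f) (S.fromSpecResidueField s))) = c₀.1 from rfl] at this
    rw [this]
    exact hU'
  · haveI := hiso
    let χ : (W' : Scheme.{u}) ≅ pullback f' (U'.ι ≫ π) :=
      asIso (c' ∣_ (pullback.snd f' π ⁻¹ᵁ U')) ≪≫ (pullbackRestrictIsoRestrict (pullback.snd f' π) U').symm ≪≫
        pullbackLeftPullbackSndIso f' π U'.ι
    have hχ : χ.hom ≫ pullback.fst f' (U'.ι ≫ π) = W'.ι ≫ g := by
      simp only [χ, W', Iso.trans_hom, asIso_hom, Iso.symm_hom, Category.assoc,
        pullbackLeftPullbackSndIso_hom_fst, pullbackRestrictIsoRestrict_inv_fst_assoc, morphismRestrict_ι_assoc]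
      exact congrArg (W'.ι ≫ ·) (pullback.lift_fst _ _ _)
    haveI : IsIso ψ.hom := inferInstance
    let ρ : pullback f' (U'.ι ≫ π) ⟶ pullback f' (pullback.fst hN e) :=
      pullback.map f' (U'.ι ≫ π) f' (pullback.fst hN e) (𝟙 _) ψ.hom (𝟙 _) (by simp) (by simp [hψ])
    haveI : IsIso ρ := pullback.map_isIso _ _ _ _ _ _ _ _ _
    refine ⟨χ ≪≫ asIso ρ ≪≫ pullbackRightPullbackFstIso hN e f' ≪≫ pullback.congrHom hf' rfl, ?_⟩
    rw [← hχ]
    simp [ρ, pullback.congrHom]

end Groth.Agent.H9PiOne

end
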